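/-
Orbits of the third Conway group and its subgroups.
-/
import Cfsg.Agent.Lee.Dat

set_option autoImplicit false

namespace Cfsg.Agent.Lee

theorem c1 : orbX [] [(cu0, 88)] gco3
    [cv0] 552
    (hK [(cv0, 1766847065220292713190793564637787936341644242850596258957173354085220352), (cx1, 146150654349617582293656088644720680935574420324352)]) = true := by decide +kernel

theorem c4 : orbX [cx1] [(cu0, 88)] ghs
    [cx3,
     6613560132312233461416705440276098435808590817251560278225991989590930407475368035376538409288072543965394042889,
     cv0] 552
    (hK []) = true := by decide +kernel

theorem c4k : keyOk cx1
    [cx3,
     6613560132312233461416705440276098435808590817251560278225991989590930407475368035376538409288072543965394042889,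
     cv0] = true := by decide +kernel

theorem c5 : orbX [cv0] [(cu0, 88)] gmcl
    [cw1,
     5411124677920963041283457097753757904107998068729518883215604495890920820072860235030569867917360811280378953737,
     cx3,
     cv0] 552
    (hK []) = true := by decide +kernel

theorem c5k : keyOk cv0
    [cw1,
     5411124677920963041283457097753757904107998068729518883215604495890920820072860235030569867917360811280378953737,
     cx3,
     cv0] = true := by decide +kernel

theorem c6 : orbX [cx3] [(cv0, 80), (cu0, 88)] gu43
    [6613578480301161381923613175600557066162882093320468875370115963790414511553302059781821281901528563601866424329,
     6613560132312233461416705440276098435808590817251560278225991989590930407475368035376538409288072543965394042889,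
     cx3] 275
    (hK [(cx3, 1766847065038708464392754502360268510921619279318844408413200325174886400)]) = true := by decide +kernel

theorem c6k : keyOk cx3
    [6613578480301161381923613175600557066162882093320468875370115963790414511553302059781821281901528563601866424329,
     6613560132312233461416705440276098435808590817251560278225991989590930407475368035376538409288072543965394042889,
     cx3] = true := by decide +kernel

theorem c7 : orbX [cv0] [(cx1, 64), (cu0, 88)] gm22
    [5411124677920963041283457097753757904107998068729518883215604495890920820072860235030569867917360811280378953737,
     6012342404976614204931375930226147583890125580053858794627233820967246230449337616691144194791353500711969619978,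
     cv0] 100
    (hK [(cv0, 1766847064902118592706141651009204480821388014576630628255141937650073600)]) = true := by decide +kernel

theorem c7k : keyOk cv0
    [5411124677920963041283457097753757904107998068729518883215604495890920820072860235030569867917360811280378953737,
     6012342404976614204931375930226147583890125580053858794627233820967246230449337616691144194791353500711969619978,
     cv0] = true := by decide +kernel

end Cfsg.Agent.Lee
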