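/-
Orbits of the third Conway group.
-/
import Cfsg.Agent.Lee.Dat

set_option autoImplicit false

namespace Cfsg.Agent.Lee

theorem c2 : orbX [] [(cu0, 48)] gco3
    [cx1] 11178
    (hK [(cx1, 1766847066546024760249244347561289993051378710430210985676107223167664128)]) = true := by decide +kernel

theorem c3 : orbX [cx1] [(cu0, 48)] ghs
    [4208652527271860143220466631586256379223732528088683311865409523489965790647811938956605873109377250480437657605,
     4208652527271860143285651782844136803120657877771844196325424825503634021597544904745169555626715612047355609095,
     3006198724891657530541052566045292690343718096782613739347025873168880351270546984636510871940534603799763419143,
     cz0,
     cx1] 11178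
    (hK []) = true := by decide +kernel

theorem c3k : keyOk cx1
    [4208652527271860143220466631586256379223732528088683311865409523489965790647811938956605873109377250480437657605,
     4208652527271860143285651782844136803120657877771844196325424825503634021597544904745169555626715612047355609095,
     3006198724891657530541052566045292690343718096782613739347025873168880351270546984636510871940534603799763419143,
     cz0,
     cx1] = true := by decide +kernel

end Cfsg.Agent.Lee
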