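/-
Orbits of the second Conway group.
-/
import Cfsg.Agent.Lee.Dat

set_option autoImplicit false

namespace Cfsg.Agent.Lee

theorem c8 : orbX [] [(cv0, 48)] gco2
    [cz0] 4600
    (hK [(cz0, 1766847066210170442526803112552693713038035709964428977025763182746009600)]) = true := by decide +kernel

theorem c8b : orbX [cz0] [(cv0, 48)] gu62
    [4809888602596411592251961864670007025873776061092905673969426218569707395620320208916062104815431832249225707524,
     4208670875540756156564785044488275950130183163238349327765850008941432469835943013674993507555525411697165008901,
     4208652527551828236057877309163817319775891887169440730621726034741948365758008989269710634942069392060692627461,
     3006217073160553543950557124806134665723661068493948131674158281545845878640026382872851217993799443347008978951,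
     cz0] 4600
    (hK []) = true := by decide +kernel

theorem c8bk : keyOk cz0
    [4809888602596411592251961864670007025873776061092905673969426218569707395620320208916062104815431832249225707524,
     4208670875540756156564785044488275950130183163238349327765850008941432469835943013674993507555525411697165008901,
     4208652527551828236057877309163817319775891887169440730621726034741948365758008989269710634942069392060692627461,
     3006217073160553543950557124806134665723661068493948131674158281545845878640026382872851217993799443347008978951,
     cz0] = true := by decide +kernel

theorem c10 : orbX [cv0] [(cw1, 80)] gmcl
    [4208652527551828236057877309163817319775891887169440730621726034741948365758008989269710634942069392060692627461,
     3006217073160557815924628966641476788075299138647399335611338541041938778355501188923742093571357659375677800457,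
     cw0,
     5411124677920963041283457097753757904107998068729518883215604495890920820072860235030569867917360811280378953737] 4600
    (hK [(cv0, 421439233281757469556681525760323755360697061694085529600)]) = true := by decide +kernel

theorem c10k : keyOk cv0
    [4208652527551828236057877309163817319775891887169440730621726034741948365758008989269710634942069392060692627461,
     3006217073160557815924628966641476788075299138647399335611338541041938778355501188923742093571357659375677800457,
     cw0,
     5411124677920963041283457097753757904107998068729518883215604495890920820072860235030569867917360811280378953737] = true := by decide +kernel

theorem c11 : orbX [cw0] [(cv0, 64), (cw1, 80)] gm22
    [4809888602596411592317147015927887681354879885408457405571603102824847446050105700047111458039158713063825735688,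
     5411124677920958769309385255918415781756359998576067679278424236394827920357385428979678992339802595268890263559,
     6012342404976614204931375930226147583890125580053858794627233820967246230449337616691144194791352374812062777350,
     cw0] 2025
    (hK [(cw0, 1766847065520791594065939650358697697935645684416587332932341479138918400)]) = true := by decide +kernel

theorem c11k : keyOk cw0
    [4809888602596411592317147015927887681354879885408457405571603102824847446050105700047111458039158713063825735688,
     5411124677920958769309385255918415781756359998576067679278424236394827920357385428979678992339802595268890263559,
     6012342404976614204931375930226147583890125580053858794627233820967246230449337616691144194791352374812062777350,
     cw0] = true := by decide +kernel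

end Cfsg.Agent.Lee
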