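/-
Orbits of the McLaughlin group.
-/
import Cfsg.Agent.Lee.Dat

set_option autoImplicit false

namespace Cfsg.Agent.Lee

theorem c9 : orbX [cw1] [(cv0, 56)] gmcl
    [3006198724891657530541052566030115589623204642335126037776789588797050764279438544469808657343421369776114958345,
     3006217073160553543885370978916958291389786549620245058625907210596902970291917508266056917930283478824499216393,
     3006198725171629895287350928831610585031470281415722173273421376228142993078392818648944969780422134476508168201,
     4208652527551832508031949150968804777518145883485206979378289597902061897454832758190208093624831272566070247431,
     3006217073160557815924628966641476788075299138647399335611338541041938778355501188923742093571357659375677800457,
     cw1] 47104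
    (hK [(cw1, 1766847068032457469671637102310338685348634811799290492388865845655240704)]) = true := by decide +kernel

theorem c9k : keyOk cw1
    [3006198724891657530541052566030115589623204642335126037776789588797050764279438544469808657343421369776114958345,
     3006217073160553543885370978916958291389786549620245058625907210596902970291917508266056917930283478824499216393,
     3006198725171629895287350928831610585031470281415722173273421376228142993078392818648944969780422134476508168201,
     4208652527551832508031949150968804777518145883485206979378289597902061897454832758190208093624831272566070247431,
     3006217073160557815924628966641476788075299138647399335611338541041938778355501188923742093571357659375677800457,
     cw1] = true := by decide +kernel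

end Cfsg.Agent.Lee
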