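/-
Inner products with a minimal vector.
-/
import Cfsg.Agent.Lee.Dat

set_option autoImplicit false

namespace Cfsg.Agent.Lee

theorem hist_v0 : hist cv0 = 1766847072170371519980748658235501837928807138104438547899882888820162560 := by decide +kernel

end Cfsg.Agent.Lee
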