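/-
Inner products with a vector of type 3.
-/
import Cfsg.Agent.Lee.Dat

set_option autoImplicit false

namespace Cfsg.Agent.Lee

theorem hist_u0 : hist cu0 = 930136122444635194123436239014591252939655640950020722223858906562560 := by decide +kernel

end Cfsg.Agent.Lee
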