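/-
Primitivity from suborbit lengths and simplicity of primitive groups.
-/
import Cfsg.Agent.Gol.Gen
import Cfsg.Agent.Gol.Perm
import Cfsg.Agent.Char.Burnside

set_option autoImplicit false

namespace Cfsg.Agent.Lee

open Finset MulAction Cfsg.Agent.Gol
open scoped commutatorElement

theorem orbit_blocks {G X : Type*} [Group G] [Finite G] [MulAction G X] {x : X} {S : Set X}
    (h1 : ∀ g : G, g • x ∈ S) (h2 : ∀ y ∈ S, ∃ g : G, g • x = y) {K : Subgroup G}
    (hK : stabilizer G x ≤ K) (R : ℕ → X → Prop) (hR : ∀ i j y, R i y → R j y → i = j)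
    (hk : ∀ j, ∀ y ∈ S, ∀ y' ∈ S, R j y → R j y' → ∃ g ∈ K, g • y = y') (cnt : ℕ → ℕ) (D : Finset ℕ)
    (hc : ∀ j ∈ D, {y | y ∈ S ∧ R j y}.ncard = cnt j) (hD : ∑ j ∈ D, cnt j = S.ncard) :
    ∃ T ∈ D.powerset, (∀ j ∈ D, j ∈ T ↔ ∃ g ∈ K, R j (g • x)) ∧ (∀ y ∈ S, ∃ j ∈ D, R j y) ∧
      ∑ j ∈ T, cnt j ∣ S.ncard ∧ (∑ j ∈ T, cnt j = S.ncard → K = ⊤) := by
  classical
  have fin : S.Finite := (Set.finite_range fun g : G => g • x).subset fun y hy => h2 y hy
  have key : ∀ T ⊆ D, {y | y ∈ S ∧ ∃ j ∈ T, R j y}.ncard = ∑ j ∈ T, cnt j := fun T hT => by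
    have e : {y | y ∈ S ∧ ∃ j ∈ T, R j y} = ↑(T.biUnion fun j => fin.toFinset.filter (R j)) := by
      ext y
      simp only [Set.mem_setOf_eq, coe_biUnion, mem_coe, coe_filter, Set.Finite.mem_toFinset,
        Set.mem_iUnion]
      tauto
    rw [e, Set.ncard_coe_finset, card_biUnion fun i _ j _ hij => disjoint_left.2 fun y a b =>
      hij (hR i j y (mem_filter.1 a).2 (mem_filter.1 b).2)]
    refine sum_congr rfl fun j hj => ?_
    rw [← hc j (hT hj), ← Set.ncard_coe_finset]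
    congr 1
    ext y
    simp
  have all : ∀ y ∈ S, ∃ j ∈ D, R j y := fun y hy => by
    have := Set.eq_of_subset_of_ncard_le (s := {y | y ∈ S ∧ ∃ j ∈ D, R j y}) (t := S)
      (fun y hy => hy.1) (by rw [key D Subset.rfl, hD]) fin
    exact (this.symm ▸ hy : y ∈ {y | y ∈ S ∧ ∃ j ∈ D, R j y}).2
  let T := D.filter fun j => ∃ g ∈ K, R j (g • x)
  have e := card_eq_orbit_mul (H := K) (K := stabilizer G x) (x := x)
    (S := {y | y ∈ S ∧ ∃ j ∈ T, R j y}) (fun g => ⟨fun h => ⟨hK h, h⟩, fun h => h.2⟩)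
    (fun g hg => ⟨h1 g, by
      obtain ⟨j, a, b⟩ := all _ (h1 g)
      exact ⟨j, mem_filter.2 ⟨a, g, hg, b⟩, b⟩⟩)
    fun y hy => by
      obtain ⟨a, j, b, c⟩ := hy
      obtain ⟨-, g, hg, d⟩ := mem_filter.1 b
      obtain ⟨k, hk, rfl⟩ := hk j _ (h1 g) y a d c
      exact ⟨k * g, mul_mem hk hg, mul_smul _ _ _⟩
  rw [key T (filter_subset _ _)] at e
  have e' := card_stab_of_orbit h1 h2
  refine ⟨T, mem_powerset.2 (filter_subset _ _), fun j hj => by simp only [T, mem_filter, hj, true_and],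
    all, ?_, fun h => ?_⟩
  · have := K.card_subgroup_dvd_card
    rw [e, ← e'] at this
    exact Nat.dvd_of_mul_dvd_mul_right Nat.card_pos this
  · exact Subgroup.eq_top_of_card_eq _ (by rw [e, h, e'])

theorem coatom_of_blocks {G X : Type*} [Group G] [Finite G] [MulAction G X] {x : X} {S : Set X}
    (h1 : ∀ g : G, g • x ∈ S) (h2 : ∀ y ∈ S, ∃ g : G, g • x = y)
    (R : ℕ → X → Prop) (hR : ∀ i j y, R i y → R j y → i = j)
    (hk : ∀ j, ∀ y ∈ S, ∀ y' ∈ S, R j y → R j y' → ∃ g : G, g • x = x ∧ g • y = y') (cnt : ℕ → ℕ)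
    (D : Finset ℕ) (hc : ∀ j ∈ D, {y | y ∈ S ∧ R j y}.ncard = cnt j) {N : ℕ} (hN : S.ncard = N)
    {j0 : ℕ} (h0 : ∀ y ∈ S, R j0 y ↔ y = x) (hD : ∑ j ∈ D, cnt j = N ∧ 1 < N ∧ j0 ∈ D ∧
      ∀ T ∈ D.powerset, j0 ∈ T → ∑ j ∈ T, cnt j ∣ N → T = {j0} ∨ ∑ j ∈ T, cnt j = N) :
    IsCoatom (stabilizer G x) := by
  have hx : x ∈ S := one_smul G x ▸ h1 1
  refine ⟨fun h => ?_, fun K hK => ?_⟩
  · have : S = {x} := Set.eq_singleton_iff_unique_mem.2 ⟨hx, fun y hy => by
      obtain ⟨g, rfl⟩ := h2 y hy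
      exact (h ▸ Subgroup.mem_top g : g ∈ stabilizer G x)⟩
    rw [this, Set.ncard_singleton] at hN
    omega
  obtain ⟨T, a, b, c, d, e⟩ := orbit_blocks h1 h2 hK.le R hR (fun j y hy y' hy' r r' => by
    obtain ⟨g, p, q⟩ := hk j y hy y' hy' r r'
    exact ⟨g, hK.le p, q⟩) cnt D hc (hD.1.trans hN.symm)
  rw [hN] at d e
  refine e ((hD.2.2.2 T a ((b j0 hD.2.2.1).2 ⟨1, one_mem _, (h0 _ (h1 1)).2 (one_smul _ _)⟩) d).resolve_left
    fun h => hK.not_ge fun g hg => ?_)
  obtain ⟨j, p, q⟩ := c _ (h1 g)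
  have := (b j p).2 ⟨g, hg, q⟩
  rw [h, mem_singleton] at this
  exact (h0 _ (h1 g)).1 (this ▸ q)

theorem card_normal_of_coatom {G : Type*} [Group G] [Finite G] {H : Subgroup G} (hc : IsCoatom H)
    (hs : IsSimpleGroup H) (hn : ¬ H.Normal) {N : Subgroup G} [N.Normal] (h0 : N ≠ ⊥) (h1 : N ≠ ⊤) :
    Nat.card N = H.index := by
  rcases hs.eq_bot_or_eq_top_of_normal (N.subgroupOf H) inferInstance with h | h
  · have hd : Disjoint N H := Subgroup.subgroupOf_eq_bot.1 h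
    have ht : N ⊔ H = ⊤ := hc.2 _ (right_lt_sup.2 fun hle => h0 (hd.eq_bot_of_le hle))
    refine (Subgroup.isComplement'_of_disjoint_and_mul_eq_univ hd ?_).index_eq_card.symm
    rw [← Subgroup.normal_mul, ht, Subgroup.coe_top]
  · rcases (Subgroup.subgroupOf_eq_top.1 h).eq_or_lt with e | e
    · exact absurd (e ▸ ‹N.Normal›) hn
    · exact absurd (hc.2 _ e) h1

theorem simple_of_coatom {G : Type*} [Group G] [Finite G] {H : Subgroup G} (hc : IsCoatom H)
    (hs : IsSimpleGroup H) (hn : ¬ H.Normal)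
    (hsol : ∀ N : Subgroup G, Nat.card N = H.index → commutator N ≠ ⊤) {p q : ℕ} (hp : p.Prime)
    (hq : q.Prime) (hpq : q ≠ p) (h1 : p ∣ H.index) (h2 : q ∣ H.index) : IsSimpleGroup G := by
  haveI : Nontrivial G := by
    by_contra h
    haveI := not_nontrivial_iff_subsingleton.1 h
    exact hc.1 (Subsingleton.elim _ _)
  refine ⟨fun N hN => ?_⟩
  by_contra h
  obtain ⟨n0, n1⟩ := not_or.1 h
  have c := card_normal_of_coatom hc hs hn n0 n1
  have key : ∀ M : Subgroup N, M.Characteristic → M ≠ ⊥ → M = ⊤ := fun M hM m0 => by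
    have := card_normal_of_coatom hc hs hn (N := M.map N.subtype)
      (fun e => m0 ((Subgroup.map_eq_bot_iff_of_injective _ N.subtype_injective).1 e))
      fun e => n1 (top_le_iff.1 (e ▸ Subgroup.map_subtype_le M))
    rw [Subgroup.card_map_of_injective N.subtype_injective, ← c] at this
    exact Subgroup.eq_top_of_card_eq _ this
  have hab : commutator N = ⊥ := by
    by_contra h
    exact hsol N c (key _ inferInstance h)
  haveI := Fact.mk hp
  obtain ⟨P⟩ : Nonempty (Sylow p N) := inferInstance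
  haveI : (P : Subgroup N).Normal := ⟨fun a ha g => by
    have : ⁅g, a⁆ ∈ commutator N := Subgroup.commutator_mem_commutator (Subgroup.mem_top _) (Subgroup.mem_top _)
    rw [hab, Subgroup.mem_bot, commutatorElement_eq_one_iff_mul_comm] at this
    rwa [this, mul_inv_cancel_right]⟩
  have := key P (P.characteristic_of_normal inferInstance) (P.ne_bot_of_dvd_card (c ▸ h1))
  obtain ⟨k, hk⟩ := P.isPGroup'.exists_card_eq
  rw [this, Subgroup.card_top, c] at hk
  exact hpq ((Nat.prime_dvd_prime_iff_eq hq hp).1 (hq.dvd_of_dvd_pow (hk ▸ h2)))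

theorem comm_ne_top_two {G : Type*} [Group G] [Finite G] {p q a b : ℕ} (hp : p.Prime) (hq : q.Prime)
    (h : Nat.card G = p ^ a * q ^ b) (h1 : 1 < p ^ a * q ^ b) : commutator G ≠ ⊤ := by
  haveI := Char.isSolvable_of_card_dvd_pow_mul_pow hp hq G h.dvd
  haveI : Nontrivial G := Finite.one_lt_card_iff_nontrivial.1 (h ▸ h1)
  exact (Group.IsSolvable.commutator_lt_top_of_nontrivial G).ne

theorem comm_ne_top_odd {G : Type*} [Group G] [Finite G] {m : ℕ} (h : Nat.card G = 2 * m)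
    (hm : m % 2 = 1) : commutator G ≠ ⊤ := by
  obtain ⟨P⟩ : Nonempty (Sylow 2 G) := inferInstance
  have c : Nat.card P = 2 := by
    rw [P.card_eq_multiplicity, h, Nat.factorization_mul (by norm_num) (by omega),
      Finsupp.add_apply, Nat.prime_two.factorization_self,
      Nat.factorization_eq_zero_of_not_dvd (by omega)]
    rfl
  haveI : IsCyclic P := isCyclic_of_prime_card c
  have hc := IsCyclic.isComplement' (P := P) (by rw [h]; exact Nat.minFac_eq_two_iff _ |>.2 ⟨m, rfl⟩)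
    inferInstance
  intro e
  have h2 := hc.symm.index_eq_card
  rw [c] at h2
  obtain ⟨K, h2⟩ : ∃ K : Subgroup G, K.index = 2 := ⟨_, h2⟩
  have : commutator G ≤ K := by
    haveI := Subgroup.normal_of_index_eq_two h2
    rw [commutator, Subgroup.commutator_le]
    intro a _ b _
    rw [commutatorElement_def]
    simp only [Subgroup.mul_mem_iff_of_index_two h2, inv_mem_iff]
    tauto
  rw [e, top_le_iff] at this
  rw [this, Subgroup.index_top] at h2
  omega

end Cfsg.Agent.Lee
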