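/-
Standard configurations of short vectors; the groups HS, McL, Co3, Co2.
-/
import Cfsg.Agent.Lee.H1
import Cfsg.Agent.Lee.H2
import Cfsg.Agent.Lee.C1
import Cfsg.Agent.Lee.C2
import Cfsg.Agent.Lee.C3
import Cfsg.Agent.Lee.C4
import Cfsg.Agent.Lee.Prim
import Cfsg.Agent.Gol.Simp

set_option autoImplicit false

namespace Cfsg.Agent.Lee

open Cfsg Cfsg.Agent.Gol Finset MulAction
open scoped Pointwise

theorem lv_of {v : Λ} {c : ℕ} (h : sqNorm (v : V) ≤ 64) (e : enc v = c) : lv c = v :=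
  e ▸ lv_enc (bd_of_norm h)

theorem lv_v0 : lv cv0 = v0 := lv_of (by rw [nm_v0]; norm_num) (by decide +kernel)
theorem lv_w0 : lv cw0 = w0 := lv_of (by rw [nm_w0]; norm_num) (by decide +kernel)
theorem lv_u0 : lv cu0 = u0 := lv_of (by rw [nm_u0]; norm_num) (by decide +kernel)

theorem dot_u0_v0 : dotInt (u0 : V) (v0 : V) = 24 := by decide +kernel
theorem dot_u0_w0 : dotInt (u0 : V) (w0 : V) = 16 := by decide +kernel
theorem dot_v0_w0 : dotInt (v0 : V) (w0 : V) = 0 := by decide +kernel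

theorem nm_w1 : sqNorm ((u0 - v0 : Λ) : V) = 32 := by decide +kernel

theorem lv_w1 : lv cw1 = u0 - v0 := lv_of (by rw [nm_w1]; norm_num) (by decide +kernel)
theorem lv_x1 : lv cx1 = -w0 := lv_of (by decide +kernel) (by decide +kernel)

theorem mem_XC1 {a d : ℕ} {y : Λ} :
    y ∈ XC [(a, d)] ↔ sqNorm (y : V) = 32 ∧ dotInt (lv a : V) (y : V) = (d : ℤ) - 64 := by
  simp [XC, XV]

theorem mem_XC2 {a d b e : ℕ} {y : Λ} : y ∈ XC [(a, d), (b, e)] ↔ sqNorm (y : V) = 32 ∧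
    dotInt (lv a : V) (y : V) = (d : ℤ) - 64 ∧ dotInt (lv b : V) (y : V) = (e : ℤ) - 64 := by
  simp [XC, XV]

theorem mem_XC3 {a d b e c f : ℕ} {y : Λ} : y ∈ XC [(a, d), (b, e), (c, f)] ↔ sqNorm (y : V) = 32 ∧
    dotInt (lv a : V) (y : V) = (d : ℤ) - 64 ∧ dotInt (lv b : V) (y : V) = (e : ℤ) - 64 ∧
      dotInt (lv c : V) (y : V) = (f : ℤ) - 64 := by
  simp [XC, XV]

theorem ncard_tr (g : Co0) {P Q : Λ → Prop} (h : ∀ x, P (g • x) ↔ Q x) :
    {x | P x}.ncard = {x | Q x}.ncard :=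
  (ncard_smul_eq g _).trans (congrArg _ (Set.ext h))

theorem dot_self_iff {x y : Λ} (hx : sqNorm (x : V) = 32) (hy : sqNorm (y : V) = 32) :
    dotInt (x : V) (y : V) = 32 ↔ y = x := by
  refine ⟨fun h => Subtype.ext (sub_eq_zero.1 (sqNorm_eq_zero ?_)).symm, fun h => ?_⟩
  · rw [sqNorm_sub]; omega
  · rw [h, ← sqNorm_eq_dot, hx]

theorem nm_sub_iff {u v : V} (hu : sqNorm u = 48) (hv : sqNorm v = 32) :
    sqNorm (u - v) = 32 ↔ dotInt u v = 24 := by
  rw [sqNorm_sub]; omega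

theorem ncard_dot32 {v : Λ} (hv : sqNorm (v : V) = 32) (j : ℕ) :
    {w : Λ | sqNorm (w : V) = 32 ∧ dotInt (v : V) (w : V) = 8 * j - 64}.ncard =
      hist cv0 / (2 ^ 20) ^ j % 2 ^ 20 := by
  obtain ⟨g, rfl⟩ := trans2 hv
  rw [← ncard_dot ok_vec.1 rfl j, lv_v0]
  exact ncard_tr g fun x => by simp

theorem n552 : (XC [(cu0, 88)]).ncard = 552 := (ncard_XC1 ok_vec.2.2.1 hist_u0 11).trans (by norm_num)
theorem n11178 : (XC [(cu0, 48)]).ncard = 11178 :=
  (ncard_XC1 ok_vec.2.2.1 hist_u0 6).trans (by norm_num)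
theorem n47104 : (XC [(cv0, 56)]).ncard = 47104 := (ncard_XC1 ok_vec.1 hist_v0 7).trans (by norm_num)
theorem n4600 : (XC [(cv0, 48)]).ncard = 4600 := (ncard_XC1 ok_vec.1 hist_v0 6).trans (by norm_num)
theorem n4600' : (XC [(cw1, 80)]).ncard = 4600 := by
  have := ncard_dot32 nm_w1 10
  rw [hist_v0] at this
  refine Eq.trans (congrArg _ (Set.ext fun y => ?_)) (this.trans (by norm_num))
  rw [mem_XC1, lv_w1]
  rfl
theorem n275 : (XC [(cv0, 80), (cu0, 88)]).ncard = 275 :=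
  (orbX_hist c1 n552 List.mem_cons_self 10).trans (by norm_num)
theorem n100 : (XC [(cx1, 64), (cu0, 88)]).ncard = 100 :=
  (orbX_hist c1 n552 (List.mem_cons_of_mem _ List.mem_cons_self) 8).trans (by norm_num)
theorem n2025 : (XC [(cv0, 64), (cw1, 80)]).ncard = 2025 :=
  (orbX_hist c10 n4600' List.mem_cons_self 8).trans (by norm_num)

theorem std24 {u v : Λ} (hu : sqNorm (u : V) = 48) (hv : sqNorm (v : V) = 32)
    (hd : dotInt (u : V) (v : V) = 24) : ∃ g : Co0, g • u0 = u ∧ g • v0 = v := by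
  obtain ⟨g, rfl⟩ := trans3 hu
  obtain ⟨y, rfl⟩ := MulAction.surjective g v
  obtain ⟨k, a, rfl⟩ := orbX_one c1 n552 y (mem_XC1.2 ⟨by simpa using hv, by simpa [lv_u0] using hd⟩)
  exact ⟨g * k, by rw [mul_smul, ← lv_u0, a _ (by simp)], by rw [mul_smul, lv_v0]⟩

theorem std8 {v w : Λ} (hv : sqNorm (v : V) = 32) (hw : sqNorm (w : V) = 32)
    (hd : dotInt (v : V) (w : V) = -8) : ∃ g : Co0, g • v0 = v ∧ g • (u0 - v0) = w := by
  obtain ⟨g, a, b⟩ := std24 (u := v + w) (v := v) (by rw [AddSubgroup.coe_add, sqNorm_add]; omega) hv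
    (by rw [AddSubgroup.coe_add, add_dot, ← sqNorm_eq_dot, dot_comm]; omega)
  exact ⟨g, b, by rw [co_sub, a, b, add_sub_cancel_left]⟩

theorem std16 {v w : Λ} (hv : sqNorm (v : V) = 32) (hw : sqNorm (w : V) = 32)
    (hd : dotInt (v : V) (w : V) = -16) : ∃ g : Co0, g • v0 = v ∧ g • lv cz0 = w := by
  obtain ⟨g, rfl⟩ := trans2 hv
  obtain ⟨y, rfl⟩ := MulAction.surjective g w
  obtain ⟨k, a, rfl⟩ := orbX_one c8 n4600 y (mem_XC1.2 ⟨by simpa using hw, by simpa [lv_v0] using hd⟩)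
  exact ⟨g * k, by rw [mul_smul, ← lv_v0, a _ (by simp)], by rw [mul_smul]⟩

theorem std3m {u x : Λ} (hu : sqNorm (u : V) = 48) (hx : sqNorm (x : V) = 32)
    (hd : dotInt (u : V) (x : V) = -16) : ∃ g : Co0, g • u0 = u ∧ g • (-w0) = x := by
  obtain ⟨g, rfl⟩ := trans3 hu
  obtain ⟨y, rfl⟩ := MulAction.surjective g x
  obtain ⟨k, a, rfl⟩ := orbX_one c2 n11178 y (mem_XC1.2 ⟨by simpa using hx, by simpa [lv_u0] using hd⟩)
  exact ⟨g * k, by rw [mul_smul, ← lv_u0, a _ (by simp)], by rw [mul_smul, lv_x1]⟩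

theorem stdHS {v w : Λ} (hv : sqNorm (v : V) = 48) (hw : sqNorm (w : V) = 48)
    (hd : dotInt (v : V) (w : V) = -32) : ∃ g : Co0, g • u0 = v ∧ g • (w0 - u0) = w := by
  obtain ⟨g, a, b⟩ := std3m (u := v) (x := -(v + w)) hv
    (by rw [AddSubgroup.coe_neg, sqNorm_neg, AddSubgroup.coe_add, sqNorm_add]; omega)
    (by rw [AddSubgroup.coe_neg, dot_neg, AddSubgroup.coe_add, dot_add, ← sqNorm_eq_dot]; omega)
  rw [co_neg, neg_inj] at b
  exact ⟨g, a, by rw [co_sub, a, b, add_sub_cancel_left]⟩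

/-! ### transitivity on classes -/

theorem tr_hs552 {y y' : Λ} (hy : sqNorm (y : V) = 32) (hy' : sqNorm (y' : V) = 32)
    (h : dotInt (u0 : V) (y : V) = 24) (h' : dotInt (u0 : V) (y' : V) = 24)
    (e : dotInt (w0 : V) (y : V) = dotInt (w0 : V) (y' : V)) :
    ∃ g : Co0, g • u0 = u0 ∧ g • w0 = w0 ∧ g • y = y' := by
  obtain ⟨g, a, b⟩ := orbX_key c4 n552 c4k y (mem_XC1.2 ⟨hy, by simpa [lv_u0]⟩) y'
    (mem_XC1.2 ⟨hy', by simpa [lv_u0]⟩) (by simp [lv_x1, neg_dot, e])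
  simp only [mem_FV, List.map, List.forall_mem_cons, lv_x1, lv_u0, co_neg, neg_inj] at a
  exact ⟨g, a.2.1, a.1, b⟩

theorem tr_mcl552 {y y' : Λ} (hy : sqNorm (y : V) = 32) (hy' : sqNorm (y' : V) = 32)
    (h : dotInt (u0 : V) (y : V) = 24) (h' : dotInt (u0 : V) (y' : V) = 24)
    (e : dotInt (v0 : V) (y : V) = dotInt (v0 : V) (y' : V)) :
    ∃ g : Co0, g • u0 = u0 ∧ g • v0 = v0 ∧ g • y = y' := by
  obtain ⟨g, a, b⟩ := orbX_key c5 n552 c5k y (mem_XC1.2 ⟨hy, by simpa [lv_u0]⟩) y'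
    (mem_XC1.2 ⟨hy', by simpa [lv_u0]⟩) (by simp [lv_v0, e])
  simp only [mem_FV, List.map, List.forall_mem_cons, lv_v0, lv_u0] at a
  exact ⟨g, a.2.1, a.1, b⟩

theorem tr_hs11178 {y y' : Λ} (hy : sqNorm (y : V) = 32) (hy' : sqNorm (y' : V) = 32)
    (h : dotInt (u0 : V) (y : V) = -16) (h' : dotInt (u0 : V) (y' : V) = -16)
    (e : dotInt (w0 : V) (y : V) = dotInt (w0 : V) (y' : V)) :
    ∃ g : Co0, g • u0 = u0 ∧ g • w0 = w0 ∧ g • y = y' := by
  obtain ⟨g, a, b⟩ := orbX_key c3 n11178 c3k y (mem_XC1.2 ⟨hy, by simpa [lv_u0]⟩) y'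
    (mem_XC1.2 ⟨hy', by simpa [lv_u0]⟩) (by simp [lv_x1, neg_dot, e])
  simp only [mem_FV, List.map, List.forall_mem_cons, lv_x1, lv_u0, co_neg, neg_inj] at a
  exact ⟨g, a.2.1, a.1, b⟩

theorem fix_sub {g : Co0} {u v : Λ} (h : g • v = v) : g • (u - v) = u - v ↔ g • u = u := by
  rw [co_sub, h, sub_left_inj]

theorem tr_mcl4600 {y y' : Λ} (hy : sqNorm (y : V) = 32) (hy' : sqNorm (y' : V) = 32)
    (h : dotInt ((u0 - v0 : Λ) : V) (y : V) = 16) (h' : dotInt ((u0 - v0 : Λ) : V) (y' : V) = 16)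
    (e : dotInt (v0 : V) (y : V) = dotInt (v0 : V) (y' : V)) :
    ∃ g : Co0, g • u0 = u0 ∧ g • v0 = v0 ∧ g • y = y' := by
  obtain ⟨g, a, b⟩ := orbX_key c10 n4600' c10k y (mem_XC1.2 ⟨hy, by rw [lv_w1, h]; rfl⟩) y'
    (mem_XC1.2 ⟨hy', by rw [lv_w1, h']; rfl⟩) (by simp [lv_v0, e])
  simp only [mem_FV, List.map, List.forall_mem_cons, lv_v0, lv_w1] at a
  exact ⟨g, (fix_sub a.1).1 a.2.1, a.1, b⟩

/-! ### simplicity -/

theorem simple_step {A B : Subgroup Co0} {x N H : ℕ} {F : List (ℕ × ℕ)} {cs reps : List ℕ}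
    (h : orbX [x] F cs reps N (hK []) = true ∨ orbX [x] F cs reps N (hK [(x, H)]) = true)
    (hk : keyOk x reps = true) (hN : (XC F).ncard = N)
    (hH : ∀ j, (XC ((x, 8 * j) :: F)).ncard = H / (2 ^ 20) ^ j % 2 ^ 20)
    (hA : A = FV ((F.map Prod.fst).map lv)) (hB : B = FV ((x :: F.map Prod.fst).map lv))
    (hx : inX F x = true) (ht : ∀ y ∈ XC F, ∃ g ∈ A, g • lv x = y) (D : Finset ℕ)
    (hD : ∑ j ∈ D, H / (2 ^ 20) ^ j % 2 ^ 20 = N ∧ 1 < N ∧ 12 ∈ D ∧ ∀ T ∈ D.powerset, 12 ∈ T →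
      ∑ j ∈ T, H / (2 ^ 20) ^ j % 2 ^ 20 ∣ N → T = {12} ∨ ∑ j ∈ T, H / (2 ^ 20) ^ j % 2 ^ 20 = N)
    (hj : ∃ j ∈ D, 1 < H / (2 ^ 20) ^ j % 2 ^ 20) (hs : IsSimpleGroup B)
    (hsol : ∀ N' : Subgroup A, Nat.card N' = N → commutator N' ≠ ⊤) {p q : ℕ} (hp : p.Prime)
    (hq : q.Prime) (hpq : q ≠ p) (h1 : p ∣ N) (h2 : q ∣ N) :
    IsSimpleGroup A ∧ Nat.card A = N * Nat.card B := by
  have hx := inX_sound hx
  have k1 : ∀ g : A, g • lv x ∈ XC F := fun g => XC_smul (E := []) (hA ▸ g.2) hx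
  have k2 : ∀ y ∈ XC F, ∃ g : A, g • lv x = y := fun y hy => by
    obtain ⟨g, a, b⟩ := ht y hy
    exact ⟨⟨g, a⟩, b⟩
  have hB' : ∀ g, g ∈ B ↔ g ∈ A ∧ g • lv x = lv x := fun g => by
    simp only [hA, hB, mem_FV, List.map_cons, List.forall_mem_cons, and_comm]
  have k3 : ∀ j : ℕ, ∀ y ∈ XC F, ∀ y' ∈ XC F, dotInt (lv x : V) (y : V) = 8 * j - 64 →
      dotInt (lv x : V) (y' : V) = 8 * j - 64 → ∃ g : A, g • lv x = lv x ∧ g • y = y' :=
    fun j y hy y' hy' a b => by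
      obtain ⟨g, c, d⟩ : ∃ g ∈ B, g • y = y' := hB ▸ h.elim
        (fun h => orbX_key h hN hk y hy y' hy' (a.trans b.symm))
        fun h => orbX_key h hN hk y hy y' hy' (a.trans b.symm)
      exact ⟨⟨g, ((hB' g).1 c).1⟩, ((hB' g).1 c).2, d⟩
  have k4 : ∀ j : ℕ, {y | y ∈ XC F ∧ dotInt (lv x : V) (y : V) = 8 * j - 64}.ncard =
      H / (2 ^ 20) ^ j % 2 ^ 20 := fun j => by
    rw [← hH, XC_cons]
    push_cast
    rfl
  have hc := coatom_of_blocks k1 k2 (fun j y => dotInt (lv x : V) (y : V) = 8 * j - 64)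
    (fun i j y a b => by omega) k3 _ D (fun j _ => k4 j) hN (j0 := 12)
    (fun y hy => dot_self_iff hx.1 hy.1) hD
  have hi : (stabilizer A (lv x)).index = N := by
    rw [index_stabilizer, ← hN]
    exact congrArg _ (Set.ext fun y => ⟨by rintro ⟨g, rfl⟩; exact k1 g, k2 y⟩)
  have e : stabilizer A (lv x) = B.subgroupOf A := Subgroup.ext fun g => by
    rw [Subgroup.mem_subgroupOf, hB', mem_stabilizer_iff]
    exact ⟨fun h => ⟨g.2, h⟩, fun h => h.2⟩
  have iso : stabilizer A (lv x) ≃* B := (MulEquiv.subgroupCongr e).trans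
    (Subgroup.subgroupOfEquivOfLe fun g hg => ((hB' g).1 hg).1)
  refine ⟨simple_of_coatom hc iso.isSimpleGroup (fun hn => ?_) (hi ▸ hsol) hp hq hpq (hi ▸ h1)
    (hi ▸ h2), by rw [← hi, ← Nat.card_congr iso.toEquiv, Subgroup.index_mul_card]⟩
  obtain ⟨j, -, b⟩ := hj
  rw [← k4, Set.one_lt_ncard_iff (fin_min.subset fun y hy => hy.1.1)] at b
  obtain ⟨y, y', a, b, c⟩ := b
  obtain ⟨g, d, rfl⟩ := k3 j y a.1 y' b.1 a.2 b.2
  obtain ⟨k, rfl⟩ := k2 y a.1
  have := hn.conj_mem g d k⁻¹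
  rw [mem_stabilizer_iff, inv_inv, mul_smul, mul_smul, inv_smul_eq_iff] at this
  exact c this.symm

/-- the stabiliser of three vectors which is the monomial `M₂₂` -/
def G22 : Subgroup Co0 := FV [u0, v0, w0]

theorem mem_G22 {g : Co0} : g ∈ G22 ↔ ∃ σ ∈ St 8388609 [], g = mono σ CW.empty := by
  have e0 : ∀ p, p ∈ toF 8388609 ↔ p = pt 23 ∨ p = pt 0 := by decide +kernel
  have w : w0 = e8 (pt 23) - v0 := by rw [← v0_add_w0, add_sub_cancel_left]
  simp only [G22, mem_FV, List.forall_mem_cons, mem_St, e0, forall_eq_or_imp, forall_eq]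
  constructor
  · rintro ⟨a, b, c, -⟩
    have d : g • e8 (pt 23) = e8 (pt 23) := by rw [← v0_add_w0, co_add, b, c]
    obtain ⟨σ, s, hs, rfl⟩ := mem_Mon.1 (stab_e8_le _ d)
    obtain ⟨d1, d2⟩ := mono_e8_eq.1 d
    obtain rfl : s = ∅ := eq_empty_of_forall_notMem fun p hp => by
      obtain ⟨q, rfl⟩ := MulAction.surjective σ p
      have := mono_apply σ hs u0 q
      rw [a, if_pos hp, u0_apply, u0_apply] at this
      split_ifs at this <;> omega
    refine ⟨σ, ⟨⟨d1, ?_⟩, by simp⟩, rfl⟩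
    have := mono_apply σ hs v0 (pt 0)
    rw [b, if_neg (notMem_empty _)] at this
    by_contra h
    have h' : σ • pt 0 ≠ pt 23 := fun e => ne230 (smul_left_cancel σ (d1.trans e.symm))
    simp [v0, p4_coe, Pi.single_apply, h, h', ne230.symm] at this
  · rintro ⟨σ, ⟨⟨a, b⟩, -⟩, rfl⟩
    have k : ∀ v : Λ, (∀ p, (v : V) (σ • p) = (v : V) p) → mono σ CW.empty • v = v := fun v h =>
      Subtype.ext (funext fun p => by
        obtain ⟨q, rfl⟩ := MulAction.surjective σ p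
        rw [mono_apply, if_neg (notMem_empty _), h])
    have a' : ∀ p, σ • p = pt 23 ↔ p = pt 23 := fun p => by rw [← smul_left_cancel_iff σ (x := p), a]
    have b' : ∀ p, σ • p = pt 0 ↔ p = pt 0 := fun p => by rw [← smul_left_cancel_iff σ (x := p), b]
    exact ⟨k _ fun p => by simp only [u0_apply, a'],
      k _ fun p => by simp only [v0, p4_coe, Pi.add_apply, Pi.single_apply, a', b'],
      k _ fun p => by simp only [w0, p4_coe, Pi.add_apply, Pi.single_apply, a', b'], by simp⟩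

theorem mono_mul (σ τ : M24) : mono (σ * τ) CW.empty = mono σ CW.empty * mono τ CW.empty :=
  co_ext fun v => Subtype.ext (funext fun p => by
    obtain ⟨q, rfl⟩ := MulAction.surjective (σ * τ) p
    simp only [mono_apply]
    rw [mul_smul, mul_smul, mono_apply, mono_apply]
    simp)

/-- the permutation matrices -/
noncomputable def monoH : M24 →* Co0 := MonoidHom.mk' (fun σ => mono σ CW.empty) mono_mul

theorem monoH_inj : Function.Injective monoH := fun _ _ h =>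
  (mono_inj (hc := CW.empty) (hd := CW.empty) h).1

theorem G22_eq : G22 = (St 8388609 []).map monoH := Subgroup.ext fun g =>
  mem_G22.trans ⟨fun ⟨σ, a, b⟩ => ⟨σ, a, b.symm⟩, fun ⟨σ, a, b⟩ => ⟨σ, a, b.symm⟩⟩

theorem G22_iso : Nonempty (St 8388609 [] ≃* G22) :=
  ⟨((St 8388609 []).equivMapOfInjective _ monoH_inj).trans (MulEquiv.subgroupCongr G22_eq.symm)⟩

theorem simple_G22 : IsSimpleGroup G22 := by
  obtain ⟨e⟩ := G22_iso
  haveI := simple_m22
  exact e.symm.isSimpleGroup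

theorem card_G22 : Nat.card G22 = 443520 := by
  obtain ⟨e⟩ := G22_iso
  rw [← Nat.card_congr e.toEquiv, card_m22]

theorem isHS : IsHS ↥(stabilizer Co0 u0 ⊓ stabilizer Co0 w0) := by
  have := simple_step (A := stabilizer Co0 u0 ⊓ stabilizer Co0 w0) (B := G22) (Or.inr c7) c7k n100
    (orbX_hist c7 n100 List.mem_cons_self)
    (Subgroup.ext fun g => by simp [mem_FV, lv_x1, lv_u0, co_neg, and_comm])
    (Subgroup.ext fun g => by simp only [G22, mem_FV, List.map, List.forall_mem_cons, lv_x1, lv_u0, lv_v0, co_neg, neg_inj]; tauto)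
    (by decide +kernel) (fun y hy => by
      simp only [mem_XC2, lv_x1, lv_u0, AddSubgroup.coe_neg, neg_dot] at hy
      obtain ⟨g, a, b, c⟩ := tr_hs552 nm_v0 hy.1 dot_u0_v0 hy.2.2 (by
        rw [dot_comm, dot_v0_w0]; omega)
      exact ⟨g, ⟨a, b⟩, by rw [lv_v0, c]⟩) {9, 10, 12} (by decide +kernel) (by decide +kernel) simple_G22
    (fun N h => comm_ne_top_two (a := 2) (b := 2) Nat.prime_two Nat.prime_five h (by norm_num))
    Nat.prime_two Nat.prime_five (by norm_num) (by norm_num) (by norm_num)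
  exact ⟨this.1, by rw [this.2, card_G22]⟩

theorem isMcL : IsMcL ↥(stabilizer Co0 u0 ⊓ stabilizer Co0 v0) := by
  have := simple_step (A := stabilizer Co0 u0 ⊓ stabilizer Co0 v0) (B := G22) (Or.inr c11) c11k n2025
    (orbX_hist c11 n2025 List.mem_cons_self)
    (Subgroup.ext fun g => by
      simp only [mem_FV, List.map, List.forall_mem_cons, lv_w1, lv_v0, Subgroup.mem_inf,
        mem_stabilizer_iff]
      have := fix_sub (g := g) (u := u0) (v := v0)
      tauto)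
    (Subgroup.ext fun g => by
      simp only [G22, mem_FV, List.map, List.forall_mem_cons, lv_w1, lv_v0, lv_w0]
      have := fix_sub (g := g) (u := u0) (v := v0)
      tauto)
    (by decide +kernel) (fun y hy => by
      simp only [mem_XC2, lv_w1, lv_v0] at hy
      obtain ⟨g, a, b, c⟩ := tr_mcl4600 nm_w0 hy.1 (by decide +kernel) hy.2.2 (by
        rw [dot_v0_w0, hy.2.1]; rfl)
      exact ⟨g, ⟨a, b⟩, by rw [lv_w0, c]⟩) {8, 9, 10, 12} (by decide +kernel) (by decide +kernel)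
    simple_G22
    (fun N h => comm_ne_top_two (a := 4) (b := 2) Nat.prime_three Nat.prime_five h (by norm_num))
    Nat.prime_three Nat.prime_five (by norm_num) (by norm_num) (by norm_num)
  exact ⟨this.1, by rw [this.2, card_G22]⟩

theorem simple_Co3 : IsSimpleGroup (stabilizer Co0 u0) :=
  (simple_step (B := stabilizer Co0 u0 ⊓ stabilizer Co0 w0) (Or.inl c3) c3k n11178
    (orbX_hist c2 n11178 List.mem_cons_self)
    (Subgroup.ext fun g => by simp [mem_FV, lv_u0])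
    (Subgroup.ext fun g => by simp [mem_FV, lv_x1, lv_u0, co_neg, and_comm])
    (by decide +kernel) (fun y hy => by
      simp only [mem_XC1, lv_u0] at hy
      obtain ⟨g, a, b⟩ := std3m nm_u0 hy.1 hy.2
      exact ⟨g, a, by rw [lv_x1, b]⟩) {7, 8, 9, 10, 12} (by decide +kernel) (by decide +kernel) isHS.1
    (fun N h => comm_ne_top_odd (m := 5589) h rfl)
    Nat.prime_two Nat.prime_three (by norm_num) (by norm_num) (by norm_num)).1

theorem simple_Co2 : IsSimpleGroup (stabilizer Co0 v0) :=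
  (simple_step (B := stabilizer Co0 u0 ⊓ stabilizer Co0 v0) (Or.inr c9) c9k n47104
    (orbX_hist c9 n47104 List.mem_cons_self)
    (Subgroup.ext fun g => by simp [mem_FV, lv_v0])
    (Subgroup.ext fun g => by
      simp only [mem_FV, List.map, List.forall_mem_cons, lv_w1, lv_v0, Subgroup.mem_inf,
        mem_stabilizer_iff]
      have := fix_sub (g := g) (u := u0) (v := v0)
      tauto)
    (by decide +kernel) (fun y hy => by
      simp only [mem_XC1, lv_v0] at hy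
      obtain ⟨g, a, b⟩ := std8 nm_v0 hy.1 hy.2
      exact ⟨g, a, by rw [lv_w1, b]⟩) {6, 7, 8, 9, 10, 12} (by decide +kernel) (by decide +kernel)
    isMcL.1 (fun N h => comm_ne_top_two (a := 11) (b := 1) (q := 23) Nat.prime_two (by norm_num) h
      (by norm_num))
    (q := 23) Nat.prime_two (by norm_num) (by norm_num) (by norm_num) (by norm_num)).1

end Cfsg.Agent.Lee
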