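/-
A fixed point free involution of HS; orbits as classes.
-/
import Cfsg.Agent.Lee.Spor

set_option autoImplicit false

namespace Cfsg.Agent.Lee

open Cfsg Cfsg.Agent.Gol Finset MulAction
open scoped Pointwise

def cinv : ℕ := 384390863207648834022275477865085066184377969129185003415218943274738587565513749206290581252947611966104075936756778589488090795168089085497315846878383684581705089554421023822843347076046749528231898946508281927773325298134137147700902734663190072414518636532881481134597830458664519184303650125071523635231101747079873867186837192630073488072387094610227820608137956004432308046606386526002724453360537510141334929220944554775098296548638445396624562782943898059213637034212361700644303286853928175440014890138014832025642838192305232136694102821948207610286929583202041877141600051719878445920393027895129237906563942087346589248391284045138542458421970886773825482813583372066802713950828887028017350428284916151674592138362042275805604685545897518816463155706582578001674235775318648021326002128918788650082879170043147079823463863519071634553161786636203500845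

theorem c12 : orbX [cv0] [(cx1, 64), (cu0, 88)] gm22
    [5411124677920963041283457097753757904107998068729518883215604495890920820072860235030569867917360811280378953737,
     6012342404976614204931375930226147583890125580053858794627233820967246230449337616691144194791353500711969619978,
     cv0] 100
    (fun l => lall (fun n => bif' (Nat.beq (act cinv (uns n)) (uns n)) false true) l) = true := by
  decide +kernel

theorem cinv_ok : fixOk [cu0, cw0] cinv = true ∧
    lall (fun n => Nat.beq (act cinv (act cinv n)) n) genLit = true := by decide +kernel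

theorem co_sq {c : ℕ} (h : okC c = true)
    (h2 : lall (fun n => Nat.beq (act c (act c n)) n) genLit = true) : co c * co c = 1 :=
  gen_ext fun n hn => by
    obtain ⟨-, a, b⟩ := gen_ok' hn
    rw [one_smul, mul_smul]
    refine enc_inj (by simpa using a) a ?_
    rw [enc_co h (by simpa using a), enc_co h a, b]
    exact Nat.eq_of_beq_eq_true (lall_iff.1 h2 n hn)

theorem hs_inv : ∃ g : Co0, g • u0 = u0 ∧ g • w0 = w0 ∧ g * g = 1 ∧
    ∀ y ∈ XC [(cx1, 64), (cu0, 88)], g • y ≠ y := by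
  obtain ⟨a, b⟩ := fixOk_sound cinv_ok.1
  simp only [mem_FV, List.map, List.forall_mem_cons, lv_u0, lv_w0] at b
  refine ⟨_, b.1, b.2.1, co_sq a cinv_ok.2, fun y hy e => ?_⟩
  obtain ⟨l, h1, h2⟩ := (orbX_sound c12 n100).2
  have := lall_iff.1 h2 _ (h1.mem y hy)
  rw [uns_cd, ← enc_co a (by rw [hy.1]; norm_num), e, Nat.beq_refl] at this
  exact absurd this (by simp)

theorem dot_cases {S : Set Λ} {x : Λ} (hx : sqNorm (x : V) ≤ 64) (hS : ∀ y ∈ S, sqNorm (y : V) = 32)
    {cnt : ℕ → ℕ} (h : ∀ j : ℕ, {y | y ∈ S ∧ dotInt (x : V) (y : V) = 8 * j - 64}.ncard = cnt j)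
    (D : Finset ℕ) (hD : ∀ j < 17, cnt j ≠ 0 → j ∈ D) {y : Λ} (hy : y ∈ S) :
    ∃ j ∈ D, dotInt (x : V) (y : V) = 8 * j - 64 := by
  have h1 := sqNorm_nonneg ((x : V) + y)
  have h2 := sqNorm_nonneg ((x : V) - y)
  rw [sqNorm_add, hS y hy] at h1
  rw [sqNorm_sub, hS y hy] at h2
  have h3 := eight_dvd_dot x.2 y.2
  obtain ⟨j, e⟩ : ∃ j : ℕ, dotInt (x : V) (y : V) = 8 * j - 64 :=
    ⟨((dotInt (x : V) (y : V) + 64) / 8).toNat, by omega⟩
  refine ⟨j, hD j (by omega) ?_, e⟩
  rw [← h]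
  exact Set.ncard_ne_zero_of_mem (a := y) ⟨hy, e⟩ (fin_min.subset fun z hz => hS z hz.1)

theorem XC_cls (x : ℕ) (F : List (ℕ × ℕ)) (j : ℕ) :
    {y | y ∈ XC F ∧ dotInt (lv x : V) (y : V) = 8 * j - 64}.ncard = (XC ((x, 8 * j) :: F)).ncard := by
  rw [XC_cons]
  push_cast
  rfl

theorem exists_orbit {K : Subgroup Co0} {S : Set Λ} {n : ℕ} (hn : S.ncard = n) (h0 : n ≠ 0)
    (h1 : ∀ g ∈ K, ∀ y ∈ S, g • y ∈ S) (h2 : ∀ y ∈ S, ∀ y' ∈ S, ∃ g ∈ K, g • y = y') :
    ∃ y ∈ S, orbit K y = S := by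
  obtain ⟨y, hy⟩ := Set.nonempty_of_ncard_ne_zero (hn ▸ h0 : S.ncard ≠ 0)
  exact ⟨y, hy, orbit_eq_of (fun g hg => h1 g hg y hy) (h2 y hy)⟩

/-- conjugation of the stabiliser of two vectors -/
def stab2 (g : Co0) (a b : Λ) : ↥(stabilizer Co0 a ⊓ stabilizer Co0 b) ≃*
    ↥(stabilizer Co0 (g • a) ⊓ stabilizer Co0 (g • b)) :=
  conjEquiv g fun x => and_congr (cj_iff g x a a) (cj_iff g x b b)

def stab3 (g : Co0) (a b c : Λ) : ↥(stabilizer Co0 a ⊓ stabilizer Co0 b ⊓ stabilizer Co0 c) ≃*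
    ↥(stabilizer Co0 (g • a) ⊓ stabilizer Co0 (g • b) ⊓ stabilizer Co0 (g • c)) :=
  conjEquiv g fun x => and_congr (and_congr (cj_iff g x a a) (cj_iff g x b b)) (cj_iff g x c c)

theorem stdMcL {u v x : Λ} (hu : sqNorm (u : V) = 48) (hv : sqNorm (v : V) = 32)
    (hd : dotInt (u : V) (v : V) = 24) (hx : sqNorm (x : V) = 32) (h1 : dotInt (u : V) (x : V) = 24)
    (h2 : dotInt (v : V) (x : V) = 16) : ∃ g : Co0, g • u0 = u ∧ g • v0 = v ∧ g • lv cx3 = x := by
  obtain ⟨g, rfl, rfl⟩ := std24 hu hv hd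
  obtain ⟨y, rfl⟩ := MulAction.surjective g x
  have := inX_sound (F := [(cv0, 80), (cu0, 88)]) (r := cx3) (by decide +kernel)
  simp only [mem_XC2, lv_v0, lv_u0] at this
  simp only [nm_smul, dt_smul] at hx h1 h2
  obtain ⟨k, a, b, c⟩ := tr_mcl552 this.1 hx this.2.2 h1 (by rw [this.2.1, h2]; rfl)
  exact ⟨g * k, by rw [mul_smul, a], by rw [mul_smul, b], by rw [mul_smul, c]⟩

theorem hs_dot {x : Λ} (h : dotInt (u0 : V) (x : V) = 24) :
    dotInt ((w0 - u0 : Λ) : V) (x : V) = -24 ↔ dotInt (w0 : V) (x : V) = 0 := by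
  rw [AddSubgroup.coe_sub, sub_dot]; omega

theorem mem_hs {x : Λ} : x ∈ XC [(cx1, 64), (cu0, 88)] ↔ sqNorm (x : V) = 32 ∧
    dotInt (u0 : V) (x : V) = 24 ∧ dotInt ((w0 - u0 : Λ) : V) (x : V) = -24 := by
  rw [mem_XC2, lv_x1, lv_u0, AddSubgroup.coe_neg, neg_dot, AddSubgroup.coe_sub, sub_dot]
  omega

theorem stdHS3 {v w x : Λ} (hv : sqNorm (v : V) = 48) (hw : sqNorm (w : V) = 48)
    (hd : dotInt (v : V) (w : V) = -32) (hx : sqNorm (x : V) = 32) (h1 : dotInt (v : V) (x : V) = 24)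
    (h2 : dotInt (w : V) (x : V) = -24) : ∃ g : Co0, g • u0 = v ∧ g • (w0 - u0) = w ∧ g • v0 = x := by
  obtain ⟨g, rfl, rfl⟩ := stdHS hv hw hd
  obtain ⟨y, rfl⟩ := MulAction.surjective g x
  simp only [nm_smul, dt_smul] at hx h1 h2
  obtain ⟨k, a, b, c⟩ := tr_hs552 nm_v0 hx dot_u0_v0 h1 (by rw [(hs_dot h1).1 h2, dot_comm, dot_v0_w0])
  exact ⟨g * k, by rw [mul_smul, a], by rw [mul_smul, co_sub k, a, b], by rw [mul_smul, c]⟩

theorem stdM22 {v w x : Λ} (hv : sqNorm (v : V) = 32) (hw : sqNorm (w : V) = 32)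
    (hd : dotInt (v : V) (w : V) = -8) (hx : sqNorm (x : V) = 32) (h1 : dotInt (v : V) (x : V) = 0)
    (h2 : dotInt (w : V) (x : V) = 16) : ∃ g : Co0, g • v0 = v ∧ g • (u0 - v0) = w ∧ g • w0 = x := by
  obtain ⟨g, rfl, rfl⟩ := std8 hv hw hd
  obtain ⟨y, rfl⟩ := MulAction.surjective g x
  simp only [nm_smul, dt_smul] at hx h1 h2
  obtain ⟨k, a, b, c⟩ := tr_mcl4600 nm_w0 hx (by decide +kernel) h2 (by rw [h1, dot_v0_w0])
  exact ⟨g * k, by rw [mul_smul, b], by rw [mul_smul, co_sub k, a, b], by rw [mul_smul, c]⟩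

end Cfsg.Agent.Lee
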