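/-
The rank-24 lattice: membership, closure, norms, monomial maps, generators.
-/
import Cfsg.Agent.Gol.Flag
import Cfsg.Prelude.Def_SporadicCombinatorics

set_option autoImplicit false

namespace Cfsg.Agent.Lee

open Cfsg Cfsg.Agent.Gol Finset
open scoped Pointwise symmDiff

abbrev V : Type := GolayPt → ℤ

/-- positions with residue 2 or 3 modulo 4 -/
def hi (x : V) : Finset GolayPt := univ.filter fun i => 2 ≤ x i % 4

theorem mem_hi {x : V} {i : GolayPt} : i ∈ hi x ↔ 2 ≤ x i % 4 := by simp [hi]

def LV (m : ℤ) (x : V) : Prop := (∀ i, x i % 2 = m) ∧ (∑ i, x i) % 8 = 4 * m ∧ CW (hi x)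

theorem mem_leechSet_iff {x : V} : x ∈ leechSet ↔ LV 0 x ∨ LV 1 x := by
  constructor
  · rintro ⟨m, h1, h2, h3⟩
    have h4 : ∀ i, x i % 2 = m % 2 := h1
    have h5 : (∑ i, x i) % 8 = (4 * m) % 8 := h2
    have h6 : CW (hi x) := by
      have := h3 (m % 2 + 2)
      rw [cw_def] at this
      convert this using 1
      ext i
      simp only [mem_hi, mem_filter, mem_univ, true_and]
      have := h4 i
      unfold Int.ModEq
      omega
    rcases Int.emod_two_eq_zero_or_one m with h | h
    · exact Or.inl ⟨fun i => (h4 i).trans h, by omega, h6⟩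
    · exact Or.inr ⟨fun i => (h4 i).trans h, by omega, h6⟩
  · have key : ∀ m : ℤ, (m = 0 ∨ m = 1) → LV m x → x ∈ leechSet := by
      rintro m hm ⟨h1, h2, h3⟩
      refine ⟨m, fun i => ?_, ?_, fun k => ?_⟩
      · have := h1 i
        show x i % 2 = m % 2
        omega
      · show _ % 8 = _ % 8
        omega
      · rw [cw_def]
        by_cases hk : k % 4 = m + 2
        · convert h3 using 1
          ext i
          simp only [mem_hi, mem_filter, mem_univ, true_and]
          have := h1 i
          unfold Int.ModEq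
          omega
        by_cases hk' : k % 4 = m
        · convert h3.compl using 1
          ext i
          simp only [mem_hi, mem_filter, mem_univ, true_and, mem_compl]
          have := h1 i
          unfold Int.ModEq
          omega
        · convert CW.empty using 1
          ext i
          simp only [mem_filter, mem_univ, true_and, notMem_empty, iff_false]
          have := h1 i
          unfold Int.ModEq
          omega
    rintro (h | h)
    · exact key 0 (Or.inl rfl) h
    · exact key 1 (Or.inr rfl) h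

theorem LV.add {m n : ℤ} (hm : m = 0 ∨ m = 1) (hn : n = 0 ∨ n = 1) {x y : V} (hx : LV m x)
    (hy : LV n y) : LV ((m + n) % 2) (x + y) := by
  obtain ⟨a1, a2, a3⟩ := hx
  obtain ⟨b1, b2, b3⟩ := hy
  refine ⟨fun i => ?_, ?_, ?_⟩
  · have := a1 i
    have := b1 i
    simp only [Pi.add_apply]
    omega
  · simp only [Pi.add_apply, sum_add_distrib]
    omega
  · by_cases h : m = 1 ∧ n = 1
    · convert (a3.symmDiff b3).compl using 1
      ext i
      simp only [mem_hi, mem_compl, mem_symmDiff, Pi.add_apply]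
      have := a1 i
      have := b1 i
      omega
    · convert a3.symmDiff b3 using 1
      ext i
      simp only [mem_hi, mem_symmDiff, Pi.add_apply]
      have := a1 i
      have := b1 i
      omega

theorem LV.neg {m : ℤ} (hm : m = 0 ∨ m = 1) {x : V} (hx : LV m x) : LV m (-x) := by
  obtain ⟨a1, a2, a3⟩ := hx
  refine ⟨fun i => ?_, ?_, ?_⟩
  · have := a1 i
    simp only [Pi.neg_apply]
    omega
  · simp only [Pi.neg_apply, sum_neg_distrib]
    omega
  · rcases hm with rfl | rfl
    · convert a3 using 1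
      ext i
      simp only [mem_hi, Pi.neg_apply]
      have := a1 i
      omega
    · convert a3.compl using 1
      ext i
      simp only [mem_hi, Pi.neg_apply, mem_compl]
      have := a1 i
      omega

theorem LV.zero : LV 0 0 := ⟨fun _ => rfl, by simp, by
  convert CW.empty using 1
  ext i
  simp [mem_hi]⟩

def latS : AddSubgroup V where
  carrier := leechSet
  zero_mem' := mem_leechSet_iff.2 (Or.inl LV.zero)
  add_mem' := by
    intro x y hx hy
    rw [mem_leechSet_iff] at *
    rcases hx with hx | hx <;> rcases hy with hy | hy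
    · exact Or.inl (hx.add (by simp) (by simp) hy)
    · exact Or.inr (hx.add (by simp) (by simp) hy)
    · exact Or.inr (hx.add (by simp) (by simp) hy)
    · exact Or.inl (hx.add (by simp) (by simp) hy)
  neg_mem' := by
    intro x hx
    rw [mem_leechSet_iff] at *
    rcases hx with hx | hx
    · exact Or.inl (hx.neg (by simp))
    · exact Or.inr (hx.neg (by simp))

theorem lat_eq : leechLattice = latS := (latS).closure_eq

theorem mem_lat {x : V} : x ∈ leechLattice ↔ LV 0 x ∨ LV 1 x := by
  rw [lat_eq, ← mem_leechSet_iff]; rfl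

theorem LV.mem0 {x : V} (h : LV 0 x) : x ∈ leechLattice := mem_lat.2 (Or.inl h)
theorem LV.mem1 {x : V} (h : LV 1 x) : x ∈ leechLattice := mem_lat.2 (Or.inr h)

theorem lv0_of {x : V} (h : x ∈ leechLattice) {i : GolayPt} (hi : x i % 2 = 0) : LV 0 x := by
  rcases mem_lat.1 h with h | h
  · exact h
  · have := h.1 i; omega

theorem lv1_of {x : V} (h : x ∈ leechLattice) {i : GolayPt} (hi : x i % 2 = 1) : LV 1 x := by
  rcases mem_lat.1 h with h | h
  · have := h.1 i; omega
  · exact h

theorem lat_cw {x : V} (h : x ∈ leechLattice) : CW (hi x) := by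
  rcases mem_lat.1 h with h | h <;> exact h.2.2

theorem CW.four_dvd {s : Finset GolayPt} (hs : CW s) : (s.card : ℤ) % 4 = 0 := by
  rcases hs.card with h | h | h | h | h <;> rw [h] <;> rfl

theorem sum_ind (s : Finset GolayPt) (a : ℤ) :
    ∑ i, (if i ∈ s then a else 0) = a * s.card := by
  rw [← sum_filter, filter_mem_eq_inter, univ_inter, sum_const, nsmul_eq_mul, mul_comm]

theorem sum_one24 (a : ℤ) : ∑ _i : GolayPt, a = 24 * a := by
  rw [sum_const, card_univ, card_pt, nsmul_eq_mul]; rfl

theorem odd_sq_cong {x : V} (h : ∀ i, x i % 2 = 1) :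
    (16 : ℤ) ∣ sqNorm x - (2 * ∑ i, x i + 4 * (hi x).card - 24) := by
  have e : sqNorm x - (2 * ∑ i, x i + 4 * (hi x).card - 24) =
      ∑ i, (x i ^ 2 - (2 * x i + (if i ∈ hi x then 4 else 0) - 1)) := by
    simp only [sqNorm, sum_sub_distrib, sum_add_distrib, sum_ind, sum_one24, ← mul_sum]
    ring
  rw [e]
  refine dvd_sum fun i _ => ?_
  have := h i
  by_cases h2 : i ∈ hi x
  · rw [if_pos h2]
    rw [mem_hi] at h2
    obtain ⟨q, hq⟩ : ∃ q, x i = 4 * q + 3 := ⟨x i / 4, by omega⟩
    exact ⟨q ^ 2 + q, by rw [hq]; ring⟩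
  · rw [if_neg h2]
    rw [mem_hi] at h2
    obtain ⟨q, hq⟩ : ∃ q, x i = 4 * q + 1 := ⟨x i / 4, by omega⟩
    exact ⟨q ^ 2, by rw [hq]; ring⟩

theorem even_sq_cong {x : V} (h : ∀ i, x i % 2 = 0) :
    (16 : ℤ) ∣ sqNorm x - 4 * (hi x).card := by
  have e : sqNorm x - 4 * (hi x).card = ∑ i, (x i ^ 2 - (if i ∈ hi x then 4 else 0)) := by
    simp only [sqNorm, sum_sub_distrib, sum_ind]
  rw [e]
  refine dvd_sum fun i _ => ?_
  have := h i
  by_cases h2 : i ∈ hi x
  · rw [if_pos h2]
    rw [mem_hi] at h2
    obtain ⟨q, hq⟩ : ∃ q, x i = 4 * q + 2 := ⟨x i / 4, by omega⟩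
    exact ⟨q ^ 2 + q, by rw [hq]; ring⟩
  · rw [if_neg h2]
    rw [mem_hi] at h2
    obtain ⟨q, hq⟩ : ∃ q, x i = 4 * q := ⟨x i / 4, by omega⟩
    exact ⟨q ^ 2, by rw [hq]; ring⟩

theorem four_sq_cong {x : V} (h : ∀ i, x i % 4 = 0) : (32 : ℤ) ∣ sqNorm x - 4 * ∑ i, x i := by
  have e : sqNorm x - 4 * ∑ i, x i = ∑ i, (x i ^ 2 - 4 * x i) := by
    simp only [sqNorm, sum_sub_distrib, ← mul_sum]
  rw [e]
  refine dvd_sum fun i _ => ?_
  have := h i
  obtain ⟨q, hq⟩ : ∃ q, x i = 4 * q := ⟨x i / 4, by omega⟩
  obtain ⟨r, hr⟩ := Int.even_mul_pred_self q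
  exact ⟨r, by rw [hq]; linear_combination 16 * hr⟩

theorem sixteen_dvd {x : V} (hx : x ∈ leechLattice) : (16 : ℤ) ∣ sqNorm x := by
  rcases mem_lat.1 hx with ⟨h1, h2, h3⟩ | ⟨h1, h2, h3⟩
  · have := even_sq_cong h1
    have := CW.four_dvd h3
    omega
  · have := odd_sq_cong h1
    have := CW.four_dvd h3
    omega

theorem sqNorm_nonneg (x : V) : 0 ≤ sqNorm x := sum_nonneg fun _ _ => sq_nonneg _

theorem sq_le_sqNorm (x : V) (i : GolayPt) : x i ^ 2 ≤ sqNorm x :=
  single_le_sum (f := fun i => x i ^ 2) (fun _ _ => sq_nonneg _) (mem_univ i)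

theorem sqNorm_eq_zero {x : V} (h : sqNorm x = 0) : x = 0 := by
  funext i
  have := sq_le_sqNorm x i
  have h2 : x i ^ 2 = 0 := le_antisymm (h ▸ this) (sq_nonneg _)
  simpa using h2

theorem sqNorm_pos {x : V} (h : x ≠ 0) : 0 < sqNorm x :=
  lt_of_le_of_ne (sqNorm_nonneg x) fun e => h (sqNorm_eq_zero e.symm)

theorem sum_le_sqNorm (x : V) (s : Finset GolayPt) : ∑ i ∈ s, x i ^ 2 ≤ sqNorm x :=
  sum_le_sum_of_subset_of_nonneg (subset_univ s) fun _ _ _ => sq_nonneg _

theorem hi_le_sqNorm {x : V} (h : ∀ i, x i % 2 = 0) : 4 * ((hi x).card : ℤ) ≤ sqNorm x := by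
  refine le_trans ?_ (sum_le_sqNorm x (hi x))
  have := card_nsmul_le_sum (hi x) (fun i => x i ^ 2) 4 fun i hi => by
    rw [mem_hi] at hi
    have := h i
    have : 2 ≤ x i ∨ x i ≤ -2 := by omega
    rcases this with h | h <;> nlinarith
  rw [nsmul_eq_mul] at this
  linarith

theorem odd_sq_ge {a : ℤ} (h : a % 2 = 1) : 1 ≤ a ^ 2 := by
  have : 1 ≤ a ∨ a ≤ -1 := by omega
  rcases this with h | h <;> nlinarith

theorem min_norm {x : V} (hx : x ∈ leechLattice) (h0 : x ≠ 0) : 32 ≤ sqNorm x := by
  have h16 := sixteen_dvd hx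
  have hp := sqNorm_pos h0
  rcases mem_lat.1 hx with ⟨h1, h2, h3⟩ | ⟨h1, h2, h3⟩
  · have h4 := hi_le_sqNorm h1
    by_cases h : (hi x).card < 8
    · have e := h3.eq_empty h
      have := four_sq_cong (x := x) fun i => by
        have : i ∉ hi x := by simp [e]
        rw [mem_hi] at this
        have := h1 i
        omega
      omega
    · omega
  · have : ∑ _i : GolayPt, (1 : ℤ) ≤ sqNorm x := sum_le_sum fun i _ => odd_sq_ge (h1 i)
    rw [sum_one24] at this
    omega

theorem sqNorm_eq_dot (x : V) : sqNorm x = dotInt x x := by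
  simp [sqNorm, dotInt, sq]

theorem dot_comm (x y : V) : dotInt x y = dotInt y x := by
  simp [dotInt, mul_comm]

theorem dot_add (x y z : V) : dotInt x (y + z) = dotInt x y + dotInt x z := by
  simp [dotInt, mul_add, sum_add_distrib]

theorem add_dot (x y z : V) : dotInt (x + y) z = dotInt x z + dotInt y z := by
  simp [dotInt, add_mul, sum_add_distrib]

theorem dot_neg (x y : V) : dotInt x (-y) = -dotInt x y := by simp [dotInt]

theorem neg_dot (x y : V) : dotInt (-x) y = -dotInt x y := by simp [dotInt]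

theorem dot_sub (x y z : V) : dotInt x (y - z) = dotInt x y - dotInt x z := by
  simp [dotInt, mul_sub, sum_sub_distrib]

theorem sub_dot (x y z : V) : dotInt (x - y) z = dotInt x z - dotInt y z := by
  simp [dotInt, sub_mul, sum_sub_distrib]

theorem sqNorm_add (x y : V) : sqNorm (x + y) = sqNorm x + sqNorm y + 2 * dotInt x y := by
  simp only [sqNorm_eq_dot, dot_add, add_dot, dot_comm y x]; ring

theorem sqNorm_sub (x y : V) : sqNorm (x - y) = sqNorm x + sqNorm y - 2 * dotInt x y := by
  simp only [sqNorm_eq_dot, dot_sub, sub_dot, dot_comm y x]; ring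

theorem sqNorm_neg (x : V) : sqNorm (-x) = sqNorm x := by simp [sqNorm]

theorem eight_dvd_dot {x y : V} (hx : x ∈ leechLattice) (hy : y ∈ leechLattice) :
    (8 : ℤ) ∣ dotInt x y := by
  have h1 := sixteen_dvd hx
  have h2 := sixteen_dvd hy
  have h3 := sixteen_dvd (add_mem hx hy)
  rw [sqNorm_add] at h3
  omega

theorem dot_single (x : V) (i : GolayPt) (a : ℤ) : dotInt x (Pi.single i a) = x i * a := by
  simp [dotInt, Pi.single_apply]

theorem single_dot (x : V) (i : GolayPt) (a : ℤ) : dotInt (Pi.single i a) x = a * x i := by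
  rw [dot_comm, dot_single, mul_comm]

theorem sqNorm_single (i : GolayPt) (a : ℤ) : sqNorm (Pi.single i a : V) = a ^ 2 := by
  rw [sqNorm_eq_dot, dot_single]; simp [sq]

/-! ### special vectors -/

theorem four_mem {x : V} (h : ∀ i, x i % 4 = 0) (hs : (∑ i, x i) % 8 = 0) : x ∈ leechLattice := by
  refine LV.mem0 ⟨fun i => by have := h i; omega, by simpa using hs, ?_⟩
  convert CW.empty using 1
  ext i
  have := h i
  simp only [mem_hi, notMem_empty, iff_false]
  omega

theorem single_mem (i : GolayPt) {a : ℤ} (h : a % 8 = 0) : (Pi.single i a : V) ∈ leechLattice := by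
  refine four_mem (fun j => ?_) (by simpa using h)
  rw [Pi.single_apply]
  split_ifs
  · omega
  · rfl

theorem pair_mem (i j : GolayPt) {a b : ℤ} (ha : a % 8 = 4) (hb : b % 8 = 4) :
    (Pi.single i a + Pi.single j b : V) ∈ leechLattice := by
  refine four_mem (fun k => ?_) (by simp [sum_add_distrib]; omega)
  simp only [Pi.add_apply, Pi.single_apply]
  split_ifs <;> omega

/-- twice the indicator of a set -/
def two (c : Finset GolayPt) : V := fun i => if i ∈ c then 2 else 0

theorem two_mem {c : Finset GolayPt} (hc : CW c) : two c ∈ leechLattice := by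
  refine LV.mem0 ⟨fun i => ?_, ?_, ?_⟩
  · unfold two; split_ifs <;> rfl
  · unfold two
    rw [sum_ind]
    have := CW.four_dvd hc
    omega
  · convert hc using 1
    ext i
    rw [mem_hi]
    unfold two
    split_ifs with h <;> simp [h]

theorem sqNorm_two (c : Finset GolayPt) : sqNorm (two c) = 4 * c.card := by
  rw [← sum_ind]
  refine sum_congr rfl fun i _ => ?_
  unfold two
  split_ifs <;> rfl

/-- the vector `(-3, 1²³)` -/
def y0 (p : GolayPt) : V := fun i => if i = p then -3 else 1

theorem y0_eq (p : GolayPt) : y0 p = 1 + Pi.single p (-4) := by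
  funext i
  simp only [y0, Pi.add_apply, Pi.one_apply, Pi.single_apply]
  split_ifs <;> rfl

theorem y0_lv (p : GolayPt) : LV 1 (y0 p) := by
  refine ⟨fun i => ?_, ?_, ?_⟩
  · unfold y0; split_ifs <;> rfl
  · rw [y0_eq]
    simp only [Pi.add_apply, sum_add_distrib, Pi.one_apply, sum_one24]
    simp
  · convert CW.empty using 1
    ext i
    rw [mem_hi]
    unfold y0
    split_ifs <;> simp

theorem y0_mem (p : GolayPt) : y0 p ∈ leechLattice := (y0_lv p).mem1

theorem sqNorm_y0 (p : GolayPt) : sqNorm (y0 p) = 32 := by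
  rw [y0_eq, sqNorm_add, dot_single, sqNorm_single]
  simp only [sqNorm, Pi.one_apply, sum_one24]
  norm_num

/-! ### monomial maps -/

theorem perm_mem {σ : Equiv.Perm GolayPt} (hσ : σ ∈ M24) {x : V} (hx : x ∈ leechLattice) :
    (fun i => x (σ i)) ∈ leechLattice := by
  have key : ∀ m, LV m x → LV m fun i => x (σ i) := by
    rintro m ⟨h1, h2, h3⟩
    refine ⟨fun i => h1 _, by rw [Equiv.sum_comp σ x]; exact h2, ?_⟩
    convert h3.smul (⟨σ, hσ⟩⁻¹ : M24) using 1
    ext i
    rw [mem_inv_smul_finset_iff, mem_hi, mem_hi]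
    rfl
  rcases mem_lat.1 hx with h | h
  · exact (key _ h).mem0
  · exact (key _ h).mem1

/-- sign change on a set -/
def sg (c : Finset GolayPt) (x : V) : V := fun i => if i ∈ c then -x i else x i

theorem sg_apply (c : Finset GolayPt) (x : V) (i : GolayPt) :
    sg c x i = if i ∈ c then -x i else x i := rfl

theorem sqNorm_sg (c : Finset GolayPt) (x : V) : sqNorm (sg c x) = sqNorm x := by
  refine sum_congr rfl fun i _ => ?_
  rw [sg_apply]
  split_ifs <;> ring

theorem sign_mem {c : Finset GolayPt} (hc : CW c) {x : V} (hx : x ∈ leechLattice) :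
    sg c x ∈ leechLattice := by
  have hn := sqNorm_sg c x
  rcases mem_lat.1 hx with ⟨h1, h2, h3⟩ | ⟨h1, h2, h3⟩
  · refine LV.mem0 ⟨fun i => ?_, ?_, ?_⟩
    · have := h1 i
      rw [sg_apply]
      split_ifs <;> omega
    · have : dotInt (two c) x = ∑ i, x i - ∑ i, sg c x i := by
        rw [← sum_sub_distrib]
        refine sum_congr rfl fun i _ => ?_
        unfold two
        rw [sg_apply]
        split_ifs <;> ring
      have := eight_dvd_dot (two_mem hc) hx
      omega
    · convert h3 using 1
      ext i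
      simp only [mem_hi, sg_apply]
      have := h1 i
      split_ifs <;> omega
  · have h4 : ∀ i, sg c x i % 2 = 1 := fun i => by
      have := h1 i
      rw [sg_apply]
      split_ifs <;> omega
    have h5 : CW (hi (sg c x)) := by
      convert h3.symmDiff hc using 1
      ext i
      simp only [mem_hi, mem_symmDiff, sg_apply]
      have := h1 i
      split_ifs with h <;> simp only [h, not_true, not_false_iff, and_true, true_and, and_false,
        false_and, false_or, or_false] <;> omega
    refine LV.mem1 ⟨h4, ?_, h5⟩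
    have := odd_sq_cong h4
    have := sixteen_dvd hx
    have := CW.four_dvd h5
    omega

theorem signedPerm_mem {σ : Equiv.Perm GolayPt} (hσ : σ ∈ M24) {c : Finset GolayPt} (hc : CW c)
    {x : V} (hx : x ∈ leechLattice) : signedPerm σ c x ∈ leechLattice :=
  sign_mem hc (perm_mem (M24.inv_mem hσ) hx)

/-! ### generators -/

theorem bas_oct : ∀ b ∈ basL, toF b ∈ octads := fun b hb =>
  mem_octads.2 ⟨bas_cw b hb, by
    rw [card_toF]
    exact Nat.eq_of_beq_eq_true (lall_iff.1
      (show lall (fun b => Nat.beq (pc b) 8) basL = true by decide +kernel) b hb)⟩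

theorem CW.ind {P : Finset GolayPt → Prop} (h0 : P ∅) (hx : ∀ s t, P s → P t → P (s ∆ t))
    (hb : ∀ b ∈ basL, P (toF b)) {s : Finset GolayPt} (hs : CW s) : P s := by
  obtain ⟨k, hk, rfl⟩ := hs.exists_cw
  rw [cw_eq_lin hk]
  exact lin_ind (P := fun n => P (toF n)) (by simpa using h0)
    (fun a b ha hb => by rw [toF_xor]; exact hx _ _ ha hb) hb k

theorem lat_le {H : AddSubgroup V} (h1 : ∀ b ∈ basL, two (toF b) ∈ H)
    (h2 : ∀ i : GolayPt, (Pi.single i 4 + Pi.single (pt 23) 4 : V) ∈ H) (h3 : y0 (pt 23) ∈ H) :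
    leechLattice ≤ H := by
  have k4 : ∀ x : V, (∀ i, x i % 4 = 0) → (∑ i, x i) % 8 = 0 → x ∈ H := by
    intro x hx hs
    have e : x = ∑ i, (x i / 4) • (Pi.single i 4 + Pi.single (pt 23) 4 : V) -
        ((∑ i, x i) / 8) • (Pi.single (pt 23) 4 + Pi.single (pt 23) 4 : V) := by
      funext j
      have e4 : ∀ i, x i / 4 * 4 = x i := fun i => by have := hx i; omega
      simp only [Pi.sub_apply, Finset.sum_apply, Pi.smul_apply, Pi.add_apply, Pi.single_apply,
        smul_eq_mul, mul_add, sum_add_distrib, mul_ite, mul_zero, sum_ite_eq, mem_univ, if_true, e4]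
      split_ifs
      · omega
      · simp
    rw [e]
    exact sub_mem (sum_mem fun i _ => zsmul_mem (h2 i) _) (zsmul_mem (h2 _) _)
  have k2 : ∀ c, CW c → two c ∈ H := by
    intro c hc
    have : CW c ∧ two c ∈ H := by
      refine CW.ind (P := fun c => CW c ∧ two c ∈ H) ⟨CW.empty, ?_⟩ ?_
        (fun b hb => ⟨bas_cw b hb, h1 b hb⟩) hc
      · have : two ∅ = 0 := by funext i; simp [two]
        rw [this]; exact zero_mem _
      · rintro s t ⟨hs, hs'⟩ ⟨ht, ht'⟩
        refine ⟨hs.symmDiff ht, ?_⟩
        have m : two s + two t - two (s ∆ t) ∈ leechLattice :=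
          sub_mem (add_mem (two_mem hs) (two_mem ht)) (two_mem (hs.symmDiff ht))
        have m4 : ∀ i, (two s + two t - two (s ∆ t)) i % 4 = 0 := fun i => by
          simp only [Pi.sub_apply, Pi.add_apply, two, mem_symmDiff]
          by_cases a : i ∈ s <;> by_cases b : i ∈ t <;> simp [a, b]
        have := k4 _ m4 (lv0_of m (i := pt 0) (by have := m4 (pt 0); omega)).2.1
        have e : two (s ∆ t) = two s + two t - (two s + two t - two (s ∆ t)) := by abel
        rw [e]
        exact sub_mem (add_mem hs' ht') this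
    exact this.2
  have k0 : ∀ x, LV 0 x → x ∈ H := by
    intro x hx
    have m : x - two (hi x) ∈ leechLattice := sub_mem hx.mem0 (two_mem hx.2.2)
    have m4 : ∀ i, (x - two (hi x)) i % 4 = 0 := fun i => by
      simp only [Pi.sub_apply, two, mem_hi]
      have := hx.1 i
      split_ifs <;> omega
    have := k4 _ m4 (lv0_of m (i := pt 0) (by have := m4 (pt 0); omega)).2.1
    simpa using add_mem this (k2 _ hx.2.2)
  intro x hx
  rcases mem_lat.1 hx with h | h
  · exact k0 x h
  · have := k0 _ (h.add (by simp) (by simp) ((y0_lv (pt 23)).neg (by simp)))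
    simpa using add_mem this h3

theorem pt_ne {i j : ℕ} (hi : i < 24) (hj : j < 24) (h : i ≠ j) : pt i ≠ pt j :=
  fun e => h (pt_inj hi hj e)

theorem sqNorm_pair {i j : GolayPt} (h : i ≠ j) (a b : ℤ) :
    sqNorm (Pi.single i a + Pi.single j b : V) = a ^ 2 + b ^ 2 := by
  rw [sqNorm_add, sqNorm_single, sqNorm_single, dot_single]
  simp [Pi.single_apply, h.symm]

theorem closure_min :
    AddSubgroup.closure {x : V | x ∈ leechLattice ∧ sqNorm x = 32} = leechLattice := by
  refine le_antisymm ((AddSubgroup.closure_le _).2 fun x hx => hx.1) (lat_le ?_ ?_ ?_)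
  · intro b hb
    refine AddSubgroup.subset_closure ⟨two_mem (bas_cw b hb), ?_⟩
    rw [sqNorm_two, (mem_octads.1 (bas_oct b hb)).2]; rfl
  · intro i
    by_cases h : i = pt 23
    · have e : (Pi.single i 4 + Pi.single (pt 23) 4 : V) =
          (Pi.single (pt 0) 4 + Pi.single (pt 23) 4) + (Pi.single (pt 0) (-4) + Pi.single (pt 23) 4) := by
        rw [h, Pi.single_neg]; abel
      rw [e]
      exact add_mem (AddSubgroup.subset_closure ⟨pair_mem _ _ rfl rfl, by
          rw [sqNorm_pair (pt_ne (by decide) (by decide) (by decide))]; rfl⟩)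
        (AddSubgroup.subset_closure ⟨pair_mem _ _ rfl rfl, by rw [sqNorm_pair (pt_ne (by decide) (by decide) (by decide))]; rfl⟩)
    · exact AddSubgroup.subset_closure ⟨pair_mem _ _ rfl rfl, by rw [sqNorm_pair h]; rfl⟩
  · exact AddSubgroup.subset_closure ⟨y0_mem _, sqNorm_y0 _⟩

theorem finite_norm_le (n : ℤ) : {x : V | sqNorm x ≤ n}.Finite := by
  refine (Set.finite_Icc (fun _ => -n) (fun _ => n)).subset fun x hx => ⟨fun i => ?_, fun i => ?_⟩
  · have := (sq_le_sqNorm x i).trans hx
    show -n ≤ x i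
    nlinarith [sq_nonneg (x i + 1), sq_nonneg (2 * x i + 1), Int.le_self_sq (-x i)]
  · have := (sq_le_sqNorm x i).trans hx
    show x i ≤ n
    nlinarith [Int.le_self_sq (x i)]

theorem card_code : Nat.card golayCode = 4096 := by
  have := ncard_eq_countP (f := fun k => wd (toF (cw k))) (L := List.range 4096)
    List.nodup_range (fun a ha b hb e => cw_inj (List.mem_range.1 ha) (List.mem_range.1 hb) (wd_inj e))
    (S := (golayCode : Set (GolayPt → ZMod 2))) (q := fun _ => true)
    (fun x hx => by
      obtain ⟨k, hk, e⟩ := (mem_code_iff.1 hx).exists_cw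
      exact ⟨k, List.mem_range.2 hk, by rw [e, wd_support]⟩)
    (fun n hn => iff_of_true (cw_iff.1 (cw_cw (List.mem_range.1 hn))) rfl)
  rw [lcnt_eq] at this
  simp only [List.countP_true, List.length_range] at this
  exact this

theorem index_lat : leechLattice.index = 2 ^ 36 := by
  let π : V →+ (GolayPt → ZMod 2) := (Int.castAddHom (ZMod 2)).compLeft GolayPt
  have hπ : Function.Surjective π := fun w => ⟨fun i => (w i).val, by
    funext i; simp [π]⟩
  let M1 : AddSubgroup V := golayCode.toAddSubgroup.comap π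
  have i1 : M1.index = 4096 := by
    have h := golayCode.toAddSubgroup.card_mul_index
    have h' : Nat.card golayCode.toAddSubgroup = 4096 := card_code
    rw [h', Nat.card_fun, Nat.card_zmod, Nat.card_eq_fintype_card, card_pt] at h
    rw [AddSubgroup.index_comap_of_surjective _ hπ]
    omega
  have mem1 : ∀ z : V, z ∈ M1 ↔ CW (hi (2 • z)) := fun z => by
    show π z ∈ golayCode ↔ _
    rw [mem_code_iff]
    refine iff_of_eq (congrArg CW ?_)
    ext i
    simp only [support₂, mem_filter, mem_univ, true_and, mem_hi, Pi.smul_apply, π,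
      AddMonoidHom.compLeft_apply, Function.comp, Int.coe_castAddHom, ne_eq,
      ZMod.intCast_zmod_eq_zero_iff_dvd, two_nsmul, Pi.add_apply]
    omega
  let d : V →+ V := nsmulAddMonoidHom 2
  let M : AddSubgroup V := leechLattice.comap d
  have mem2 : ∀ z : V, z ∈ M ↔ z ∈ M1 ∧ (∑ i, z i) % 4 = 0 := fun z => by
    show 2 • z ∈ leechLattice ↔ _
    rw [mem1]
    have e : ∑ i, (2 • z) i = 2 * ∑ i, z i := by rw [mul_sum]; exact sum_congr rfl fun i _ => by simp
    have e2 : ∀ i, (2 • z) i % 2 = 0 := fun i => by simp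
    constructor
    · intro h
      obtain ⟨-, h2, h3⟩ := lv0_of h (e2 (pt 0))
      exact ⟨h3, by omega⟩
    · rintro ⟨h1, h2⟩
      exact LV.mem0 ⟨e2, by omega, h1⟩
  have par : ∀ z ∈ M1, (∑ i, z i) % 2 = 0 := fun z hz => by
    have h1 := even_sq_cong (x := 2 • z) fun i => by simp
    have h2 := CW.four_dvd ((mem1 z).1 hz)
    have h3 := four_sq_cong (x := 4 • z) fun i => by simp
    have e1 : sqNorm (4 • z) = 4 * sqNorm (2 • z) := by
      simp only [sqNorm, mul_sum]
      exact sum_congr rfl fun i _ => by simp; ring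
    have e2 : ∑ i, (4 • z) i = 4 * ∑ i, z i := by rw [mul_sum]; exact sum_congr rfl fun i _ => by simp
    omega
  have i2 : M.relIndex M1 = 2 := by
    have ha : (Pi.single (pt 0) 2 : V) ∈ M1 := by
      show π _ ∈ golayCode
      have : π (Pi.single (pt 0) 2) = 0 := by
        funext i
        simp only [π, AddMonoidHom.compLeft_apply, Function.comp, Int.coe_castAddHom,
          Pi.single_apply, Pi.zero_apply]
        split_ifs
        · decide
        · simp
      rw [this]; exact zero_mem _
    refine AddSubgroup.relIndex_eq_two_iff.2 ⟨_, ha, fun b hb => ?_⟩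
    have := par b hb
    simp only [mem2, add_mem hb ha, hb, true_and, Pi.add_apply, sum_add_distrib, Xor,
      sum_pi_single', mem_univ, if_true]
    omega
  have i3 : M.index = 8192 := by
    rw [← AddSubgroup.relIndex_mul_index (K := M1) fun z hz => ((mem2 z).1 hz).1, i1, i2]
  have dinj : Function.Injective d := AddSubgroup.nsmulAddMonoidHom_injective_of_isTorsionFree two_ne_zero
  have i4 : (M.map d).index = 8192 * 2 ^ 24 := by
    rw [AddSubgroup.index_map, (AddMonoidHom.ker_eq_bot_iff d).2 dinj, sup_bot_eq, i3,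
      AddSubgroup.index_range_nsmul, Module.finrank_fintype_fun_eq_card, card_pt]
  have mem3 : ∀ x, x ∈ M.map d ↔ LV 0 x := fun x => by
    constructor
    · rintro ⟨z, hz, rfl⟩
      exact lv0_of hz (i := pt 0) (by simp [d])
    · intro h
      have e : d (fun i => x i / 2) = x := by
        funext i
        have := h.1 i
        simp only [d, nsmulAddMonoidHom_apply, Pi.smul_apply, nsmul_eq_mul]
        omega
      exact ⟨fun i => x i / 2, show d _ ∈ leechLattice by rw [e]; exact h.mem0, e⟩
  have i5 : (M.map d).relIndex leechLattice = 2 := by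
    refine AddSubgroup.relIndex_eq_two_iff.2 ⟨_, y0_mem (pt 0), fun b hb => ?_⟩
    rw [mem3, mem3]
    rcases mem_lat.1 hb with h | h
    · refine Or.inr ⟨h, fun h' => ?_⟩
      have := (h.add (by simp) (by simp) (y0_lv (pt 0))).1 (pt 0)
      have := h'.1 (pt 0)
      omega
    · refine Or.inl ⟨h.add (by simp) (by simp) (y0_lv (pt 0)), fun h' => ?_⟩
      have := h.1 (pt 0)
      have := h'.1 (pt 0)
      omega
  have := AddSubgroup.relIndex_mul_index (H := M.map d) (K := leechLattice)
    fun x hx => ((mem3 x).1 hx).mem0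
  rw [i4, i5] at this
  omega

end Cfsg.Agent.Lee
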