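/-
Counting lattice vectors of given norm with a generating function.
-/
import Cfsg.Agent.Lee.Lat

set_option autoImplicit false

namespace Cfsg.Agent.Lee

open Cfsg Cfsg.Agent.Gol Finset
open scoped Pointwise symmDiff

theorem digit_sum {α : Type*} (q k : ℕ) (X : Finset α) (f : α → ℕ) (h : X.card < q) :
    (∑ x ∈ X, q ^ f x) / q ^ k % q = (X.filter fun x => f x = k).card := by
  classical
  induction k generalizing X f with
  | zero =>
    rw [pow_zero, Nat.div_one, ← sum_filter_add_sum_filter_not X fun x => f x = 0]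
    have e1 : ∑ x ∈ X.filter (fun x => f x = 0), q ^ f x = (X.filter fun x => f x = 0).card := by
      rw [card_eq_sum_ones]
      exact sum_congr rfl fun x hx => by rw [(mem_filter.1 hx).2, pow_zero]
    have e2 : q ∣ ∑ x ∈ X.filter (fun x => ¬f x = 0), q ^ f x :=
      dvd_sum fun x hx => dvd_pow_self q (mem_filter.1 hx).2
    obtain ⟨r, hr⟩ := e2
    rw [e1, hr, Nat.add_mul_mod_self_left, Nat.mod_eq_of_lt ((card_filter_le _ _).trans_lt h)]
  | succ k ih =>
    have hq : 0 < q := by omega
    have e1 : ∑ x ∈ X.filter (fun x => f x = 0), q ^ f x = (X.filter fun x => f x = 0).card := by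
      rw [card_eq_sum_ones]
      exact sum_congr rfl fun x hx => by rw [(mem_filter.1 hx).2, pow_zero]
    have e2 : ∑ x ∈ X.filter (fun x => ¬f x = 0), q ^ f x =
        q * ∑ x ∈ X.filter (fun x => ¬f x = 0), q ^ (f x - 1) := by
      rw [mul_sum]
      refine sum_congr rfl fun x hx => ?_
      have := (mem_filter.1 hx).2
      rw [← pow_succ']
      congr 1
      omega
    rw [← sum_filter_add_sum_filter_not X fun x => f x = 0, e1, e2, pow_succ', ← Nat.div_div_eq_div_mul,
      Nat.add_mul_div_left _ _ hq, Nat.div_eq_of_lt ((card_filter_le _ _).trans_lt h), zero_add,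
      ih _ _ ((card_filter_le _ _).trans_lt h), filter_filter]
    congr 1
    exact filter_congr fun x _ => by omega

theorem card_filter_range {p : ℕ → Prop} [DecidablePred p] {q : ℕ → Bool} (N : ℕ)
    (h : ∀ k, p k ↔ q k = true) : ((range N).filter p).card = (List.range N).countP q := by
  show (List.filter _ (List.range N)).length = _
  rw [List.countP_eq_length_filter]
  congr 2
  funext k
  rw [Bool.eq_iff_iff, decide_eq_true_iff, h]

open Classical in
theorem sum_cw (g : ℕ → ℕ) : ∑ c ∈ univ.filter CW, g c.card =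
    g 0 + 759 * g 8 + 2576 * g 12 + 759 * g 16 + g 24 := by
  have e1 : ∑ c ∈ univ.filter CW, g c.card = ∑ k ∈ range 4096, g (pc (cw k)) := by
    symm
    refine sum_bij (fun k _ => toF (cw k)) (fun k hk => ?_) (fun a ha b hb e => ?_)
      (fun c hc => ?_) fun k _ => by rw [card_toF]
    · exact mem_filter.2 ⟨mem_univ _, cw_cw (mem_range.1 hk)⟩
    · exact cw_inj (mem_range.1 ha) (mem_range.1 hb) e
    · obtain ⟨k, hk, e⟩ := (mem_filter.1 hc).2.exists_cw
      exact ⟨k, mem_range.2 hk, e⟩
  have e2 : ∀ w n : ℕ, lcnt (fun k => Nat.beq (pc (cw k)) w) (List.range 4096) = n →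
      ∑ k ∈ (range 4096).filter (fun k => pc (cw k) = w), g (pc (cw k)) = n * g w := by
    intro w n h
    rw [sum_congr rfl (g := fun _ => g w) fun k hk => by rw [(mem_filter.1 hk).2], sum_const,
      smul_eq_mul, ← h, lcnt_eq, card_filter_range 4096 (q := fun k => Nat.beq (pc (cw k)) w)
        fun k => Nat.beq_eq ▸ Iff.rfl]
  rw [e1, ← sum_fiberwise_of_maps_to (t := {0, 8, 12, 16, 24}) (g := fun k => pc (cw k))
    fun k hk => by
      have := (cw_cw (mem_range.1 hk)).card
      rw [card_toF] at this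
      simpa using this]
  rw [sum_insert (by decide), sum_insert (by decide), sum_insert (by decide), sum_insert (by decide),
    sum_singleton, e2 0 1 (by decide +kernel), e2 8 759 (by decide +kernel),
    e2 12 2576 (by decide +kernel), e2 16 759 (by decide +kernel), e2 24 1 (by decide +kernel)]
  ring

def wt (a : ℤ) : ℕ := 32 * a.natAbs ^ 2 + (a / 4 % 2).natAbs

def gs (q : ℕ) (A : Finset ℤ) (r : ℤ) : ℕ := ∑ a ∈ A.filter (fun a => a % 4 = r), q ^ wt a

def tot (P Q : ℕ) : ℕ :=
  Q ^ 24 + 759 * (P ^ 8 * Q ^ 16) + 2576 * (P ^ 12 * Q ^ 12) + 759 * (P ^ 16 * Q ^ 8) + P ^ 24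

noncomputable def cntM (q : ℕ) (A : Finset ℤ) (m n : ℕ) : ℕ :=
  force (gs q A (m + 2)) fun P => force (gs q A m) fun Q => force (tot P Q) fun S =>
    ∑ j ∈ (range 25).filter (fun j => j % 2 = m), S / q ^ (32 * n + j) % q

open Classical in
theorem count_lv {q : ℕ} (hq : 17 ^ 24 < q) (A : Finset ℤ) (hA : A.card ≤ 17) (m : ℕ) (hm : m = 0 ∨ m = 1) (n : ℕ) :
    ((Fintype.piFinset fun _ : GolayPt => A).filter fun x => LV m x ∧ sqNorm x = n).card =
      cntM q A m n := by
  let X := (Fintype.piFinset fun _ : GolayPt => A).filter fun x : V =>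
    (∀ i, x i % 2 = m) ∧ CW (hi x)
  let f : V → ℕ := fun x => ∑ i, wt (x i)
  let J : V → ℕ := fun x => ∑ i, (x i / 4 % 2).natAbs
  have hX : X.card < q := by
    refine (card_filter_le _ _).trans_lt ?_
    rw [Fintype.card_piFinset, prod_const, card_univ, card_pt]
    exact (Nat.pow_le_pow_left hA 24).trans_lt hq
  have hS : ∑ x ∈ X, q ^ f x = tot (gs q A (m + 2)) (gs q A m) := by
    rw [← sum_fiberwise_of_maps_to (t := univ.filter CW) (g := hi)
      fun x hx => mem_filter.2 ⟨mem_univ _, (mem_filter.1 hx).2.2⟩]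
    have := sum_cw fun w => gs q A (m + 2) ^ w * gs q A m ^ (24 - w)
    simp only [pow_zero, one_mul, Nat.sub_self, mul_one] at this
    unfold tot
    rw [← this]
    refine sum_congr rfl fun c hc => ?_
    have e : X.filter (fun x => hi x = c) = Fintype.piFinset fun i =>
        A.filter fun a => a % 4 = if i ∈ c then (m : ℤ) + 2 else m := by
      ext x
      simp only [X, mem_filter, Fintype.mem_piFinset]
      constructor
      · rintro ⟨⟨h1, h2, -⟩, rfl⟩ i
        refine ⟨h1 i, ?_⟩
        have := h2 i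
        simp only [mem_hi]
        split_ifs <;> omega
      · intro h
        have e : hi x = c := by
          ext i
          have := (h i).2
          rw [mem_hi]
          split_ifs at this with h' <;> simp only [h', iff_true, iff_false] <;> omega
        refine ⟨⟨fun i => (h i).1, fun i => ?_, e ▸ (mem_filter.1 hc).2⟩, e⟩
        have := (h i).2
        split_ifs at this <;> omega
    rw [e]
    simp only [f, ← prod_pow_eq_pow_sum]
    rw [← prod_univ_sum (fun i => A.filter fun a => a % 4 = if i ∈ c then (m : ℤ) + 2 else m)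
      (fun _ a => q ^ wt a)]
    have e2 : ∀ i, ∑ a ∈ A.filter (fun a => a % 4 = if i ∈ c then (m : ℤ) + 2 else m),
        q ^ wt a = if i ∈ c then gs q A (m + 2) else gs q A m := fun i => by
      split_ifs <;> rfl
    simp only [e2]
    rw [prod_ite, prod_const, prod_const, filter_mem_eq_inter, univ_inter, filter_not,
      filter_mem_eq_inter, univ_inter, card_univ_diff, card_pt]
  have hJ : ∀ x, J x < 25 := fun x => by
    have := sum_le_card_nsmul univ (fun i => (x i / 4 % 2).natAbs) 1 fun i _ => by omega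
    rw [card_univ, card_pt] at this
    simp only [smul_eq_mul] at this
    exact Nat.lt_succ_of_le this
  have hf : ∀ x, (f x : ℤ) = 32 * sqNorm x + J x := fun x => by
    simp only [f, J, wt, sqNorm, mul_sum]
    push_cast
    simp only [sq_abs, sum_add_distrib]
  have hL : ∀ x ∈ X, (LV m x ↔ J x % 2 = m) := by
    intro x hx
    obtain ⟨-, h1, h2⟩ := mem_filter.1 hx
    have e : (8 : ℤ) ∣ ∑ i, x i - (24 * m + 2 * (hi x).card + 4 * J x) := by
      have : ∑ i, x i - (24 * m + 2 * (hi x).card + 4 * J x) =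
          ∑ i, (x i - (m + (if i ∈ hi x then 2 else 0) + 4 * (x i / 4 % 2))) := by
        simp only [sum_sub_distrib, sum_add_distrib, sum_ind, sum_one24, J, ← mul_sum]
        push_cast
        congr 3
        exact sum_congr rfl fun i _ => abs_of_nonneg (by omega)
      rw [this]
      refine dvd_sum fun i _ => ?_
      have := h1 i
      simp only [mem_hi]
      split_ifs <;> omega
    have := CW.four_dvd h2
    exact ⟨fun h => by have := h.2.1; omega, fun h => ⟨h1, by omega, h2⟩⟩
  unfold cntM
  rw [force_eq, force_eq, force_eq, ← hS]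
  simp only [digit_sum _ _ X f hX]
  rw [card_eq_sum_card_fiberwise (f := J) (t := (range 25).filter fun j => j % 2 = m)]
  · refine sum_congr rfl fun j hj => ?_
    obtain ⟨hj1, hj2⟩ := mem_filter.1 hj
    refine congrArg card (Finset.ext fun x => ?_)
    simp only [mem_filter]
    constructor
    · rintro ⟨⟨h1, h2, h3⟩, h4⟩
      refine ⟨mem_filter.2 ⟨h1, h2.1, h2.2.2⟩, ?_⟩
      have := hf x
      omega
    · rintro ⟨h1, h2⟩
      have := hf x
      have := hJ x
      have := mem_range.1 hj1
      have := sqNorm_nonneg x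
      exact ⟨⟨(mem_filter.1 h1).1, (hL x h1).2 (by omega), by omega⟩, by omega⟩
  · intro x hx
    obtain ⟨h1, h2, h3⟩ := mem_filter.1 (mem_coe.1 hx)
    exact mem_coe.2 (mem_filter.2 ⟨mem_range.2 (hJ x),
      (hL x (mem_filter.2 ⟨h1, h2.1, h2.2.2⟩)).1 h2⟩)

theorem count_lat {q : ℕ} (hq : 17 ^ 24 < q) (A : Finset ℤ) (hA : A.card ≤ 17) (n : ℕ) :
    {x : V | x ∈ leechLattice ∧ sqNorm x = n ∧ ∀ i, x i ∈ A}.ncard = cntM q A 0 n + cntM q A 1 n := by
  classical
  rw [← count_lv hq A hA 0 (by simp), ← count_lv hq A hA 1 (by simp), ← card_union_of_disjoint,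
    ← Set.ncard_coe_finset]
  · congr 1
    ext x
    simp only [Set.mem_setOf_eq, mem_lat, coe_union, coe_filter, Set.mem_union,
      Fintype.mem_piFinset, Nat.cast_zero, Nat.cast_one]
    tauto
  · rw [disjoint_filter]
    rintro x - ⟨h, -⟩ ⟨h', -⟩
    have := h.1 (pt 0)
    have := h'.1 (pt 0)
    omega

theorem abs_le_eight {x : V} (h : sqNorm x ≤ 64) (i : GolayPt) : -8 ≤ x i ∧ x i ≤ 8 := by
  have := (sq_le_sqNorm x i).trans h
  constructor <;> nlinarith

theorem count_norm (n : ℕ) (hn : n ≤ 64) :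
    {x : V | x ∈ leechLattice ∧ sqNorm x = n}.ncard =
      cntM (2 ^ 128) (Icc (-8) 8) 0 n + cntM (2 ^ 128) (Icc (-8) 8) 1 n := by
  rw [← count_lat (by norm_num) _ (by simp)]
  congr 1
  ext x
  simp only [Set.mem_setOf_eq, mem_Icc]
  exact ⟨fun h => ⟨h.1, h.2, abs_le_eight (by rw [h.2]; exact_mod_cast hn)⟩, fun h => ⟨h.1, h.2.1⟩⟩

theorem count32 : {x : V | x ∈ leechLattice ∧ sqNorm x = 32}.ncard = 196560 :=
  (count_norm 32 (by norm_num)).trans (by decide +kernel)

theorem count48 : {x : V | x ∈ leechLattice ∧ sqNorm x = 48}.ncard = 16773120 :=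
  (count_norm 48 (by norm_num)).trans (by decide +kernel)

theorem count64 : {x : V | x ∈ leechLattice ∧ sqNorm x = 64}.ncard = 398034000 :=
  (count_norm 64 (by norm_num)).trans (by decide +kernel)

end Cfsg.Agent.Lee
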