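/-
The characterisation of the rank-24 lattice by its numbers of short vectors.
-/
import Cfsg.Agent.Lee.Count
import Cfsg.Agent.Gol.Uniq

set_option autoImplicit false

namespace Cfsg.Agent.Lee

open Cfsg Cfsg.Agent.Gol Finset
open scoped Pointwise symmDiff

/-! ### shapes of vectors of norm 32 -/

theorem shape_odd {x : V} (h : ∀ i, x i % 2 = 1) (hn : sqNorm x = 32) :
    ∃ p, (x p = 3 ∨ x p = -3) ∧ ∀ i ≠ p, x i = 1 ∨ x i = -1 := by
  have e : ∑ i, (x i ^ 2 - 1) = 8 := by
    rw [sum_sub_distrib, sum_one24]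
    unfold sqNorm at hn
    omega
  have nn : ∀ i, 0 ≤ x i ^ 2 - 1 := fun i => by have := odd_sq_ge (h i); omega
  obtain ⟨p, -, hp⟩ := exists_ne_zero_of_sum_ne_zero (s := univ) (f := fun i => x i ^ 2 - 1)
    (by rw [e]; norm_num)
  have h3 : 3 ≤ x p ∨ x p ≤ -3 := by
    by_contra h'
    have := h p
    have : x p = 1 ∨ x p = -1 := by omega
    rcases this with h | h <;> simp [h] at hp
  have h8 : 8 ≤ x p ^ 2 - 1 := by rcases h3 with h | h <;> nlinarith
  rw [← add_sum_erase _ _ (mem_univ p)] at e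
  have := sum_nonneg (s := univ.erase p) fun i _ => nn i
  have z := (sum_eq_zero_iff_of_nonneg (s := univ.erase p) fun i _ => nn i).1 (by omega)
  refine ⟨p, ?_, fun i hi => ?_⟩
  · have : (x p - 3) * (x p + 3) = 0 := by nlinarith
    rcases mul_eq_zero.1 this with h | h <;> omega
  · have : (x i - 1) * (x i + 1) = 0 := by
      have := z i (mem_erase.2 ⟨hi, mem_univ _⟩)
      linarith
    rcases mul_eq_zero.1 this with h | h <;> omega

theorem shape_two {x : V} (h : ∀ i, x i % 2 = 0) (hn : sqNorm x = 4 * (hi x).card) (i : GolayPt) :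
    (i ∈ hi x → x i = 2 ∨ x i = -2) ∧ (i ∉ hi x → x i = 0) := by
  have e : ∑ i, (x i ^ 2 - if i ∈ hi x then 4 else 0) = 0 := by
    rw [sum_sub_distrib, sum_ind]
    unfold sqNorm at hn
    omega
  have z := (sum_eq_zero_iff_of_nonneg fun i _ => by
    split_ifs with h2
    · rw [mem_hi] at h2
      have := h i
      have : 2 ≤ x i ∨ x i ≤ -2 := by omega
      rcases this with h | h <;> nlinarith
    · simpa using sq_nonneg _).1 e i (mem_univ _)
  constructor
  · intro h2
    rw [if_pos h2] at z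
    have : (x i - 2) * (x i + 2) = 0 := by linarith
    rcases mul_eq_zero.1 this with h | h <;> omega
  · intro h2
    rw [if_neg h2] at z
    simpa using z

theorem shape_four {x : V} (h : ∀ i, x i % 4 = 0) (hn : sqNorm x = 32) :
    ∃ i j, i ≠ j ∧ ∃ a b : ℤ, (a = 4 ∨ a = -4) ∧ (b = 4 ∨ b = -4) ∧
      x = Pi.single i a + Pi.single j b := by
  have k : ∀ i, x i = 0 ∨ x i = 4 ∨ x i = -4 := fun i => by
    have h1 := sq_le_sqNorm x i
    have := h i
    have : -6 < x i ∧ x i < 6 := by constructor <;> nlinarith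
    omega
  have e : sqNorm x = 16 * (univ.filter fun i => x i ≠ 0).card := by
    rw [← sum_ind]
    refine sum_congr rfl fun i _ => ?_
    rcases k i with h | h | h <;> simp [h]
  obtain ⟨i, j, hij, e2⟩ := card_eq_two.1 (show (univ.filter fun i => x i ≠ 0).card = 2 by omega)
  have m : ∀ l, x l ≠ 0 ↔ l = i ∨ l = j := fun l => by
    simpa using Finset.ext_iff.1 e2 l
  refine ⟨i, j, hij, x i, x j, (k i).resolve_left ((m i).2 (Or.inl rfl)),
    (k j).resolve_left ((m j).2 (Or.inr rfl)), funext fun l => ?_⟩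
  by_cases h1 : l = i
  · subst h1; simp [Pi.single_apply, hij]
  by_cases h2 : l = j
  · subst h2; simp [Pi.single_apply, h1]
  · have := m l
    simp only [h1, h2, or_self, iff_false, not_not] at this
    simp [Pi.single_apply, h1, h2, this]

/-! ### sublattices of the integer vectors that look like the rank-24 lattice -/

structure LL (A : AddSubgroup V) : Prop where
  six : ∀ x ∈ A, (16 : ℤ) ∣ sqNorm x
  no : ∀ x ∈ A, sqNorm x ≠ 16
  four : ∀ x : V, (∀ i, x i % 4 = 0) → (∑ i, x i) % 8 = 0 → x ∈ A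

theorem LL.dot {A : AddSubgroup V} (h : LL A) {x y : V} (hx : x ∈ A) (hy : y ∈ A) :
    (8 : ℤ) ∣ dotInt x y := by
  have h1 := h.six x hx
  have h2 := h.six y hy
  have h3 := h.six _ (add_mem hx hy)
  rw [sqNorm_add] at h3
  omega

theorem single_four (i j : GolayPt) {a : ℤ} (ha : a % 4 = 0) : (Pi.single i a : V) j % 4 = 0 := by
  rw [Pi.single_apply]
  split_ifs
  · exact ha
  · rfl

theorem LL.par {A : AddSubgroup V} (h : LL A) {x : V} (hx : x ∈ A) :
    (∀ i, x i % 2 = 0) ∨ ∀ i, x i % 2 = 1 := by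
  have k : ∀ i, x i % 2 = x (pt 0) % 2 := fun i => by
    have := h.dot hx (h.four (Pi.single i 4 + Pi.single (pt 0) 4) (fun j => by
      have := single_four i j (a := 4) rfl
      have := single_four (pt 0) j (a := 4) rfl
      rw [Pi.add_apply]; omega) (by simp [sum_add_distrib]))
    rw [dot_add, dot_single, dot_single] at this
    omega
  rcases Int.emod_two_eq_zero_or_one (x (pt 0)) with h | h
  · exact Or.inl fun i => (k i).trans h
  · exact Or.inr fun i => (k i).trans h

theorem LL.sum8 {A : AddSubgroup V} (h : LL A) {x : V} (hx : x ∈ A) (h4 : ∀ i, x i % 4 = 0) :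
    (∑ i, x i) % 8 = 0 := by
  by_contra h'
  have : (4 : ℤ) ∣ ∑ i, x i := dvd_sum fun i _ => by have := h4 i; omega
  have m := h.four (x - Pi.single (pt 0) 4) (fun j => by
    have := single_four (pt 0) j (a := 4) rfl
    have := h4 j
    rw [Pi.sub_apply]; omega) (by
      simp only [Pi.sub_apply, sum_sub_distrib, sum_pi_single', mem_univ, if_true]; omega)
  exact h.no _ (by simpa using sub_mem hx m) (by rw [sqNorm_single]; rfl)

open Classical in
/-- the code of such a lattice -/
noncomputable def codeOf (A : AddSubgroup V) : Finset (Finset GolayPt) :=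
  univ.filter fun s => ∃ x ∈ A, (∀ i, x i % 2 = 0) ∧ hi x = s

theorem mem_codeOf {A : AddSubgroup V} {s : Finset GolayPt} :
    s ∈ codeOf A ↔ ∃ x ∈ A, (∀ i, x i % 2 = 0) ∧ hi x = s := by simp [codeOf]

theorem LL.code4 {A : AddSubgroup V} (h : LL A) {s : Finset GolayPt} (hs : s ∈ codeOf A) :
    s.card % 4 = 0 ∧ s.card ≠ 4 := by
  obtain ⟨x, hx, h1, rfl⟩ := mem_codeOf.1 hs
  refine ⟨by have := even_sq_cong h1; have := h.six x hx; omega, fun h4 => ?_⟩
  obtain ⟨t, ht⟩ : (hi x).Nonempty := card_pos.1 (by omega)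
  have m4 : ∀ i, (x - two (hi x)) i % 4 = 0 := fun i => by
    simp only [Pi.sub_apply, two, mem_hi]
    have := h1 i
    split_ifs <;> omega
  have d4 : (4 : ℤ) ∣ ∑ i, (x - two (hi x)) i := dvd_sum fun i _ => by have := m4 i; omega
  have n2 : sqNorm (two (hi x)) = 16 := by rw [sqNorm_two, h4]; rfl
  by_cases h8 : (∑ i, (x - two (hi x)) i) % 8 = 0
  · exact h.no _ (by simpa using sub_mem hx (h.four _ m4 h8)) n2
  · have m := h.four (x - two (hi x) + Pi.single t 4) (fun j => by
      have := single_four t j (a := 4) rfl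
      have := m4 j
      rw [Pi.add_apply]; omega) (by
        simp only [Pi.add_apply, sum_add_distrib, sum_pi_single', mem_univ, if_true]; omega)
    refine h.no _ (sub_mem hx m) ?_
    have : x - (x - two (hi x) + Pi.single t 4) = two (hi x) - Pi.single t 4 := by abel
    rw [this, sqNorm_sub, n2, sqNorm_single, dot_single]
    simp [two, ht]

theorem hi_add {x y : V} (hx : ∀ i, x i % 2 = 0) (hy : ∀ i, y i % 2 = 0) :
    hi (x + y) = hi x ∆ hi y := by
  ext i
  simp only [mem_hi, mem_symmDiff, Pi.add_apply]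
  have := hx i
  have := hy i
  omega

theorem LL.code_sd {A : AddSubgroup V} {s t : Finset GolayPt} (hs : s ∈ codeOf A)
    (ht : t ∈ codeOf A) : s ∆ t ∈ codeOf A := by
  obtain ⟨x, hx, h1, rfl⟩ := mem_codeOf.1 hs
  obtain ⟨y, hy, h2, rfl⟩ := mem_codeOf.1 ht
  refine mem_codeOf.2 ⟨x + y, add_mem hx hy, fun i => ?_, hi_add h1 h2⟩
  have := h1 i
  have := h2 i
  rw [Pi.add_apply]; omega

theorem LL.big {A : AddSubgroup V} (h : LL A) (S : Finset V) (hS : ∀ x ∈ S, x ∈ A ∧ sqNorm x = 32)
    (hc : S.card = 196560) : 2048 < (codeOf A).card ∧ ∃ y ∈ A, ∀ i, y i % 2 = 1 := by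
  classical
  let S1 := S.filter fun x => ∀ i, x i % 2 = 1
  let S4 := S.filter fun x => ∀ i, x i % 4 = 0
  let S2 := S.filter fun x => (∀ i, x i % 2 = 0) ∧ (hi x).card = 8
  have cov : S ⊆ S1 ∪ S2 ∪ S4 := fun x hx => by
    simp only [S1, S2, S4, mem_union, mem_filter, hx, true_and]
    rcases h.par (hS x hx).1 with h1 | h1
    · have := hi_le_sqNorm h1
      have := h.code4 (mem_codeOf.2 ⟨x, (hS x hx).1, h1, rfl⟩)
      have := (hS x hx).2
      by_cases h0 : (hi x).card = 0
      · refine Or.inr fun i => ?_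
        have : i ∉ hi x := by simp [card_eq_zero.1 h0]
        rw [mem_hi] at this
        have := h1 i
        omega
      · exact Or.inl (Or.inr ⟨h1, by omega⟩)
    · exact Or.inl (Or.inl h1)
  have c4 : S4.card ≤ 2304 := by
    have : S4 ⊆ (univ ×ˢ univ ×ˢ ({4, -4} : Finset ℤ) ×ˢ ({4, -4} : Finset ℤ)).image
        fun q : GolayPt × GolayPt × ℤ × ℤ => Pi.single q.1 q.2.2.1 + Pi.single q.2.1 q.2.2.2 := by
      intro x hx
      obtain ⟨i, j, -, a, b, ha, hb, e⟩ := shape_four (mem_filter.1 hx).2 (hS x (mem_filter.1 hx).1).2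
      exact mem_image.2 ⟨(i, j, a, b), by simp [ha, hb], e.symm⟩
    refine (card_le_card this).trans (card_image_le.trans ?_)
    simp only [card_product, card_univ, card_pt]
    decide
  have c2 : S2.card ≤ 128 * 759 := by
    refine (card_le_mul_card_image (f := hi) S2 128 fun o ho => ?_).trans
      (Nat.mul_le_mul_left _ (GC.card8 card_pt _ (fun o ho => ?_) fun s hs t ht hne => ?_))
    · obtain ⟨x0, hx0, rfl⟩ := mem_image.1 ho
      have c8 := (mem_filter.1 hx0).2.2
      obtain ⟨p, hp⟩ : (hi x0).Nonempty := card_pos.1 (by omega)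
      have : ((hi x0).erase p).powerset.card = 128 := by
        rw [card_powerset, card_erase_of_mem hp, c8]; rfl
      rw [← this]
      refine card_le_card_of_injOn (fun x => ((hi x0).erase p).filter fun i => x i < 0)
        (fun x _ => mem_coe.2 (mem_powerset.2 (filter_subset _ _))) fun x hx y hy e => ?_
      obtain ⟨hx, ex⟩ := mem_filter.1 (mem_coe.1 hx)
      obtain ⟨hy, ey⟩ := mem_filter.1 (mem_coe.1 hy)
      obtain ⟨hx, x1, x2⟩ := mem_filter.1 hx
      obtain ⟨hy, y1, y2⟩ := mem_filter.1 hy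
      have sx := shape_two x1 (by rw [(hS x hx).2, x2]; rfl)
      have sy := shape_two y1 (by rw [(hS y hy).2, y2]; rfl)
      rw [ex] at sx
      rw [ey] at sy
      have k : ∀ i ≠ p, x i = y i := fun i hi' => by
        have := Finset.ext_iff.1 e i
        have a := sx i
        have b := sy i
        by_cases h' : i ∈ hi x0
        · simp only [mem_filter, mem_erase, ne_eq, hi', h', not_false_iff, true_and, true_imp_iff] at this a b
          omega
        · rw [a.2 h', b.2 h']
      have a := (sx p).1 hp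
      have b := (sy p).1 hp
      have := h.sum8 (sub_mem (hS x hx).1 (hS y hy).1) fun i => by
        rw [Pi.sub_apply]
        by_cases h' : i = p
        · rw [h']; omega
        · rw [k i h']; simp
      rw [sum_eq_single p (fun i _ hi' => by rw [Pi.sub_apply, k i hi', sub_self]) (by simp),
        Pi.sub_apply] at this
      funext i
      by_cases h' : i = p
      · rw [h']; omega
      · exact k i h'
    · obtain ⟨x, hx, rfl⟩ := mem_image.1 ho
      exact (mem_filter.1 hx).2.2
    · obtain ⟨x, hx, rfl⟩ := mem_image.1 hs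
      obtain ⟨y, hy, rfl⟩ := mem_image.1 ht
      have := h.code4 (LL.code_sd (mem_codeOf.2 ⟨x, (hS x (mem_filter.1 hx).1).1, (mem_filter.1 hx).2.1, rfl⟩)
        (mem_codeOf.2 ⟨y, (hS y (mem_filter.1 hy).1).1, (mem_filter.1 hy).2.1, rfl⟩))
      have : (hi x ∆ hi y).card ≠ 0 := fun e => hne (symmDiff_eq_bot.1 (card_eq_zero.1 e))
      omega
  have c0 := (card_le_card cov).trans ((card_union_le _ _).trans
    (Nat.add_le_add_right (card_union_le _ _) _))
  obtain ⟨y, hy⟩ : S1.Nonempty := card_pos.1 (by omega)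
  obtain ⟨hy, y1⟩ := mem_filter.1 hy
  refine ⟨?_, y, (hS y hy).1, y1⟩
  choose! p hp1 hp2 using fun x (hx : x ∈ S1) =>
    shape_odd (mem_filter.1 hx).2 (hS x (mem_filter.1 hx).1).2
  have c1 : S1.card ≤ ((univ : Finset GolayPt) ×ˢ codeOf A).card := by
    refine card_le_card_of_injOn (fun x => (p x, hi (x - y))) (fun x hx => ?_) fun x hx z hz e => ?_
    · refine mem_coe.2 (mem_product.2 ⟨mem_univ _, mem_codeOf.2 ⟨_, sub_mem
        (hS x (mem_filter.1 hx).1).1 (hS y hy).1, fun i => ?_, rfl⟩⟩)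
      have := y1 i
      have := (mem_filter.1 hx).2 i
      rw [Pi.sub_apply]; omega
    · obtain ⟨e1, e2⟩ := Prod.ext_iff.1 e
      funext i
      have := Finset.ext_iff.1 e2 i
      simp only [mem_hi, Pi.sub_apply] at this e1
      have := y1 i
      by_cases h' : i = p x
      · have := hp1 x hx
        have := hp1 z hz
        rw [← e1, ← h'] at *
        omega
      · have := hp2 x hx i h'
        have := hp2 z hz i (e1 ▸ h')
        omega
  rw [card_product, card_univ, card_pt] at c1
  omega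

theorem LL.eq_lat {A : AddSubgroup V} (h : LL A) (hc : ∀ s, CW s ↔ s ∈ codeOf A) {y : V} (hy : y ∈ A)
    (y1 : ∀ i, y i % 4 = 1) : A = leechLattice := by
  have k0 : ∀ x ∈ A, (∀ i, x i % 2 = 0) → LV 0 x := fun x hx h1 => by
    refine ⟨h1, ?_, (hc _).2 (mem_codeOf.2 ⟨x, hx, h1, rfl⟩)⟩
    have := h.dot hx hy
    have : (8 : ℤ) ∣ dotInt x y - ∑ i, x i := by
      unfold dotInt
      rw [← sum_sub_distrib]
      refine dvd_sum fun i _ => ?_
      obtain ⟨a, ha⟩ : (2 : ℤ) ∣ x i := by have := h1 i; omega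
      obtain ⟨b, hb⟩ : (4 : ℤ) ∣ y i - 1 := by have := y1 i; omega
      exact ⟨a * b, by rw [ha, show y i = 4 * b + 1 by omega]; ring⟩
    omega
  have y2 : ∀ i, y i % 2 = 1 := fun i => by have := y1 i; omega
  have y3 : hi y = ∅ := by
    ext i
    have := y1 i
    simp only [mem_hi, notMem_empty, iff_false]
    omega
  have k1 : LV 1 y := by
    refine ⟨y2, ?_, y3 ▸ CW.empty⟩
    have := odd_sq_cong y2
    have := h.six y hy
    rw [y3, card_empty] at *
    omega
  have k4 : ∀ x ∈ leechLattice, (∀ i, x i % 4 = 0) → x ∈ A := fun x hx h4 =>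
    h.four x h4 (lv0_of hx (i := pt 0) (by have := h4 (pt 0); omega)).2.1
  refine le_antisymm (fun x hx => ?_) (lat_le (fun b hb => ?_) (fun i => ?_) ?_)
  · rcases h.par hx with h1 | h1
    · exact (k0 x hx h1).mem0
    · have := (k0 _ (sub_mem hx hy) fun i => by
        have := h1 i
        have := y2 i
        rw [Pi.sub_apply]; omega).mem0
      simpa using add_mem this k1.mem1
  · obtain ⟨x, hx, h1, e⟩ := mem_codeOf.1 ((hc _).1 (bas_cw b hb))
    have := k4 _ (sub_mem (k0 x hx h1).mem0 (two_mem (bas_cw b hb))) fun i => by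
      simp only [Pi.sub_apply, two, ← e, mem_hi]
      have := h1 i
      split_ifs <;> omega
    simpa using sub_mem hx this
  · exact k4 _ (pair_mem _ _ rfl rfl) fun j => by
      have := single_four i j (a := 4) rfl
      have := single_four (pt 23) j (a := 4) rfl
      rw [Pi.add_apply]; omega
  · have := k4 _ (sub_mem (y0_mem (pt 23)) k1.mem1) fun i => by
      have := y1 i
      simp only [Pi.sub_apply, y0]
      split_ifs <;> omega
    simpa using add_mem this hy

/-- a signed permutation as an additive map -/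
def spH (σ : Equiv.Perm GolayPt) (c : Finset GolayPt) : V →+ V :=
  AddMonoidHom.mk' (signedPerm σ c) fun x y => by
    funext i
    simp only [signedPerm, Pi.add_apply]
    split_ifs <;> ring

theorem spH_apply (σ : Equiv.Perm GolayPt) (c : Finset GolayPt) (x : V) (i : GolayPt) :
    spH σ c x i = if i ∈ c then -x (σ.symm i) else x (σ.symm i) := rfl

theorem sqNorm_spH (σ : Equiv.Perm GolayPt) (c : Finset GolayPt) (x : V) :
    sqNorm (spH σ c x) = sqNorm x :=
  (sqNorm_sg c _).trans (Equiv.sum_comp σ.symm fun i => x i ^ 2)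

theorem spH_surj (σ : Equiv.Perm GolayPt) (c : Finset GolayPt) : Function.Surjective (spH σ c) :=
  fun y => ⟨fun i => sg c y (σ i), funext fun i => by
    simp only [spH_apply, Equiv.apply_symm_apply, sg_apply]
    split_ifs <;> simp⟩

theorem spH_inj (σ : Equiv.Perm GolayPt) (c : Finset GolayPt) : Function.Injective (spH σ c) :=
  (injective_iff_map_eq_zero _).2 fun x hx => sqNorm_eq_zero (by
    rw [← sqNorm_spH σ c, hx]; simp [sqNorm])

theorem spH_single (σ : Equiv.Perm GolayPt) (c : Finset GolayPt) (i : GolayPt) (a : ℤ) :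
    spH σ c (Pi.single i a) = Pi.single (σ i) (if σ i ∈ c then -a else a) := by
  funext j
  obtain ⟨j, rfl⟩ := σ.surjective j
  simp only [spH_apply, Equiv.symm_apply_apply, Pi.single_apply, σ.injective.eq_iff]
  by_cases h : j = i
  · simp [h]
  · simp [h]

theorem hi_spH (σ : Equiv.Perm GolayPt) (c : Finset GolayPt) {x : V} (h : ∀ i, x i % 2 = 0) :
    hi (spH σ c x) = (hi x).map σ.toEmbedding := by
  ext i
  have := h (σ.symm i)
  simp only [mem_hi, spH_apply, mem_map_equiv]
  split_ifs <;> omega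

theorem spH_mod (σ : Equiv.Perm GolayPt) (c : Finset GolayPt) (x : V) :
    (∀ i, spH σ c x i % 2 = 0) ↔ ∀ i, x i % 2 = 0 := by
  refine ⟨fun h i => ?_, fun h i => ?_⟩
  · have := h (σ i)
    simp only [spH_apply, Equiv.symm_apply_apply] at this
    split_ifs at this <;> omega
  · have := h (σ.symm i)
    rw [spH_apply]
    split_ifs <;> omega

theorem LL.std {A : AddSubgroup V} (h : LL A) (S : Finset V) (hS : ∀ x ∈ S, x ∈ A ∧ sqNorm x = 32)
    (hc : S.card = 196560) : ∃ σ c, ∀ x, x ∈ leechLattice ↔ spH σ c x ∈ A := by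
  obtain ⟨h1, y, hy, y1⟩ := h.big S hS hc
  have gc : GC (codeOf A) := ⟨mem_codeOf.2 ⟨0, zero_mem _, fun _ => rfl, by ext i; simp [mem_hi]⟩,
    fun s hs t ht => LL.code_sd hs ht, fun s hs => (h.code4 hs).1, fun s hs => (h.code4 hs).2, h1⟩
  obtain ⟨σ, hσ⟩ := gc.uniq card_pt
  have h' : LL (A.comap (spH σ (hi y))) := by
    refine ⟨fun x hx => sqNorm_spH σ _ x ▸ h.six _ hx, fun x hx => sqNorm_spH σ _ x ▸ h.no _ hx,
      fun x h4 h8 => ?_⟩
    have h4' : ∀ i, spH σ (hi y) x i % 4 = 0 := fun i => by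
      have := h4 (σ.symm i)
      rw [spH_apply]
      split_ifs <;> omega
    refine h.four _ h4' ?_
    have := four_sq_cong h4
    have := four_sq_cong h4'
    rw [sqNorm_spH] at this
    omega
  obtain ⟨z, hz⟩ := spH_surj σ (hi y) y
  refine ⟨σ, hi y, fun x => ?_⟩
  rw [← h'.eq_lat (y := z) (fun s => ?_) (show spH _ _ z ∈ A by rwa [hz]) fun i => ?_]
  · rfl
  · rw [hσ, mem_codeOf, mem_codeOf]
    constructor
    · rintro ⟨x, hx, x1, e⟩
      obtain ⟨w, rfl⟩ := spH_surj σ (hi y) x
      have w1 := (spH_mod _ _ _).1 x1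
      exact ⟨w, hx, w1, map_injective _ ((hi_spH _ _ w1).symm.trans e)⟩
    · rintro ⟨x, hx, x1, rfl⟩
      exact ⟨_, hx, (spH_mod _ _ _).2 x1, hi_spH _ _ x1⟩
  · have := congrFun hz (σ i)
    simp only [spH_apply, Equiv.symm_apply_apply, mem_hi] at this
    have := y1 (σ i)
    split_ifs at * <;> omega

end Cfsg.Agent.Lee
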