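/-
Even lattices of rank 24 without roots: crosses and the identification with the standard lattice.
-/
import Cfsg.Agent.Lee.Conway

set_option autoImplicit false

namespace Cfsg.Agent.Lee

open Cfsg Cfsg.Agent.Gol Finset
open scoped Pointwise symmDiff

structure EL {M : Type*} [AddCommGroup M] (b : M →+ M →+ ℤ) : Prop where
  symm : ∀ x y, b x y = b y x
  pos : ∀ x, x ≠ 0 → 0 < b x x
  even : ∀ x, (2 : ℤ) ∣ b x x
  no2 : ∀ x, b x x ≠ 2

section
variable {M : Type*} [AddCommGroup M] {b : M →+ M →+ ℤ}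

theorem EL.four_le (h : EL b) {x : M} (hx : x ≠ 0) : 4 ≤ b x x := by
  have := h.pos x hx
  have := h.even x
  have := h.no2 x
  omega

theorem EL.cong (h : EL b) {x y z : M} (hx : b x x ≤ 8) (hy : b y y ≤ 8) (e : x - y = 2 • z) :
    y = x ∨ y = -x ∨ (b x x = 8 ∧ b y y = 8 ∧ b x y = 0) := by
  by_cases h1 : z = 0
  · left
    rw [h1, smul_zero, sub_eq_zero] at e
    exact e.symm
  by_cases h2 : z + y = 0
  · right; left
    rw [eq_neg_of_add_eq_zero_left h2, sub_eq_iff_eq_add] at e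
    rw [e]; abel
  have a1 := h.four_le h1
  have a2 := h.four_le h2
  have e1 : b (x - y) (x - y) = 4 * b z z := by
    rw [e]; simp only [two_nsmul, map_add, AddMonoidHom.add_apply]; ring
  have e2 : b (x + y) (x + y) = 4 * b (z + y) (z + y) := by
    have : x + y = (z + y) + (z + y) := by rw [sub_eq_iff_eq_add.1 e]; abel
    rw [this]
    generalize z + y = w
    simp only [map_add, AddMonoidHom.add_apply]; ring
  simp only [map_sub, AddMonoidHom.sub_apply] at e1
  rw [map_add b x y, AddMonoidHom.add_apply, map_add (b x), map_add (b y)] at e2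
  have := h.symm x y
  omega

theorem EL.orth_le [Module.Finite ℤ M] (h : EL b) (R : Finset M) (h0 : ∀ x ∈ R, x ≠ 0)
    (ho : ∀ x ∈ R, ∀ y ∈ R, x ≠ y → b x y = 0) : R.card ≤ Module.finrank ℤ M := by
  have li : LinearIndependent ℤ (Subtype.val : R → M) := by
    rw [Fintype.linearIndependent_iff]
    intro g hg i
    have := congrArg (b i) hg
    rw [map_sum, map_zero, sum_eq_single i (fun j _ hj => by
      rw [map_zsmul, ho _ i.2 _ j.2 fun e => hj (Subtype.ext e.symm), smul_zero]) (by simp),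
      map_zsmul, smul_eq_mul] at this
    exact (mul_eq_zero.1 this).resolve_right (h.pos _ (h0 _ i.2)).ne'
  simpa using li.fintype_card_le_finrank

theorem exists_half [DecidableEq M] (T : Finset M) (h1 : ∀ x ∈ T, -x ∈ T) (h2 : ∀ x ∈ T, -x ≠ x) :
    ∃ R ⊆ T, T.card = 2 * R.card ∧ ∀ x ∈ R, -x ∉ R := by
  letI : LinearOrder M := IsWellOrder.linearOrder WellOrderingRel
  refine ⟨T.filter fun x => x < -x, filter_subset _ _, ?_, fun x hx hx' => ?_⟩
  · rw [← card_filter_add_card_filter_not (fun x => x < -x), two_mul]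
    congr 1
    refine card_bij (fun x _ => -x) (fun x hx => ?_) (fun x _ y _ e => neg_injective e) fun y hy => ?_
    · obtain ⟨a, b⟩ := mem_filter.1 hx
      exact mem_filter.2 ⟨h1 x a, by rw [neg_neg]; exact lt_of_le_of_ne (not_lt.1 b) (h2 x a)⟩
    · obtain ⟨a, b⟩ := mem_filter.1 hy
      exact ⟨-y, mem_filter.2 ⟨h1 y a, by rw [neg_neg]; exact not_lt.2 b.le⟩, neg_neg y⟩
  · have := (mem_filter.1 hx').2
    rw [neg_neg] at this
    exact lt_asymm this (mem_filter.1 hx).2

theorem EL.neg_ne (h : EL b) {x : M} (hx : b x x ≠ 0) : -x ≠ x := fun e => by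
  have := congrArg (b x) e
  rw [map_neg] at this
  omega

/-- a finite set of mutually congruent vectors of norm 8, closed under negation -/
theorem EL.half [DecidableEq M] (h : EL b) (T : Finset M) (h1 : ∀ x ∈ T, -x ∈ T)
    (h2 : ∀ x ∈ T, b x x = 8) (h3 : ∀ x ∈ T, ∀ y ∈ T, ∃ z, x - y = 2 • z) :
    ∃ R ⊆ T, T.card = 2 * R.card ∧ ∀ x ∈ R, ∀ y ∈ R, x ≠ y → b x y = 0 := by
  obtain ⟨R, r1, r2, r3⟩ := exists_half T h1 fun x hx => h.neg_ne (by rw [h2 x hx]; norm_num)
  refine ⟨R, r1, r2, fun x hx y hy hne => ?_⟩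
  obtain ⟨z, e⟩ := h3 x (r1 hx) y (r1 hy)
  rcases h.cong (h2 x (r1 hx)).le (h2 y (r1 hy)).le e with h' | h' | h'
  · exact absurd h'.symm hne
  · exact absurd (h' ▸ hy) (r3 x hx)
  · exact h'.2.2

structure CT (b : M →+ M →+ ℤ) : Prop where
  c4 : {x | b x x = 4}.ncard = 196560
  c6 : {x | b x x = 6}.ncard = 16773120
  c8 : {x | b x x = 8}.ncard = 398034000

theorem EL.classes [Module.Free ℤ M] [Module.Finite ℤ M] (hr : Module.finrank ℤ M = 24) (h : EL b)
    (hc : CT b) : (∀ x, ∃ y, b y y ≤ 8 ∧ ∃ z, x - y = 2 • z) ∧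
      ∀ x, b x x = 8 → {y | b y y = 8 ∧ ∃ z, x - y = 2 • z}.ncard = 48 := by
  classical
  let D : AddSubgroup M := (nsmulAddMonoidHom 2).range
  have hD : D.index = 2 ^ 24 := by rw [AddSubgroup.index_range_nsmul, hr]
  haveI : Finite (M ⧸ D) := Nat.finite_of_card_ne_zero (by
    rw [← AddSubgroup.index_eq_card, hD]; norm_num)
  letI := Fintype.ofFinite (M ⧸ D)
  have hQ : Fintype.card (M ⧸ D) = 16777216 := by
    rw [← Nat.card_eq_fintype_card, ← AddSubgroup.index_eq_card, hD]; norm_num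
  let π : M → M ⧸ D := QuotientAddGroup.mk
  have hπ : ∀ x y, π x = π y ↔ ∃ z, x - y = 2 • z := fun x y => by
    rw [QuotientAddGroup.eq_iff_sub_mem]
    exact ⟨fun ⟨z, e⟩ => ⟨z, e.symm⟩, fun ⟨z, e⟩ => ⟨z, e.symm⟩⟩
  have fin : ∀ n N, {x | b x x = n}.ncard = N → N ≠ 0 →
      ∃ S : Finset M, S.card = N ∧ ∀ x, x ∈ S ↔ b x x = n := fun n N e hN => by
    have hf := Set.finite_of_ncard_ne_zero (e ▸ hN)
    exact ⟨hf.toFinset, by rw [← e, Set.ncard_eq_toFinset_card _ hf], fun x => by simp⟩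
  obtain ⟨S4, c4, m4⟩ := fin _ _ hc.c4 (by norm_num)
  obtain ⟨S6, c6, m6⟩ := fin _ _ hc.c6 (by norm_num)
  obtain ⟨S8, c8, m8⟩ := fin _ _ hc.c8 (by norm_num)
  have k2 : ∀ (S : Finset M) (n : ℤ), n < 8 → (∀ x, x ∈ S ↔ b x x = n) →
      S.card ≤ 2 * (S.image π).card := fun S n hn m => by
    refine card_le_mul_card_image _ _ fun q hq => ?_
    obtain ⟨x, hx, rfl⟩ := mem_image.1 hq
    refine (card_le_card (t := {x, -x}) fun y hy => ?_).trans card_le_two
    obtain ⟨z, e⟩ := (hπ _ _).1 (mem_filter.1 hy).2.symm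
    have a1 := (m x).1 hx
    have a2 := (m y).1 (mem_filter.1 hy).1
    rcases h.cong (by omega) (by omega) e with h' | h' | h'
    · simp [h']
    · simp [h']
    · omega
  have k48 : ∀ q, (S8.filter fun y => π y = q).card ≤ 48 := fun q => by
    obtain ⟨R, r1, r2, r3⟩ := h.half (S8.filter fun y => π y = q)
      (fun x hx => mem_filter.2 ⟨(m8 _).2 (by simpa using (m8 _).1 (mem_filter.1 hx).1), by
        rw [← (mem_filter.1 hx).2, hπ]
        exact ⟨-x, by rw [two_nsmul, sub_eq_add_neg]⟩⟩)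
      (fun x hx => (m8 _).1 (mem_filter.1 hx).1)
      fun x hx y hy => (hπ _ _).1 ((mem_filter.1 hx).2.trans (mem_filter.1 hy).2.symm)
    have := h.orth_le R (fun x hx e => by
      have := (m8 _).1 (mem_filter.1 (r1 hx)).1
      simp [e] at this) r3
    omega
  have a4 := k2 S4 4 (by norm_num) m4
  have a6 := k2 S6 6 (by norm_num) m6
  have a8 := card_le_mul_card_image (f := π) S8 48 fun q _ => k48 q
  have dj : ∀ (S T : Finset M) (n n' : ℤ), n < n' → n' ≤ 8 → (∀ x ∈ S, b x x ≤ n) →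
      (∀ x ∈ T, b x x = n') → Disjoint (S.image π) (T.image π) := fun S T n n' h1 h2 m m' => by
    rw [disjoint_left]
    intro q hq hq'
    obtain ⟨x, hx, rfl⟩ := mem_image.1 hq
    obtain ⟨y, hy, e⟩ := mem_image.1 hq'
    obtain ⟨z, e⟩ := (hπ _ _).1 e.symm
    have a1 := m x hx
    have a2 := m' y hy
    rcases h.cong (by omega) (by omega) e with h' | h' | h'
    · rw [h'] at a2; omega
    · simp only [h', map_neg, AddMonoidHom.neg_apply, neg_neg] at a2; omega
    · omega
  have b0 : ∀ x ∈ ({0} : Finset M), b x x ≤ 0 := by simp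
  have b4 : ∀ x ∈ {0} ∪ S4, b x x ≤ 4 := fun x hx => by
    rcases mem_union.1 hx with h | h
    · have := b0 x h; omega
    · exact ((m4 x).1 h).le
  have b6 : ∀ x ∈ {0} ∪ S4 ∪ S6, b x x ≤ 6 := fun x hx => by
    rcases mem_union.1 hx with h | h
    · have := b4 x h; omega
    · exact ((m6 x).1 h).le
  have b8 : ∀ x ∈ {0} ∪ S4 ∪ S6 ∪ S8, b x x ≤ 8 := fun x hx => by
    rcases mem_union.1 hx with h | h
    · have := b6 x h; omega
    · exact ((m8 x).1 h).le
  have tot : (({0} ∪ S4 ∪ S6 ∪ S8).image π).card =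
      1 + (S4.image π).card + (S6.image π).card + (S8.image π).card := by
    rw [image_union, card_union_of_disjoint (dj _ _ 6 8 (by norm_num) le_rfl b6 fun x => (m8 x).1),
      image_union, card_union_of_disjoint (dj _ _ 4 6 (by norm_num) (by norm_num) b4 fun x => (m6 x).1),
      image_union, card_union_of_disjoint (dj _ _ 0 4 (by norm_num) (by norm_num) b0 fun x => (m4 x).1),
      image_singleton, card_singleton]
  have le := card_le_univ (({0} ∪ S4 ∪ S6 ∪ S8).image π)
  refine ⟨fun x => ?_, fun x hx => ?_⟩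
  · have : π x ∈ ({0} ∪ S4 ∪ S6 ∪ S8).image π := by
      rw [eq_univ_of_card (({0} ∪ S4 ∪ S6 ∪ S8).image π) (by omega)]; exact mem_univ _
    obtain ⟨y, hy, e⟩ := mem_image.1 this
    exact ⟨y, b8 y hy, (hπ _ _).1 e.symm⟩
  · have e : {y | b y y = 8 ∧ ∃ z, x - y = 2 • z} = ↑(S8.filter fun y => π y = π x) := by
      ext y
      simp only [Set.mem_setOf_eq, coe_filter, m8, ← hπ, eq_comm (a := π y)]
    rw [e, Set.ncard_coe_finset]
    by_contra hne
    have := sum_lt_sum (s := S8.image π) (f := fun q => (S8.filter fun y => π y = q).card)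
      (g := fun _ => 48) (fun q _ => k48 q)
      ⟨π x, mem_image_of_mem _ ((m8 x).2 hx), lt_of_le_of_ne (k48 _) hne⟩
    rw [← card_eq_sum_card_image, sum_const, smul_eq_mul] at this
    omega

theorem EL.std [Module.Free ℤ M] [Module.Finite ℤ M] (hr : Module.finrank ℤ M = 24) (h : EL b)
    (hc : CT b) {x : M} (hx : b x x = 8) : ∃ f : M ≃+ leechLattice,
      (∀ y, sqNorm (f y : V) = 8 * b y y) ∧ (f x : V) ∈ stdCross := by
  classical
  have h48 := (h.classes hr hc).2 x hx
  have hf := Set.finite_of_ncard_ne_zero (h48 ▸ (by norm_num : 48 ≠ 0))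
  rw [Set.ncard_eq_toFinset_card _ hf] at h48
  have mT : ∀ y, y ∈ hf.toFinset ↔ b y y = 8 ∧ ∃ z, x - y = 2 • z := fun y => by simp
  have cg : ∀ y ∈ hf.toFinset, ∀ y' ∈ hf.toFinset, ∃ z, y - y' = 2 • z := fun y hy y' hy' => by
    obtain ⟨z, e⟩ := ((mT _).1 hy).2
    obtain ⟨z', e'⟩ := ((mT _).1 hy').2
    exact ⟨z' - z, by rw [smul_sub, ← e, ← e']; abel⟩
  obtain ⟨R, r1, r2, r3⟩ := h.half hf.toFinset (fun y hy => (mT _).2 ⟨by simpa using ((mT _).1 hy).1, by
      obtain ⟨z, e⟩ := ((mT _).1 hy).2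
      exact ⟨z + y, by rw [smul_add, ← e]; abel⟩⟩) (fun y hy => ((mT _).1 hy).1) cg
  have r8 : ∀ y ∈ R, b y y = 8 := fun y hy => ((mT _).1 (r1 hy)).1
  have r0 : ∀ y ∈ R, y ≠ 0 := fun y hy e => by simpa [e] using r8 y hy
  have max : ∀ w, (∀ y ∈ R, b y w = 0) → w = 0 := fun w hw => by
    by_contra h0
    have hn : w ∉ R := fun h' => (h.pos w h0).ne' (hw w h')
    have := h.orth_le (insert w R) (by simpa [h0] using r0) fun y hy y' hy' hne => by
      rcases mem_insert.1 hy with e1 | hy <;> rcases mem_insert.1 hy' with e2 | hy'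
      · exact absurd (e1.trans e2.symm) hne
      · rw [h.symm, e1]; exact hw _ hy'
      · rw [e2]; exact hw _ hy
      · exact r3 _ hy _ hy' hne
    rw [card_insert_of_notMem hn] at this
    omega
  let e : GolayPt ≃ R := Fintype.equivOfCardEq (by rw [card_pt, Fintype.card_coe]; omega)
  let v : GolayPt → M := fun i => e i
  have vv : ∀ i j, b (v i) (v j) = if i = j then 8 else 0 := fun i j => by
    split_ifs with hij
    · rw [hij]; exact r8 _ (e j).2
    · exact r3 _ (e i).2 _ (e j).2 fun h' => hij (e.injective (Subtype.ext h'))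
  let φ : M →+ V := AddMonoidHom.pi fun i => b (v i)
  have φa : ∀ y i, φ y i = b (v i) y := fun _ _ => rfl
  have φn : ∀ y, sqNorm (φ y) = 8 * b y y := fun y => by
    have := max ((8 : ℤ) • y - ∑ i, b (v i) y • v i) fun w hw => by
      obtain ⟨j, hj⟩ := e.surjective ⟨w, hw⟩
      rw [show w = v j from (congrArg Subtype.val hj).symm]
      simp only [map_sub, map_sum, map_zsmul, vv, smul_eq_mul, mul_ite, mul_zero, sum_ite_eq,
        mem_univ, if_true]
      ring
    have := congrArg (b y) this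
    simp only [map_sub, map_sum, map_zsmul, map_zero, smul_eq_mul] at this
    simp only [sqNorm, φa, sq]
    simp only [h.symm y (v _)] at this
    omega
  have φi : Function.Injective φ := (injective_iff_map_eq_zero _).2 fun y hy => max y fun w hw => by
    obtain ⟨j, hj⟩ := e.surjective ⟨w, hw⟩
    rw [show w = v j from (congrArg Subtype.val hj).symm]
    exact congrFun hy j
  have φv : ∀ j, φ (v j) = Pi.single j 8 := fun j => funext fun i => by
    rw [φa, vv, Pi.single_apply]
  have ll : LL φ.range := by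
    refine ⟨?_, ?_, fun w h4 h8 => ?_⟩
    · rintro _ ⟨y, rfl⟩
      have := φn y
      have := h.even y
      omega
    · rintro _ ⟨y, rfl⟩
      have := φn y
      have := h.no2 y
      omega
    · have k : ∀ i, (Pi.single i 4 - Pi.single (pt 0) 4 : V) ∈ φ.range := fun i => by
        obtain ⟨z, e⟩ := cg _ (r1 (e i).2) _ (r1 (e (pt 0)).2)
        refine ⟨z, funext fun j => ?_⟩
        have := congrFun (congrArg φ e) j
        rw [map_sub, map_nsmul, φv, φv] at this
        simp only [Pi.sub_apply, Pi.smul_apply, Pi.single_apply, nsmul_eq_mul] at this ⊢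
        split_ifs at * <;> omega
      have e : w = ∑ i, (w i / 4) • (Pi.single i 4 - Pi.single (pt 0) 4 : V) +
          ((∑ i, w i) / 8) • (Pi.single (pt 0) 8 : V) := by
        funext j
        have e4 : ∀ i, w i / 4 * 4 = w i := fun i => by have := h4 i; omega
        simp only [Pi.sub_apply, Finset.sum_apply, Pi.smul_apply, Pi.add_apply, Pi.single_apply,
          smul_eq_mul, mul_sub, sum_sub_distrib, mul_ite, mul_zero, sum_ite_eq, mem_univ, if_true, e4]
        split_ifs
        · omega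
        · simp
      rw [e]
      exact add_mem (sum_mem fun i _ => zsmul_mem (k i) _) (zsmul_mem (AddMonoidHom.mem_range.2 ⟨_, φv _⟩) _)
  have f4 := Set.finite_of_ncard_ne_zero (hc.c4 ▸ (by norm_num : 196560 ≠ 0))
  obtain ⟨σ, c, hσ⟩ := ll.std (f4.toFinset.image φ) (fun w hw => by
      obtain ⟨y, hy, rfl⟩ := mem_image.1 hw
      exact ⟨⟨y, rfl⟩, by rw [φn, show b y y = 4 by simpa using hy]; rfl⟩)
    (by rw [card_image_of_injective _ φi, ← hc.c4, Set.ncard_eq_toFinset_card _ f4])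
  let Ψ : V ≃+ V := AddEquiv.ofBijective (spH σ c) ⟨spH_inj σ c, spH_surj σ c⟩
  have Ψs : ∀ w, spH σ c (Ψ.symm w) = w := Ψ.apply_symm_apply
  let g : M →+ leechLattice := ((Ψ.symm : V →+ V).comp φ).codRestrict _ fun y =>
    (hσ _).2 ⟨y, (Ψs _).symm⟩
  have ga : ∀ y, (g y : V) = Ψ.symm (φ y) := fun _ => rfl
  refine ⟨AddEquiv.ofBijective g ⟨fun y y' e => φi (Ψ.symm.injective (congrArg Subtype.val e)),
    fun w => ?_⟩, fun y => ?_, ?_⟩
  · obtain ⟨y, e⟩ := (hσ _).1 w.2
    exact ⟨y, Subtype.ext (by rw [ga, e]; exact Ψ.symm_apply_apply _)⟩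
  · show sqNorm (g y : V) = _
    rw [ga, ← sqNorm_spH σ c, Ψs, φn]
  · show (g x : V) ∈ _
    obtain ⟨j, s, hs, e'⟩ : ∃ (j : GolayPt) (s : ℤ), (s = 8 ∨ s = -8) ∧ φ x = Pi.single j s := by
      by_contra hn
      push Not at hn
      have := max x fun w hw => by
        obtain ⟨j, hj⟩ := e.surjective ⟨w, hw⟩
        rw [show w = v j from (congrArg Subtype.val hj).symm]
        obtain ⟨z, e'⟩ := ((mT _).1 (r1 (e j).2)).2
        rcases h.cong hx.le (r8 _ (e j).2).le e' with h' | h' | h'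
        · exact absurd (h' ▸ φv j) (hn j 8 (Or.inl rfl))
        · refine absurd ?_ (hn j (-8) (Or.inr rfl))
          rw [Pi.single_neg, ← φv j, ← map_neg]
          exact congrArg φ (neg_eq_iff_eq_neg.2 h').symm
        · rw [h.symm]; exact h'.2.2
      simp [this] at hx
    refine ⟨σ.symm j, if j ∈ c then -s else s, by split_ifs <;> omega, ?_⟩
    rw [ga, e', AddEquiv.symm_apply_eq]
    show _ = spH σ c _
    rw [spH_single, Equiv.apply_symm_apply]
    split_ifs <;> simp

end

/-- the form of an integral matrix -/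
def mB (B : Matrix (Fin 24) (Fin 24) ℤ) : (Fin 24 → ℤ) →+ (Fin 24 → ℤ) →+ ℤ :=
  AddMonoidHom.mk' (fun x => AddMonoidHom.mk' (fun y => x ⬝ᵥ (B.mulVec y)) fun y z => by
    rw [Matrix.mulVec_add, dotProduct_add]) fun x y => by
    ext z
    simp [add_dotProduct]

theorem mB_apply (B : Matrix (Fin 24) (Fin 24) ℤ) (x y : Fin 24 → ℤ) :
    mB B x y = x ⬝ᵥ (B.mulVec y) := rfl

theorem el_mB {B : Matrix (Fin 24) (Fin 24) ℤ} (hsymm : B.IsSymm)
    (hpos : ∀ x : Fin 24 → ℤ, x ≠ 0 → 0 < x ⬝ᵥ (B.mulVec x))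
    (heven : ∀ x : Fin 24 → ℤ, (2 : ℤ) ∣ x ⬝ᵥ (B.mulVec x))
    (h2 : ∀ x : Fin 24 → ℤ, x ⬝ᵥ (B.mulVec x) ≠ 2) : EL (mB B) :=
  ⟨fun x y => by
    rw [mB_apply, mB_apply, Matrix.dotProduct_mulVec, dotProduct_comm, ← Matrix.mulVec_transpose,
      hsymm.eq], hpos, heven, h2⟩

theorem two_dvd_iff {x y : Fin 24 → ℤ} : (∀ i, (2 : ℤ) ∣ (x - y) i) ↔ ∃ z, x - y = 2 • z := by
  constructor
  · intro h
    choose z hz using h
    exact ⟨z, funext fun i => by rw [hz]; simp⟩
  · rintro ⟨z, e⟩ i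
    rw [e]; simp

/-- the form of the standard lattice -/
def lB : leechLattice →+ leechLattice →+ ℤ :=
  AddMonoidHom.mk' (fun x => AddMonoidHom.mk' (fun y => dotInt (x : V) (y : V) / 8) fun y z => by
    have := eight_dvd_dot x.2 y.2
    rw [AddSubgroup.coe_add, dot_add]
    omega) fun x y => by
    ext z
    have := eight_dvd_dot x.2 z.2
    simp only [AddMonoidHom.mk'_apply, AddMonoidHom.add_apply, AddSubgroup.coe_add, add_dot]
    omega

theorem lB_eq (x y : leechLattice) : 8 * lB x y = dotInt (x : V) (y : V) := by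
  have := eight_dvd_dot x.2 y.2
  show 8 * (dotInt (x : V) (y : V) / 8) = _
  omega

theorem lB_self (x : leechLattice) : 8 * lB x x = sqNorm (x : V) := by rw [lB_eq, sqNorm_eq_dot]

theorem el_lB : EL lB := by
  refine ⟨fun x y => ?_, fun x hx => ?_, fun x => ?_, fun x hx => ?_⟩
  · have := lB_eq x y
    have := lB_eq y x
    rw [dot_comm] at this
    omega
  · have := lB_self x
    have := min_norm x.2 fun e => hx (Subtype.ext e)
    omega
  · have := lB_self x
    have := sixteen_dvd x.2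
    omega
  · have := lB_self x
    have := min_norm x.2 fun e => by
      rw [e] at this
      simp [sqNorm, hx] at this
    omega

theorem ncard_lat (P : V → Prop) :
    {x : leechLattice | P x}.ncard = {x : V | x ∈ leechLattice ∧ P x}.ncard := by
  rw [← Set.ncard_image_of_injective _ Subtype.val_injective]
  congr 1
  ext x
  simp [and_comm]

theorem ct_lB : CT lB := by
  have k : ∀ n : ℤ, {x : leechLattice | lB x x = n} = {x : leechLattice | sqNorm (x : V) = 8 * n} :=
    fun n => Set.ext fun x => by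
      have := lB_self x
      simp only [Set.mem_setOf_eq]
      omega
  refine ⟨?_, ?_, ?_⟩ <;> rw [k, ncard_lat fun x => sqNorm x = _]
  · exact count32
  · exact count48
  · exact count64

instance fin_lat : Module.Finite ℤ leechLattice :=
  Module.Finite.of_injective leechLattice.subtype.toIntLinearMap Subtype.val_injective

theorem finrank_lat : Module.finrank ℤ leechLattice = 24 := by
  haveI : leechLattice.FiniteIndex := ⟨by rw [index_lat]; norm_num⟩
  rw [AddSubgroup.finrank_eq_of_finiteIndex, Module.finrank_fintype_fun_eq_card, card_pt]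

theorem short_rep {x : V} (hx : x ∈ leechLattice) :
    ∃ y ∈ leechLattice, sqNorm y ≤ 64 ∧ ∃ z ∈ leechLattice, x - y = 2 • z := by
  obtain ⟨y, h1, z, e⟩ := (el_lB.classes finrank_lat ct_lB).1 ⟨x, hx⟩
  exact ⟨y, y.2, by have := lB_self y; omega, z, z.2, congrArg Subtype.val e⟩

theorem card_cross {x : V} (hx : x ∈ leechLattice) (hn : sqNorm x = 64) : (cross x).ncard = 48 := by
  rw [← (el_lB.classes finrank_lat ct_lB).2 ⟨x, hx⟩ (by have := lB_self ⟨x, hx⟩; simp only at this; omega),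
    ← Set.ncard_image_of_injective _ Subtype.val_injective]
  congr 1
  ext y
  constructor
  · rintro ⟨h1, h2, z, hz, e⟩
    exact ⟨⟨y, h1⟩, ⟨by have := lB_self ⟨y, h1⟩; simp only at this; omega, ⟨z, hz⟩, Subtype.ext e⟩, rfl⟩
  · rintro ⟨y, ⟨h1, z, e⟩, rfl⟩
    exact ⟨y.2, by have := lB_self y; omega, z, z.2, congrArg Subtype.val e⟩

theorem exists_to_cross (x : leechLattice) (hn : sqNorm (x : V) = 64) :
    ∃ g : Co0, ((g • x : leechLattice) : V) ∈ stdCross := by
  obtain ⟨f, h1, h2⟩ := el_lB.std finrank_lat ct_lB (x := x) (by have := lB_self x; omega)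
  exact ⟨⟨f.toEquiv, f.map_add, fun v => (h1 v).trans (lB_self v)⟩, h2⟩

end Cfsg.Agent.Lee
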