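/-
The automorphism group of the rank-24 lattice: monomial subgroup, order, transitivity.
-/
import Cfsg.Agent.Lee.Frame
import Cfsg.Agent.Gol.Gen

set_option autoImplicit false

namespace Cfsg.Agent.Lee

open Cfsg Cfsg.Agent.Gol Finset MulAction
open scoped Pointwise symmDiff

abbrev Λ : Type := ↥leechLattice

/-- an automorphism as an additive map -/
def hom (g : Co0) : Λ →+ Λ := AddMonoidHom.mk' (fun v => g • v) g.2.1

theorem co_add (g : Co0) (v w : Λ) : g • (v + w) = g • v + g • w := g.2.1 v w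
theorem co_zero (g : Co0) : g • (0 : Λ) = 0 := (hom g).map_zero
theorem co_neg (g : Co0) (v : Λ) : g • (-v) = -(g • v) := (hom g).map_neg v
theorem co_sub (g : Co0) (v w : Λ) : g • (v - w) = g • v - g • w := (hom g).map_sub v w
theorem co_nsmul (g : Co0) (n : ℕ) (v : Λ) : g • (n • v) = n • g • v := (hom g).map_nsmul n v
theorem co_zsmul (g : Co0) (n : ℤ) (v : Λ) : g • (n • v) = n • g • v := (hom g).map_zsmul n v

@[simp] theorem nm_smul (g : Co0) (v : Λ) : sqNorm ((g • v : Λ) : V) = sqNorm (v : V) := g.2.2 v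

@[simp] theorem dt_smul (g : Co0) (v w : Λ) :
    dotInt ((g • v : Λ) : V) ((g • w : Λ) : V) = dotInt (v : V) (w : V) := by
  have h := nm_smul g (v + w)
  rw [co_add, AddSubgroup.coe_add, AddSubgroup.coe_add, sqNorm_add, sqNorm_add, nm_smul, nm_smul] at h
  omega

theorem co_ext {g h : Co0} (e : ∀ v : Λ, g • v = h • v) : g = h := Subtype.ext (Equiv.ext e)

theorem hom_bij (f : Λ →+ Λ) (hf : ∀ v, sqNorm (f v : V) = sqNorm (v : V)) : Function.Bijective f := by
  have hi : Function.Injective f := (injective_iff_map_eq_zero _).2 fun v hv =>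
    Subtype.ext (sqNorm_eq_zero (by rw [← hf, hv]; simp [sqNorm]))
  refine ⟨hi, fun w => ?_⟩
  have fin : {v : Λ | sqNorm (v : V) = 32}.Finite :=
    ((finite_norm_le 32).preimage Subtype.val_injective.injOn).subset fun v hv => le_of_eq hv
  have mp : Set.MapsTo f {v : Λ | sqNorm (v : V) = 32} {v : Λ | sqNorm (v : V) = 32} :=
    fun v hv => (hf v).trans hv
  have sj := (fin.injOn_iff_bijOn_of_mapsTo mp).1 hi.injOn
  have : leechLattice ≤ f.range.map leechLattice.subtype := by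
    refine closure_min.symm.le.trans ((AddSubgroup.closure_le _).2 fun x hx => ?_)
    obtain ⟨v, -, e⟩ := sj.surjOn (show (⟨x, hx.1⟩ : Λ) ∈ {v : Λ | sqNorm (v : V) = 32} from hx.2)
    exact ⟨_, ⟨v, e⟩, rfl⟩
  obtain ⟨_, ⟨v, rfl⟩, e⟩ := this w.2
  exact ⟨v, Subtype.ext e⟩

/-- an automorphism from a norm-preserving additive map -/
noncomputable def ofHom (f : Λ →+ Λ) (hf : ∀ v, sqNorm (f v : V) = sqNorm (v : V)) : Co0 :=
  ⟨Equiv.ofBijective f (hom_bij f hf), f.map_add, hf⟩

theorem ofHom_smul (f : Λ →+ Λ) (hf : ∀ v, sqNorm (f v : V) = sqNorm (v : V)) (v : Λ) :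
    ofHom f hf • v = f v := rfl

/-- the monomial automorphisms -/
noncomputable def mono (σ : M24) {c : Finset GolayPt} (hc : CW c) : Co0 :=
  ofHom (((spH σ c).comp leechLattice.subtype).codRestrict _ fun v => signedPerm_mem σ.2 hc v.2)
    fun v => sqNorm_spH _ _ _

theorem mono_smul (σ : M24) {c : Finset GolayPt} (hc : CW c) (v : Λ) :
    ((mono σ hc • v : Λ) : V) = spH σ c v := rfl

theorem mono_apply (σ : M24) {c : Finset GolayPt} (hc : CW c) (v : Λ) (i : GolayPt) :
    ((mono σ hc • v : Λ) : V) (σ • i) = if σ • i ∈ c then -(v : V) i else (v : V) i := by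
  rw [mono_smul, spH_apply]
  show (if _ then -(v : V) ((σ : Equiv.Perm GolayPt).symm ((σ : Equiv.Perm GolayPt) i)) else
    (v : V) ((σ : Equiv.Perm GolayPt).symm ((σ : Equiv.Perm GolayPt) i))) = _
  rw [Equiv.symm_apply_apply]

theorem sg_smul {c : Finset GolayPt} (hc : CW c) (v : Λ) : ((mono 1 hc • v : Λ) : V) = sg c v := rfl

/-- negation -/
noncomputable def neg1 : Co0 := mono 1 CW.univ

theorem neg1_smul (v : Λ) : neg1 • v = -v := Subtype.ext (funext fun i => by
  rw [neg1, sg_smul, sg_apply, if_pos (mem_univ _)]; rfl)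

def e8 (i : GolayPt) : Λ := ⟨Pi.single i 8, single_mem i rfl⟩

theorem e8_coe (i : GolayPt) : (e8 i : V) = Pi.single i 8 := rfl

theorem dot_e8 (x : V) (i : GolayPt) : dotInt x (e8 i : V) = x i * 8 := dot_single _ _ _

theorem nm_e8 (i : GolayPt) : sqNorm (e8 i : V) = 64 := sqNorm_single _ _

theorem e8_std (i : GolayPt) : (e8 i : V) ∈ stdCross := ⟨i, 8, Or.inl rfl, rfl⟩

theorem mono_of_cross {g : Co0} (h : ∀ i, ((g • e8 i : Λ) : V) ∈ stdCross) :
    ∃ (σ : M24) (c : Finset GolayPt) (hc : CW c), g = mono σ hc := by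
  choose τ s hs e using h
  have k : ∀ (v : Λ) i, ((g • v : Λ) : V) (τ i) * s i = (v : V) i * 8 := fun v i => by
    rw [← dot_e8, ← dt_smul g, e, dot_single]
  have inj : Function.Injective τ := fun i j hij => by
    by_contra hne
    have := k (e8 i) j
    rw [e, ← hij, e8_coe, Pi.single_eq_same, Pi.single_eq_of_ne (Ne.symm hne)] at this
    rcases hs i with a | a <;> rcases hs j with b | b <;> rw [a, b] at this <;> omega
  let σ : Equiv.Perm GolayPt := Equiv.ofBijective τ (Finite.injective_iff_bijective.1 inj)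
  let c := univ.filter fun j => s (σ.symm j) = -8
  have a : ∀ v : Λ, ((g • v : Λ) : V) = spH σ c v := fun v => funext fun j => by
    obtain ⟨i, rfl⟩ := σ.surjective j
    have := k v i
    simp only [spH_apply, c, mem_filter, mem_univ, true_and, Equiv.symm_apply_apply]
    show ((g • v : Λ) : V) (τ i) = _
    rcases hs i with a | a <;> rw [a] at this ⊢ <;> simp <;> omega
  have hσ : σ ∈ M24 := mem_M24_iff.2 fun t ht => by
    have := lat_cw (g • (⟨two t, two_mem ht⟩ : Λ)).2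
    rw [a, hi_spH _ _ fun i => by simp only [two]; split_ifs <;> rfl, Gol.map_perm] at this
    convert this
    ext i
    simp only [mem_hi, two]
    split_ifs with h <;> simp [h]
  have hc : CW c := by
    have := lat_cw (g • (⟨y0 (pt 0), y0_mem _⟩ : Λ)).2
    rw [a] at this
    convert this using 1
    ext i
    simp only [mem_hi, spH_apply, y0]
    split_ifs with h <;> simp [h]
  exact ⟨⟨σ, hσ⟩, c, hc, co_ext fun v => Subtype.ext (a v)⟩

theorem e8_cong (i j : GolayPt) : ∃ z : Λ, e8 i - e8 j = 2 • z :=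
  ⟨⟨_, pair_mem i j (a := 4) (b := -4) rfl rfl⟩, Subtype.ext (funext fun k => by
    simp only [AddSubgroup.coe_sub, e8_coe, Pi.sub_apply, AddSubgroup.coe_nsmul, Pi.smul_apply,
      Pi.add_apply, Pi.single_apply]
    split_ifs <;> rfl)⟩

theorem std_of_cong {y z : Λ} (hy : sqNorm (y : V) = 64) {i : GolayPt} (e : e8 i - y = 2 • z) :
    (y : V) ∈ stdCross := by
  obtain ⟨j, hj⟩ := Function.ne_iff.1 (show (y : V) ≠ 0 from fun h => by simp [h, sqNorm] at hy)
  obtain ⟨w, hw⟩ := e8_cong j i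
  have h1 := lB_self y
  have h2 := lB_self (e8 j)
  rw [nm_e8] at h2
  rcases el_lB.cong (x := e8 j) (y := y) (z := w + z) (by omega) (by omega)
    (by rw [smul_add, ← hw, ← e]; abel) with h | h | h
  · exact h ▸ e8_std j
  · exact ⟨j, -8, Or.inr rfl, by rw [h, Pi.single_neg]; rfl⟩
  · have := lB_eq (e8 j) y
    rw [h.2.2, dot_comm, dot_e8] at this
    exact absurd (by simpa using this) hj

theorem std_cases {v : Λ} (h : (v : V) ∈ stdCross) : ∃ i, v = e8 i ∨ v = -e8 i := by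
  obtain ⟨i, s, rfl | rfl, e⟩ := h
  · exact ⟨i, Or.inl (Subtype.ext e)⟩
  · exact ⟨i, Or.inr (Subtype.ext (by rw [e, Pi.single_neg]; rfl))⟩

theorem neg_std {v : Λ} (h : (v : V) ∈ stdCross) : ((-v : Λ) : V) ∈ stdCross := by
  obtain ⟨i, s, hs, e⟩ := h
  exact ⟨i, -s, by omega, by rw [Pi.single_neg, ← e]; rfl⟩

theorem cross_of_one {g : Co0} {i : GolayPt} (h : ((g • e8 i : Λ) : V) ∈ stdCross) (j : GolayPt) :
    ((g • e8 j : Λ) : V) ∈ stdCross := by
  obtain ⟨z, e⟩ := e8_cong i j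
  have e' := congrArg (g • ·) e
  simp only [co_sub, co_nsmul] at e'
  obtain ⟨k, h | h⟩ := std_cases h
  · exact std_of_cong (by rw [nm_smul, nm_e8]) (h ▸ e')
  · refine std_of_cong (by rw [nm_smul, nm_e8]) (i := k) (z := g • z + e8 k) ?_
    rw [smul_add, ← e', h]; abel

theorem mono_std (σ : M24) {c : Finset GolayPt} (hc : CW c) {v : Λ} (h : (v : V) ∈ stdCross) :
    ((mono σ hc • v : Λ) : V) ∈ stdCross := by
  obtain ⟨i, s, hs, e⟩ := h
  rw [mono_smul, e, spH_single]
  exact ⟨_, _, by split_ifs <;> omega, rfl⟩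

/-- the monomial subgroup -/
def Mon : Subgroup Co0 where
  carrier := {g | ∀ v : Λ, (v : V) ∈ stdCross → ((g • v : Λ) : V) ∈ stdCross}
  one_mem' := fun v h => by rwa [one_smul]
  mul_mem' := fun {a b} ha hb v h => by rw [mul_smul]; exact ha _ (hb v h)
  inv_mem' := fun {g} hg v h => by
    obtain ⟨k, hk⟩ := std_cases (hg _ (e8_std (pt 0)))
    have h1 : ((g⁻¹ • e8 k : Λ) : V) ∈ stdCross := by
      rcases hk with hk | hk
      · rw [← hk, inv_smul_smul]; exact e8_std _
      · rw [← neg_eq_iff_eq_neg.2 hk, co_neg, inv_smul_smul]; exact neg_std (e8_std _)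
    obtain ⟨i, rfl | rfl⟩ := std_cases h
    · exact cross_of_one h1 i
    · rw [co_neg]; exact neg_std (cross_of_one h1 i)

theorem mono_mem (σ : M24) {c : Finset GolayPt} (hc : CW c) : mono σ hc ∈ Mon :=
  fun _ h => mono_std σ hc h

theorem mem_Mon {g : Co0} : g ∈ Mon ↔ ∃ (σ : M24) (c : Finset GolayPt) (hc : CW c), g = mono σ hc :=
  ⟨fun h => mono_of_cross fun i => h _ (e8_std i), by rintro ⟨σ, c, hc, rfl⟩; exact mono_mem σ hc⟩

theorem mem_Mon_of_one {g : Co0} {i : GolayPt} (h : ((g • e8 i : Λ) : V) ∈ stdCross) : g ∈ Mon :=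
  mem_Mon.2 (mono_of_cross (cross_of_one h))

theorem mono_e8 (σ : M24) {c : Finset GolayPt} (hc : CW c) (i : GolayPt) :
    mono σ hc • e8 i = if σ • i ∈ c then -e8 (σ • i) else e8 (σ • i) := by
  apply Subtype.ext
  rw [mono_smul, e8_coe, spH_single]
  show (Pi.single (σ • i) (if σ • i ∈ c then (-8 : ℤ) else 8) : V) = _
  split_ifs
  · rw [Pi.single_neg]; rfl
  · rfl

theorem e8_inj {i j : GolayPt} (h : e8 i = e8 j) : i = j := by
  by_contra hne
  have := congrFun (congrArg Subtype.val h) i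
  simp [e8_coe, Pi.single_apply, hne] at this

theorem e8_ne_neg (i j : GolayPt) : e8 i ≠ -e8 j := fun h => by
  have := congrFun (congrArg Subtype.val h) i
  simp only [e8_coe, AddSubgroup.coe_neg, Pi.neg_apply, Pi.single_apply, if_true] at this
  split_ifs at this <;> omega

theorem mono_e8_eq {σ : M24} {c : Finset GolayPt} {hc : CW c} {i j : GolayPt} :
    mono σ hc • e8 i = e8 j ↔ σ • i = j ∧ j ∉ c := by
  rw [mono_e8]
  split_ifs with h
  · exact iff_of_false (e8_ne_neg _ _).symm fun h' => h'.2 (h'.1 ▸ h)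
  · exact ⟨fun e => ⟨e8_inj e, e8_inj e ▸ h⟩, fun h' => by rw [h'.1]⟩

theorem mono_inj {σ τ : M24} {c d : Finset GolayPt} {hc : CW c} {hd : CW d}
    (h : mono σ hc = mono τ hd) : σ = τ ∧ c = d := by
  have k : ∀ i, σ • i = τ • i ∧ (σ • i ∈ c ↔ τ • i ∈ d) := fun i => by
    have := mono_e8 σ hc i
    rw [h, mono_e8] at this
    split_ifs at this with a b b
    · exact ⟨(e8_inj (neg_injective this)).symm, iff_of_true b a⟩
    · exact absurd this.symm (e8_ne_neg _ _)
    · exact absurd this (e8_ne_neg _ _)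
    · exact ⟨(e8_inj this).symm, iff_of_false b a⟩
  have e : σ = τ := Subtype.ext (Equiv.ext fun i => (k i).1)
  subst e
  refine ⟨rfl, Finset.ext fun j => ?_⟩
  obtain ⟨i, rfl⟩ := ex_smul σ j
  exact (k i).2

theorem card_mono (K : Subgroup Co0) (hK : K ≤ Mon) (P : M24 → Prop) (Q : Finset GolayPt → Prop)
    (h : ∀ σ c (hc : CW c), mono σ hc ∈ K ↔ P σ ∧ Q c) :
    Nat.card K = Nat.card {σ // P σ} * {c | CW c ∧ Q c}.ncard := by
  rw [← Nat.card_coe_set_eq, ← Nat.card_prod]
  symm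
  refine Nat.card_congr (Equiv.ofBijective
    (fun x => ⟨mono x.1.1 x.2.2.1, (h _ _ _).2 ⟨x.1.2, x.2.2.2⟩⟩) ⟨fun x y e => ?_, fun g => ?_⟩)
  · obtain ⟨a, b⟩ := mono_inj (hc := x.2.2.1) (hd := y.2.2.1) (congrArg Subtype.val e)
    exact Prod.ext (Subtype.ext a) (Subtype.ext b)
  · obtain ⟨σ, c, hc, e⟩ := mem_Mon.1 (hK g.2)
    have := (h σ c hc).1 (e ▸ g.2)
    exact ⟨(⟨σ, this.1⟩, ⟨c, hc, this.2⟩), Subtype.ext e.symm⟩

theorem ncard_cw (Q : Finset GolayPt → Prop) (q : ℕ → Bool) (h : ∀ n, Q (toF n) ↔ q n = true) :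
    {c | CW c ∧ Q c}.ncard = lcnt (fun k => q (cw k)) (List.range 4096) :=
  ncard_eq_countP (f := fun k => toF (cw k)) List.nodup_range
    (fun a ha b hb e => cw_inj (List.mem_range.1 ha) (List.mem_range.1 hb) e)
    (fun x hx => by
      obtain ⟨k, hk, e⟩ := hx.1.exists_cw
      exact ⟨k, List.mem_range.2 hk, e⟩)
    fun n hn => by
      rw [← h]
      exact and_iff_right (cw_cw (List.mem_range.1 hn))

theorem card_Mon : Nat.card Mon = 4096 * 244823040 := by
  rw [card_mono Mon le_rfl (fun _ => True) (fun _ => True) fun σ c hc => by simp [mono_mem],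
    ncard_cw _ (fun _ => true) (by simp), Nat.card_subtype_true, card_M24, mul_comm]
  congr 1
  decide +kernel

theorem stab_e8_le (i : GolayPt) : stabilizer Co0 (e8 i) ≤ Mon := fun g hg =>
  mem_Mon_of_one (i := i) (by rw [mem_stabilizer_iff.1 hg]; exact e8_std i)

theorem card_stab_e8 : Nat.card (stabilizer Co0 (e8 (pt 23))) = 10200960 * 2048 := by
  rw [card_mono _ (stab_e8_le _) (· ∈ St 8388608 []) (pt 23 ∉ ·) fun σ c hc => by
      rw [mem_stabilizer_iff, mono_e8_eq, mem_St, toF_f1]; simp,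
    ncard_cw _ (fun n => !bit n 23) fun n => by rw [pt23_mem]; simp]
  congr 1
  · exact card_m23
  · decide +kernel

theorem std_to_e8 {v : Λ} (h : (v : V) ∈ stdCross) : ∃ g : Co0, g • e8 (pt 23) = v := by
  obtain ⟨i, h⟩ := std_cases h
  obtain ⟨σ, hσ⟩ := std1 i
  have : mono σ CW.empty • e8 (pt 23) = e8 i := mono_e8_eq.2 ⟨hσ, by simp⟩
  rcases h with rfl | rfl
  · exact ⟨_, this⟩
  · exact ⟨neg1 * _, by rw [mul_smul, this, neg1_smul]⟩

theorem trans4 {v : Λ} (h : sqNorm (v : V) = 64) : ∃ g : Co0, g • e8 (pt 23) = v := by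
  obtain ⟨g, hg⟩ := exists_to_cross v h
  obtain ⟨g', hg'⟩ := std_to_e8 hg
  exact ⟨g⁻¹ * g', by rw [mul_smul, hg', inv_smul_smul]⟩

theorem card_Co0 : Nat.card Co0 = 8315553613086720000 := by
  have := card_eq_orbit_mul (H := ⊤) (K := stabilizer Co0 (e8 (pt 23))) (x := e8 (pt 23))
    (S := {v : Λ | sqNorm (v : V) = 64}) (by simp) (fun g _ => (nm_smul _ _).trans (nm_e8 _))
    fun y hy => by simpa using trans4 hy
  rw [Subgroup.card_top, card_stab_e8, ncard_lat fun x => sqNorm x = 64, count64] at this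
  rw [this]

instance finite_Co0 : Finite Co0 := Nat.finite_of_card_ne_zero (by rw [card_Co0]; norm_num)

/-- `4 e_i + b e_j` -/
def p4 (i j : GolayPt) (a b : ℤ) (ha : a % 8 = 4 := by decide) (hb : b % 8 = 4 := by decide) : Λ :=
  ⟨Pi.single i a + Pi.single j b, pair_mem i j ha hb⟩

theorem p4_coe (i j : GolayPt) (a b : ℤ) (ha hb) :
    (p4 i j a b ha hb : V) = Pi.single i a + Pi.single j b := rfl

theorem dot_p4 (x : V) (i j : GolayPt) (a b : ℤ) (ha hb) :
    dotInt x (p4 i j a b ha hb : V) = x i * a + x j * b := by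
  rw [p4_coe, dot_add, dot_single, dot_single]

theorem nm_p4 {i j : GolayPt} (h : i ≠ j) (a b : ℤ) (ha hb) :
    sqNorm (p4 i j a b ha hb : V) = a ^ 2 + b ^ 2 := sqNorm_pair h a b

/-- the standard minimal vector -/
def v0 : Λ := p4 (pt 23) (pt 0) 4 4

/-- its standard orthogonal mate -/
def w0 : Λ := p4 (pt 23) (pt 0) 4 (-4)

theorem ne230 : pt 23 ≠ pt 0 := pt_ne (by decide) (by decide) (by decide)

theorem nm_v0 : sqNorm (v0 : V) = 32 := nm_p4 ne230 _ _ _ _
theorem nm_w0 : sqNorm (w0 : V) = 32 := nm_p4 ne230 _ _ _ _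

theorem v0_add_w0 : v0 + w0 = e8 (pt 23) := Subtype.ext (funext fun k => by
  simp only [v0, w0, AddSubgroup.coe_add, p4_coe, e8_coe, Pi.add_apply, Pi.single_apply]
  split_ifs <;> rfl)

theorem four_at {v : Λ} (hv : sqNorm (v : V) = 32) {i : GolayPt} (h : (v : V) i = 4 ∨ (v : V) i = -4) :
    ∃ j ≠ i, ∃ b : ℤ, (b = 4 ∨ b = -4) ∧ (v : V) = Pi.single i ((v : V) i) + Pi.single j b := by
  have h0 := (lv0_of v.2 (i := i) (by omega))
  have e : hi (v : V) = ∅ := by
    refine h0.2.2.eq_empty ?_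
    by_contra h8
    have h1 := hi_le_sqNorm h0.1
    have := (shape_two h0.1 (by omega) i)
    simp only [mem_hi] at this
    omega
  obtain ⟨k, j, hne, a, b, ha, hb, e'⟩ := shape_four (fun k => by
    have : k ∉ hi (v : V) := by simp [e]
    rw [mem_hi] at this
    have := h0.1 k
    omega) hv
  have e2 := congrFun e' i
  simp only [Pi.add_apply, Pi.single_apply] at e2
  by_cases h1 : i = k
  · subst h1
    rw [if_pos rfl, if_neg hne, add_zero] at e2
    exact ⟨j, hne.symm, b, hb, by rw [e2]; exact e'⟩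
  by_cases h2 : i = j
  · subst h2
    rw [if_pos rfl, if_neg h1, zero_add] at e2
    exact ⟨k, hne, a, ha, by rw [e2, add_comm]; exact e'⟩
  · rw [if_neg h1, if_neg h2] at e2
    omega

theorem exists_cw_sep {i j : GolayPt} (h : i ≠ j) : ∃ c, CW c ∧ i ∈ c ∧ j ∉ c := by
  obtain ⟨σ, h1, h2⟩ := std2 h
  refine ⟨σ • toF 12594948, ((cw_toF_iff (by norm_num)).2 (by decide +kernel)).smul σ, ?_, ?_⟩
  · rw [← h1, smul_mem_smul_finset_iff, pt23_mem]; decide +kernel
  · rw [← h2, smul_mem_smul_finset_iff, pt0_mem]; decide +kernel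

theorem four_at_std {v : Λ} (hv : sqNorm (v : V) = 32) (h : (v : V) (pt 23) = 4) :
    ∃ g : Co0, g • e8 (pt 23) = e8 (pt 23) ∧ g • v0 = v := by
  obtain ⟨j, hj, b, hb, e⟩ := four_at hv (Or.inl h)
  obtain ⟨σ, h1, h2⟩ := std2 hj.symm
  obtain ⟨c, hc, c1, c2⟩ : ∃ c, CW c ∧ pt 23 ∉ c ∧ (if j ∈ c then -4 else 4 : ℤ) = b := by
    rcases hb with rfl | rfl
    · exact ⟨∅, CW.empty, by simp, by simp⟩
    · obtain ⟨c, hc, c1, c2⟩ := exists_cw_sep hj
      exact ⟨c, hc, c2, if_pos c1⟩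
  refine ⟨mono σ hc, mono_e8_eq.2 ⟨h1, c1⟩, Subtype.ext ?_⟩
  rw [mono_smul, v0, p4_coe, map_add, spH_single, spH_single, e, h]
  show Pi.single (σ • pt 23) (if σ • pt 23 ∈ c then _ else _) +
    Pi.single (σ • pt 0) (if σ • pt 0 ∈ c then _ else _) = _
  rw [h1, h2, if_neg c1, c2]

theorem orth_std {v w : Λ} (hv : sqNorm (v : V) = 32) (hw : sqNorm (w : V) = 32)
    (hd : dotInt (v : V) (w : V) = 0) : ∃ g : Co0, g • v0 = v ∧ g • w0 = w := by
  obtain ⟨g, hg⟩ := trans4 (v := v + w) (by rw [AddSubgroup.coe_add, sqNorm_add, hv, hw, hd]; rfl)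
  obtain ⟨g', h1, h2⟩ := four_at_std (v := g⁻¹ • v) (by rw [nm_smul, hv]) (by
    have := dt_smul g (g⁻¹ • v) (e8 (pt 23))
    rw [smul_inv_smul, hg, dot_e8, AddSubgroup.coe_add, dot_add, hd, ← sqNorm_eq_dot, hv] at this
    omega)
  have h3 : (g * g') • v0 = v := by rw [mul_smul, h2, smul_inv_smul]
  refine ⟨g * g', h3, ?_⟩
  rw [eq_sub_of_add_eq' v0_add_w0, co_sub, h3, mul_smul, h1, hg, add_sub_cancel_left]

theorem exists_three {x : V} (hn : sqNorm x ≤ 48) (h : ∀ i, x i % 2 = 1) :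
    ∃ i j, i ≠ j ∧ (x i = 1 ∨ x i = -1) ∧ (x j = 1 ∨ x j = -1) := by
  have : 1 < (univ.filter fun i => x i = 1 ∨ x i = -1).card := by
    by_contra h1
    have h2 := card_nsmul_le_sum (univ.filter fun i => ¬(x i = 1 ∨ x i = -1)) (fun i => x i ^ 2) 9
      fun i hi => by
        have := (mem_filter.1 hi).2
        have := h i
        have : 3 ≤ x i ∨ x i ≤ -3 := by omega
        rcases this with h | h <;> nlinarith
    have := sum_le_sqNorm x (univ.filter fun i => ¬(x i = 1 ∨ x i = -1))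
    have := card_filter_add_card_filter_not (s := univ) fun i => x i = 1 ∨ x i = -1
    rw [card_univ, card_pt] at this
    rw [nsmul_eq_mul] at h2
    omega
  obtain ⟨i, hi, j, hj, hne⟩ := one_lt_card.1 this
  exact ⟨i, j, hne, (mem_filter.1 hi).2, (mem_filter.1 hj).2⟩

theorem exists_zeros {x : V} (hn : sqNorm x ≤ 48) (h : ∀ i, x i % 2 = 0) :
    ∃ i j, i ≠ j ∧ x i = 0 ∧ x j = 0 := by
  have : 1 < (univ.filter fun i => x i = 0).card := by
    by_contra h1
    have h2 := card_nsmul_le_sum (univ.filter fun i => ¬(x i = 0)) (fun i => x i ^ 2) 4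
      fun i hi => by
        have := (mem_filter.1 hi).2
        have := h i
        have : 2 ≤ x i ∨ x i ≤ -2 := by omega
        rcases this with h | h <;> nlinarith
    have := sum_le_sqNorm x (univ.filter fun i => ¬(x i = 0))
    have := card_filter_add_card_filter_not (s := univ) fun i => x i = 0
    rw [card_univ, card_pt] at this
    rw [nsmul_eq_mul] at h2
    omega
  obtain ⟨i, hi, j, hj, hne⟩ := one_lt_card.1 this
  exact ⟨i, j, hne, (mem_filter.1 hi).2, (mem_filter.1 hj).2⟩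

theorem trans2 {v : Λ} (hv : sqNorm (v : V) = 32) : ∃ g : Co0, g • v0 = v := by
  suffices ∃ w : Λ, sqNorm (w : V) = 32 ∧ dotInt (v : V) (w : V) = 0 by
    obtain ⟨w, h1, h2⟩ := this
    obtain ⟨g, h, -⟩ := orth_std hv h1 h2
    exact ⟨g, h⟩
  rcases mem_lat.1 v.2 with h | h
  · obtain ⟨i, j, hne, h1, h2⟩ := exists_zeros (by omega) h.1
    exact ⟨p4 i j 4 4, nm_p4 hne _ _ _ _, by rw [dot_p4, h1, h2]; rfl⟩
  · obtain ⟨i, j, hne, h1, h2⟩ := exists_three (by omega) h.1
    by_cases e : (v : V) i = (v : V) j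
    · exact ⟨p4 i j 4 (-4), nm_p4 hne _ _ _ _, by rw [dot_p4]; omega⟩
    · exact ⟨p4 i j 4 4, nm_p4 hne _ _ _ _, by rw [dot_p4]; omega⟩

theorem u0_mem : (1 + Pi.single (pt 23) 4 : V) ∈ leechLattice := by
  have := add_mem (y0_mem (pt 23)) (e8 (pt 23)).2
  rwa [y0_eq, e8_coe, add_assoc, ← Pi.single_add] at this

/-- the standard vector `(5, 1²³)` -/
def u0 : Λ := ⟨1 + Pi.single (pt 23) 4, u0_mem⟩

theorem u0_apply (i : GolayPt) : (u0 : V) i = if i = pt 23 then 5 else 1 := by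
  simp only [u0, Pi.add_apply, Pi.one_apply, Pi.single_apply]
  split_ifs <;> rfl

theorem nm_u0 : sqNorm (u0 : V) = 48 := by
  show sqNorm (1 + Pi.single (pt 23) 4 : V) = 48
  rw [sqNorm_add, dot_single, sqNorm_single]
  simp only [sqNorm, Pi.one_apply, sum_one24]
  norm_num

theorem five_at {u : Λ} (hu : sqNorm (u : V) = 48) (h : (u : V) (pt 23) = 5) :
    ∃ g : Co0, g • e8 (pt 23) = e8 (pt 23) ∧ g • u0 = u := by
  have h1 := lv1_of u.2 (i := pt 23) (by omega)
  have k : ∀ i ≠ pt 23, (u : V) i = 1 ∨ (u : V) i = -1 := fun i hi => by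
    have e : ∑ i, ((u : V) i ^ 2 - 1) = 24 := by
      rw [sum_sub_distrib, sum_one24]
      unfold sqNorm at hu
      omega
    rw [← add_sum_erase _ _ (mem_univ (pt 23)), h] at e
    have z := (sum_eq_zero_iff_of_nonneg (s := univ.erase (pt 23))
      (f := fun i => (u : V) i ^ 2 - 1) fun i _ => by
        have := odd_sq_ge (h1.1 i); omega).1 (by omega) i (mem_erase.2 ⟨hi, mem_univ _⟩)
    have : ((u : V) i - 1) * ((u : V) i + 1) = 0 := by linarith
    rcases mul_eq_zero.1 this with h | h <;> omega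
  refine ⟨mono 1 h1.2.2, mono_e8_eq.2 ⟨rfl, by rw [mem_hi, h]; decide⟩, Subtype.ext (funext fun i => ?_)⟩
  rw [sg_smul, sg_apply, u0_apply]
  simp only [mem_hi]
  by_cases hi : i = pt 23
  · rw [hi, h]; simp
  · rcases k i hi with a | a <;> simp [a, hi]

theorem std_3_2 {u w : Λ} (hu : sqNorm (u : V) = 48) (hw : sqNorm (w : V) = 32)
    (hd : dotInt (u : V) (w : V) = -8) : ∃ g : Co0, g • u0 = u ∧ g • (e8 (pt 23) - u0) = w := by
  obtain ⟨g, hg⟩ := trans4 (v := u + w) (by rw [AddSubgroup.coe_add, sqNorm_add, hu, hw, hd]; rfl)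
  obtain ⟨g', h1, h2⟩ := five_at (u := g⁻¹ • u) (by rw [nm_smul, hu]) (by
    have := dt_smul g (g⁻¹ • u) (e8 (pt 23))
    rw [smul_inv_smul, hg, dot_e8, AddSubgroup.coe_add, dot_add, hd, ← sqNorm_eq_dot, hu] at this
    omega)
  have h3 : (g * g') • u0 = u := by rw [mul_smul, h2, smul_inv_smul]
  refine ⟨g * g', h3, ?_⟩
  rw [co_sub, h3, mul_smul, h1, hg, add_sub_cancel_left]

theorem trans3 {u : Λ} (hu : sqNorm (u : V) = 48) : ∃ g : Co0, g • u0 = u := by
  suffices ∃ w : Λ, sqNorm (w : V) = 32 ∧ dotInt (u : V) (w : V) = -8 by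
    obtain ⟨w, h1, h2⟩ := this
    obtain ⟨g, h, -⟩ := std_3_2 hu h1 h2
    exact ⟨g, h⟩
  rcases mem_lat.1 u.2 with h | h
  · obtain ⟨i, -, -, h1, -⟩ := exists_zeros (by omega) h.1
    obtain ⟨j, hj⟩ : ∃ j, (u : V) j = 2 ∨ (u : V) j = -2 := by
      by_contra hn
      push Not at hn
      have h2 := card_nsmul_le_sum (hi (u : V)) (fun i => (u : V) i ^ 2) 36 fun i hi' => by
        rw [mem_hi] at hi'
        have := hn i
        have := h.1 i
        have : 6 ≤ (u : V) i ∨ (u : V) i ≤ -6 := by omega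
        rcases this with h | h <;> nlinarith
      have := sum_le_sqNorm (u : V) (hi (u : V))
      rw [nsmul_eq_mul] at h2
      have e := h.2.2.eq_empty (by omega)
      have := four_sq_cong (x := (u : V)) fun k => by
        have : k ∉ hi (u : V) := by simp [e]
        rw [mem_hi] at this
        have := h.1 k
        omega
      have := h.2.1
      omega
    have hne : i ≠ j := by rintro rfl; omega
    rcases hj with hj | hj
    · exact ⟨p4 i j 4 (-4), nm_p4 hne _ _ _ _, by rw [dot_p4]; omega⟩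
    · exact ⟨p4 i j 4 4, nm_p4 hne _ _ _ _, by rw [dot_p4]; omega⟩
  · obtain ⟨i, j, hne, h1, h2⟩ := exists_three (by omega) h.1
    rcases h1 with h1 | h1 <;> rcases h2 with h2 | h2
    · exact ⟨p4 i j (-4) (-4), nm_p4 hne _ _ _ _, by rw [dot_p4]; omega⟩
    · exact ⟨p4 i j (-4) 4, nm_p4 hne _ _ _ _, by rw [dot_p4]; omega⟩
    · exact ⟨p4 i j 4 (-4), nm_p4 hne _ _ _ _, by rw [dot_p4]; omega⟩
    · exact ⟨p4 i j 4 4, nm_p4 hne _ _ _ _, by rw [dot_p4]; omega⟩

theorem card_stab2 {v : Λ} (hv : sqNorm (v : V) = 32) :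
    Nat.card (stabilizer Co0 v) = 42305421312000 := by
  have := card_stab_of_orbit (G := Co0) (x := v) (S := {v : Λ | sqNorm (v : V) = 32})
    (fun g => (nm_smul _ _).trans hv) fun y hy => by
      obtain ⟨g, rfl⟩ := trans2 hv
      obtain ⟨h, rfl⟩ := trans2 hy
      exact ⟨_, tr2⟩
  rw [card_Co0, ncard_lat fun x => sqNorm x = 32, count32] at this
  omega

theorem card_stab3 {v : Λ} (hv : sqNorm (v : V) = 48) :
    Nat.card (stabilizer Co0 v) = 495766656000 := by
  have := card_stab_of_orbit (G := Co0) (x := v) (S := {v : Λ | sqNorm (v : V) = 48})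
    (fun g => (nm_smul _ _).trans hv) fun y hy => by
      obtain ⟨g, rfl⟩ := trans3 hv
      obtain ⟨h, rfl⟩ := trans3 hy
      exact ⟨_, tr2⟩
  rw [card_Co0, ncard_lat fun x => sqNorm x = 48, count48] at this
  omega

theorem neg1_ne : neg1 ≠ 1 := fun h => by
  have := neg1_smul (e8 (pt 0))
  rw [h, one_smul] at this
  exact e8_ne_neg _ _ this

theorem mem_center_iff' {g : Co0} : g ∈ Subgroup.center Co0 ↔ g = 1 ∨ g = neg1 := by
  constructor
  · intro h
    rw [Subgroup.mem_center_iff] at h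
    have k : ∀ i, g • e8 i = e8 i ∨ g • e8 i = -e8 i := fun i => by
      have z : ∀ j ≠ i, ((g • e8 i : Λ) : V) j = 0 := fun j hj => by
        obtain ⟨c, hc, c1, c2⟩ := exists_cw_sep hj
        have e1 : mono 1 hc • e8 i = e8 i := mono_e8_eq.2 ⟨rfl, c2⟩
        have e2 : mono 1 hc • g • e8 i = g • e8 i := by rw [← mul_smul, h, mul_smul, e1]
        have := congrFun (congrArg Subtype.val e2) j
        rw [sg_smul, sg_apply, if_pos c1] at this
        omega
      have e : ((g • e8 i : Λ) : V) = Pi.single i (((g • e8 i : Λ) : V) i) := funext fun j => by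
        rw [Pi.single_apply]
        split_ifs with hj
        · rw [hj]
        · exact z j hj
      have := nm_smul g (e8 i)
      rw [e, sqNorm_single, nm_e8] at this
      have : (((g • e8 i : Λ) : V) i - 8) * (((g • e8 i : Λ) : V) i + 8) = 0 := by linarith
      rcases mul_eq_zero.1 this with h | h
      · exact Or.inl (Subtype.ext (by rw [e, show ((g • e8 i : Λ) : V) i = 8 by omega]; rfl))
      · exact Or.inr (Subtype.ext (by
          rw [e, show ((g • e8 i : Λ) : V) i = -8 by omega, Pi.single_neg]; rfl))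
    have t : ∀ i, g • e8 i = mono (std1 i).choose CW.empty • g • e8 (pt 23) ∧
        e8 i = mono (std1 i).choose CW.empty • e8 (pt 23) := fun i => by
      have e : mono (std1 i).choose CW.empty • e8 (pt 23) = e8 i :=
        mono_e8_eq.2 ⟨(std1 i).choose_spec, by simp⟩
      exact ⟨by rw [← mul_smul, h, mul_smul, e], e.symm⟩
    have ext8 : ∀ g' : Co0, (∀ i, g • e8 i = g' • e8 i) → g = g' := fun g' h' => by
      have : g'⁻¹ * g = 1 := co_ext fun v => Subtype.ext (funext fun i => by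
        have := dt_smul (g'⁻¹ * g) v (e8 i)
        rw [mul_smul _ _ (e8 i), h', inv_smul_smul, dot_e8, dot_e8] at this
        rw [one_smul]; omega)
      exact (inv_mul_eq_one.1 this).symm
    rcases k (pt 23) with e | e
    · exact Or.inl (ext8 1 fun i => by rw [one_smul, (t i).1, e, ← (t i).2])
    · exact Or.inr (ext8 _ fun i => by rw [neg1_smul, (t i).1, e, co_neg, ← (t i).2])
  · rintro (rfl | rfl)
    · exact one_mem _
    · exact Subgroup.mem_center_iff.2 fun g => co_ext fun v => by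
        rw [mul_smul, mul_smul, neg1_smul, neg1_smul, co_neg]

theorem card_center : Nat.card (Subgroup.center Co0) = 2 := by
  rw [Nat.card_eq_two_iff' (1 : Subgroup.center Co0)]
  refine ⟨⟨neg1, mem_center_iff'.2 (Or.inr rfl)⟩, fun h => neg1_ne (congrArg Subtype.val h), ?_⟩
  rintro ⟨y, hy⟩ h
  exact Subtype.ext ((mem_center_iff'.1 hy).resolve_left fun e => h (Subtype.ext e))

end Cfsg.Agent.Lee
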