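/-
Packed arithmetic for lattice vectors and automorphisms.
-/
import Cfsg.Agent.Lee.Co0
import Cfsg.Agent.Gol.Graph
import Cfsg.Agent.Gol.Hom

set_option autoImplicit false
set_option exponentiation.threshold 800

namespace Cfsg.Agent.Lee

open Cfsg Cfsg.Agent.Gol Finset MulAction
open scoped Pointwise symmDiff

theorem bif_and {a b : Bool} : bif' a b false = true ↔ a = true ∧ b = true := by
  cases a <;> simp

theorem pack_eq_sum (w : ℕ) (f : ℕ → ℕ) (k : ℕ) : pack w f k = ∑ i ∈ range k, f i * 2 ^ (w * i) := by
  induction k with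
  | zero => unfold pack; rfl
  | succ k ih => rw [pack_succ, ih, sum_range_succ, add_comm]

def conv (m b : ℕ) (d a : ℕ → ℕ) (k : ℕ) : ℕ :=
  ∑ j ∈ range m, if j ≤ k ∧ k - j < b then d j * a (k - j) else 0

theorem pack_mul (w m b : ℕ) (d a : ℕ → ℕ) :
    pack w d m * pack w a b = pack w (conv m b d a) (m + b) := by
  simp only [pack_eq_sum, conv, sum_mul]
  rw [sum_comm]
  refine sum_congr rfl fun j hj => ?_
  have hj := mem_range.1 hj
  simp only [ite_mul, zero_mul, ← sum_filter, mul_sum]
  refine sum_nbij' (fun l => j + l) (fun k => k - j) (fun l hl => ?_) (fun k hk => ?_)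
    (fun l _ => by simp) (fun k hk => ?_) fun l _ => ?_
  · simp only [mem_range, mem_filter] at *
    omega
  · simp only [mem_range, mem_filter] at *
    omega
  · simp only [mem_range, mem_filter] at *
    omega
  · simp only [Nat.add_sub_cancel_left, mul_add, pow_add]
    ring

theorem conv_lt {b : ℕ} {d a : ℕ → ℕ} (hd : ∀ j < 24, d j ≤ 16) (ha : ∀ j < b, a j < 32) (k : ℕ) :
    conv 24 b d a k < 2 ^ 16 := by
  have := sum_le_card_nsmul (range 24) (fun j => if j ≤ k ∧ k - j < b then d j * a (k - j) else 0)
    (16 * 31) fun j hj => by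
      split_ifs with h
      · exact Nat.mul_le_mul (hd j (mem_range.1 hj)) (Nat.le_of_lt_succ (ha _ h.2))
      · omega
  rw [card_range] at this
  exact lt_of_le_of_lt this (by norm_num)

theorem land_split {m a b x y : ℕ} (hx : x < 2 ^ m) (hy : y < 2 ^ m) :
    (a * 2 ^ m + x) &&& (b * 2 ^ m + y) = (a &&& b) * 2 ^ m + (x &&& y) := by
  apply Nat.eq_of_testBit_eq
  intro i
  rw [Nat.testBit_and, mul_comm a, mul_comm b, mul_comm (a &&& b), Nat.testBit_two_pow_mul_add _ hx,
    Nat.testBit_two_pow_mul_add _ hy,
    Nat.testBit_two_pow_mul_add _ (lt_of_le_of_lt Nat.and_le_left hx)]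
  split_ifs <;> simp

theorem pack_land {w : ℕ} {f g : ℕ → ℕ} {k : ℕ} (hf : ∀ i < k, f i < 2 ^ w)
    (hg : ∀ i < k, g i < 2 ^ w) : pack w f k &&& pack w g k = pack w (fun i => f i &&& g i) k := by
  induction k with
  | zero => simp [pack_eq_sum]
  | succ k ih =>
    have hf' : ∀ i < k, f i < 2 ^ w := fun i hi => hf i (by omega)
    have hg' : ∀ i < k, g i < 2 ^ w := fun i hi => hg i (by omega)
    rw [pack_succ, pack_succ, pack_succ, land_split (pack_lt hf') (pack_lt hg'), ih hf' hg']

noncomputable section

def dg (n i : ℕ) : ℕ := Nat.land (Nat.shiftRight n (Nat.mul 16 i)) 65535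

theorem dg_eq (n i : ℕ) : dg n i = n / 2 ^ (16 * i) % 2 ^ 16 := by
  show (n >>> (16 * i)) &&& (2 ^ 16 - 1) = _
  rw [Nat.and_two_pow_sub_one_eq_mod, Nat.shiftRight_eq_div_pow]

attribute [irreducible] dg

def maskL : ℕ := pack 16 (fun k => bif' (Nat.beq (Nat.mod k 47) 23 && Nat.blt k 1128) 65535 0) 1152

def raw (M A n : ℕ) : ℕ :=
  Nat.mod (Nat.shiftRight (Nat.land (Nat.mul n A) M) 368) (Nat.sub (Nat.pow 2 736) 1)

theorem raw_eq {d a : ℕ → ℕ} (hd : ∀ j < 24, d j ≤ 16) (ha : ∀ j < 1128, a j < 32) :
    raw maskL (pack 16 a 1128) (pack 16 d 24) =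
      ∑ i ∈ range 24, (∑ j ∈ range 24, d j * a (47 * i + 23 - j)) * 2 ^ (16 * i) := by
  have c : ∀ i ∈ range 24, conv 24 1128 d a (47 * i + 23) = ∑ j ∈ range 24, d j * a (47 * i + 23 - j) :=
    fun i hi => sum_congr rfl fun j hj => if_pos (by simp only [mem_range] at *; omega)
  have e0 : ∀ M A n, raw M A n = ((n * A &&& M) >>> 368) % (2 ^ 736 - 1) := fun _ _ _ => rfl
  rw [e0]
  have e1 : pack 16 d 24 * pack 16 a 1128 &&& maskL =
      2 ^ 368 * ∑ i ∈ range 24, conv 24 1128 d a (47 * i + 23) * 2 ^ (752 * i) := by
    rw [pack_mul, maskL, pack_land (fun i _ => conv_lt hd ha i) fun i _ => by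
      rw [bif'_eq]; split_ifs <;> norm_num, pack_eq_sum]
    have : ∀ k ∈ range (24 + 1128), (conv 24 1128 d a k &&&
        bif' (Nat.beq (Nat.mod k 47) 23 && Nat.blt k 1128) 65535 0) * 2 ^ (16 * k) =
        if k % 47 = 23 ∧ k < 1128 then conv 24 1128 d a k * 2 ^ (16 * k) else 0 := fun k _ => by
      have e : (Nat.beq (Nat.mod k 47) 23 && Nat.blt k 1128) = true ↔ k % 47 = 23 ∧ k < 1128 := by
        rw [Bool.and_eq_true, Nat.beq_eq, Nat.blt_eq]; rfl
      rw [bif'_eq]
      simp only [e]
      split_ifs
      · rw [show 65535 = 2 ^ 16 - 1 by norm_num, Nat.and_two_pow_sub_one_eq_mod,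
          Nat.mod_eq_of_lt (conv_lt hd ha k)]
      · simp
    rw [sum_congr rfl this, ← sum_filter, mul_sum]
    symm
    refine sum_nbij' (fun i => 47 * i + 23) (fun k => k / 47) (fun l hl => ?_) (fun k hk => ?_)
      (fun l _ => by omega) (fun k hk => ?_) fun l _ => ?_
    · simp only [mem_range, mem_filter] at *
      omega
    · simp only [mem_range, mem_filter] at *
      omega
    · simp only [mem_range, mem_filter] at *
      omega
    · rw [show 16 * (47 * l + 23) = 368 + 752 * l by ring, pow_add]
      ring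
  rw [e1, Nat.shiftRight_eq_div_pow, Nat.mul_div_cancel_left _ (Nat.two_pow_pos _)]
  have e2 : ∑ i ∈ range 24, conv 24 1128 d a (47 * i + 23) * 2 ^ (752 * i) ≡
      ∑ i ∈ range 24, conv 24 1128 d a (47 * i + 23) * 2 ^ (16 * i) [MOD 2 ^ 736 - 1] := by
    refine Nat.ModEq.sum fun i _ => Nat.ModEq.mul_left _ ?_
    rw [show 752 * i = 736 * i + 16 * i by ring, pow_add, pow_mul]
    have : 2 ^ 736 ≡ 1 [MOD 2 ^ 736 - 1] :=
      ((Nat.modEq_iff_dvd' (Nat.two_pow_pos _)).2 dvd_rfl).symm
    simpa using (this.pow i).mul_right (2 ^ (16 * i))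
  rw [e2, ← pack_eq_sum, Nat.mod_eq_of_lt ((pack_lt fun i _ => conv_lt hd ha _).trans
    (by decide +kernel)), pack_eq_sum]
  exact sum_congr rfl fun i hi => by rw [c i hi]

/-- the digit sum -/
theorem mod_digits {d : ℕ → ℕ} (hd : ∀ j < 24, d j ≤ 16) :
    pack 16 d 24 % 65535 = ∑ j ∈ range 24, d j := by
  have e : ∑ i ∈ range 24, d i * 2 ^ (16 * i) ≡ ∑ i ∈ range 24, d i [MOD 65535] := by
    refine Nat.ModEq.sum fun i _ => ?_
    have : 2 ^ 16 ≡ 1 [MOD 65535] := by decide
    rw [pow_mul]
    simpa using (this.pow i).mul_left (d i)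
  have := sum_le_card_nsmul (range 24) d 16 fun j hj => hd j (mem_range.1 hj)
  rw [card_range, smul_eq_mul] at this
  rw [pack_eq_sum, e, Nat.mod_eq_of_lt (lt_of_le_of_lt this (by norm_num))]

/-! ### codes of vectors -/

def Bd (x : V) : Prop := ∀ i, -8 ≤ x i ∧ x i ≤ 8

def Bd' (x : V) : Prop := ∀ i, -64 ≤ x i ∧ x i ≤ 64

def dig (x : V) (i : ℕ) : ℕ := (x (pt i) + 8).toNat

def enc (x : V) : ℕ := pack 16 (dig x) 24

def vec (n : ℕ) : V := fun p => (dg n (idx p) : ℤ) - 8

theorem dig_le {x : V} (h : Bd x) (j : ℕ) : dig x j ≤ 16 := by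
  have := h (pt j)
  unfold dig
  omega

theorem dig_cast {x : V} (h : Bd x) (j : ℕ) : (dig x j : ℤ) = x (pt j) + 8 := by
  have := h (pt j)
  unfold dig
  omega

theorem dg_enc {x : V} (h : Bd x) {i : ℕ} (hi : i < 24) : dg (enc x) i = dig x i := by
  rw [dg_eq, enc, dig_pack (fun j _ => (dig_le h j).trans_lt (by norm_num)) hi]

theorem vec_enc {x : V} (h : Bd x) : vec (enc x) = x := funext fun p => by
  rw [vec, dg_enc h (idx_lt p), dig_cast h, pt_idx]; ring

theorem sum_pt {M : Type*} [AddCommMonoid M] (f : GolayPt → M) :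
    ∑ i ∈ range 24, f (pt i) = ∑ p, f p :=
  sum_nbij' pt idx (fun _ _ => mem_univ _) (fun p _ => mem_range.2 (idx_lt p))
    (fun _ h => idx_pt (mem_range.1 h)) (fun p _ => pt_idx p) fun _ _ => rfl

def OO : ℕ := 601236075324551449031495233083750878234222007636613209246178277321213424452540026114507763101928979031153246209

theorem OO_eq : OO = ∑ i ∈ range 24, 2 ^ (16 * i) := by decide +kernel

def Z0 : ℕ := 4809888602596411592251961864670007025873776061092905673969426218569707395620320208916062104815431832249225969672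

theorem Z0_eq : Z0 = 8 * OO := by decide +kernel

theorem Z0_pack : Z0 = pack 16 (fun _ => 8) 24 := by decide +kernel

theorem bd_of_norm {x : V} (h : sqNorm x ≤ 64) : Bd x := fun i => by
  have := sq_le_sqNorm x i
  constructor <;> nlinarith

theorem vec_pack {f : ℕ → ℕ} (h : ∀ i < 24, f i < 2 ^ 16) (p : GolayPt) :
    vec (pack 16 f 24) p = (f (idx p) : ℤ) - 8 := by
  rw [vec, dg_eq, dig_pack h (idx_lt p)]

def rev (n : ℕ) : ℕ := pack 16 (fun i => dg n (Nat.sub 23 i)) 24

def dtK (r n : ℕ) : ℕ :=
  Nat.sub (Nat.add (Nat.land (Nat.shiftRight (Nat.mul n r) 368) 65535) 1600)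
    (Nat.mul 8 (Nat.add (Nat.mod n 65535) (Nat.mod r 65535)))

theorem sum_dig {x : V} (h : Bd x) : ((∑ j ∈ range 24, dig x j : ℕ) : ℤ) = ∑ p, x p + 192 := by
  push_cast
  rw [sum_congr rfl fun j _ => dig_cast h j, sum_add_distrib, sum_pt x]
  simp

theorem dtK_eq {x y : V} (hx : Bd x) (hy : Bd y) :
    dtK (rev (enc y)) (enc x) = (dotInt x y + 64).toNat := by
  have e : rev (enc y) = pack 16 (fun i => dig y (23 - i)) 24 :=
    pack_congr fun i _ => dg_enc hy (by show 23 - i < 24; omega)
  have e1 : (enc x * rev (enc y)) >>> 368 &&& (2 ^ 16 - 1) = ∑ j ∈ range 24, dig x j * dig y j := by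
    rw [Nat.and_two_pow_sub_one_eq_mod, Nat.shiftRight_eq_div_pow, e, enc, pack_mul,
      show 368 = 16 * 23 by norm_num, dig_pack (fun i _ => conv_lt (fun j _ => dig_le hx j)
        (fun j _ => (dig_le hy _).trans_lt (by norm_num)) i) (by norm_num), conv]
    refine sum_congr rfl fun j hj => ?_
    have := mem_range.1 hj
    rw [if_pos (by omega), show 23 - (23 - j) = j by omega]
  have e2 : enc x % 65535 = ∑ j ∈ range 24, dig x j := mod_digits fun j _ => dig_le hx j
  have e3 : rev (enc y) % 65535 = ∑ j ∈ range 24, dig y j := by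
    rw [e, mod_digits fun j _ => dig_le hy _]
    exact sum_range_reflect (dig y) 24
  have e4 : ((∑ j ∈ range 24, dig x j * dig y j : ℕ) : ℤ) =
      dotInt x y + 8 * ∑ p, x p + 8 * ∑ p, y p + 1536 := by
    push_cast
    rw [sum_congr rfl fun j _ => by rw [dig_cast hx j, dig_cast hy j],
      sum_pt fun p => (x p + 8) * (y p + 8), dotInt, mul_sum, mul_sum, ← sum_add_distrib,
      ← sum_add_distrib, show (1536 : ℤ) = 24 * 64 by norm_num, ← sum_one24, ← sum_add_distrib]
    exact sum_congr rfl fun p _ => by ring
  have e5 := sum_dig hx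
  have e6 := sum_dig hy
  show ((enc x * rev (enc y)) >>> 368 &&& (2 ^ 16 - 1)) + 1600 -
    8 * (enc x % 65535 + rev (enc y) % 65535) = _
  rw [e1, e2, e3]
  omega

theorem dtK_eq' {x y : V} (hx : sqNorm x ≤ 64) (hy : sqNorm y ≤ 64) :
    (dtK (rev (enc y)) (enc x) : ℤ) = dotInt x y + 64 := by
  have := sqNorm_nonneg (x + y)
  rw [sqNorm_add] at this
  rw [dtK_eq (bd_of_norm hx) (bd_of_norm hy)]
  omega

def valid (n : ℕ) : Bool :=
  bif' (nall (fun i => Nat.ble (dg n i) 16) 24) (Nat.beq (pack 16 (dg n) 24) n) false

theorem valid_sound {n : ℕ} (h : valid n = true) : Bd (vec n) ∧ enc (vec n) = n := by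
  simp only [valid, bif_and, nall_iff, Nat.ble_eq, Nat.beq_eq] at h
  refine ⟨fun p => ?_, (pack_congr fun i hi => ?_).trans h.2⟩
  · have := h.1 _ (idx_lt p)
    unfold vec
    omega
  · rw [dig, vec, idx_pt hi]
    omega

def hiN (n : ℕ) : ℕ := pack 1 (fun i => Nat.div (Nat.mod (dg n i) 4) 2) 24

theorem toF_hiN (n : ℕ) : toF (hiN n) = hi (vec n) := by
  ext p
  have := dig_pack (w := 1) (f := fun i => dg n i % 4 / 2) (k := 24) (fun i _ => by omega) (idx_lt p)
  rw [mem_toF, mem_hi, Nat.testBit_eq_decide_div_mod_eq, vec]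
  rw [one_mul, pow_one] at this
  show decide (pack 1 (fun i => dg n i % 4 / 2) 24 / 2 ^ idx p % 2 = 1) = true ↔ _
  rw [this, decide_eq_true_iff]
  omega

def inL (n : ℕ) : Bool := force (Nat.mod (dg n 0) 2) fun m =>
  bif' (nall (fun i => Nat.beq (Nat.mod (dg n i) 2) m) 24)
    (bif' (Nat.beq (Nat.mod (sumTo (dg n) 24) 8) (Nat.mul 4 m)) (isCW (hiN n)) false) false

theorem inL_sound {n : ℕ} (h : inL n = true) : vec n ∈ leechLattice := by
  simp only [inL, force_eq, bif_and, nall_iff, Nat.beq_eq, sumTo_eq] at h
  obtain ⟨h1, h2, h3⟩ := h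
  have e : ∑ p, vec n p = ((∑ i ∈ range 24, dg n i : ℕ) : ℤ) - 192 := by
    rw [← sum_pt, sum_congr rfl (g := fun i => (dg n i : ℤ) - 8) fun i hi => by
      rw [vec, idx_pt (mem_range.1 hi)], sum_sub_distrib, Nat.cast_sum, sum_const, card_range]
    rfl
  have h2 : (∑ i ∈ range 24, dg n i) % 8 = 4 * (dg n 0 % 2) := h2
  have k : LV ((dg n 0 % 2 : ℕ) : ℤ) (vec n) := ⟨fun p => by
    have : dg n (idx p) % 2 = dg n 0 % 2 := h1 _ (idx_lt p)
    unfold vec
    omega, by omega, toF_hiN n ▸ isCW_cw h3⟩
  rcases Nat.mod_two_eq_zero_or_one (dg n 0) with a | a <;> rw [a] at k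
  · exact k.mem0
  · exact k.mem1

open Classical in
def lv (n : ℕ) : Λ := if h : vec n ∈ leechLattice then ⟨vec n, h⟩ else 0

theorem lv_coe {n : ℕ} (h : vec n ∈ leechLattice) : (lv n : V) = vec n := by rw [lv, dif_pos h]

theorem lv_enc {v : Λ} (h : Bd v) : lv (enc v) = v :=
  Subtype.ext ((lv_coe (by rw [vec_enc h]; exact v.2)).trans (vec_enc h))

def okV (k n : ℕ) : Bool := bif' (valid n) (bif' (inL n)
  (bif' (Nat.beq (dtK (rev n) n) (Nat.add k 64)) (Nat.ble k 64) false) false) false

theorem okV_coe {k n : ℕ} (h : okV k n = true) : (lv n : V) = vec n := by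
  simp only [okV, bif_and] at h
  exact lv_coe (inL_sound h.2.1)

theorem okV_sound {k n : ℕ} (h : okV k n = true) :
    sqNorm (lv n : V) = k ∧ enc (lv n) = n ∧ k ≤ 64 := by
  rw [okV_coe h]
  simp only [okV, bif_and, Nat.beq_eq, Nat.ble_eq] at h
  obtain ⟨h1, -, h3, h4⟩ := h
  obtain ⟨a, b⟩ := valid_sound h1
  have := dtK_eq a a
  rw [b, h3, ← sqNorm_eq_dot] at this
  have e : Nat.add k 64 = k + 64 := rfl
  exact ⟨by omega, b, h4⟩

/-! ### codes of automorphisms -/

def spr (c k : ℕ) : ℕ := bif' (Nat.ble (Nat.mod k 47) 23)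
  (ap c (Nat.add (Nat.mul 24 (Nat.div k 47)) (Nat.sub 23 (Nat.mod k 47)))) 0

def spread (c : ℕ) : ℕ := pack 16 (spr c) 1128

def mat (c : ℕ) (p q : GolayPt) : ℤ := (ap c (24 * idx p + idx q) : ℤ) - 8

def mv (c : ℕ) : V →+ V := AddMonoidHom.mk' (fun x p => ∑ q, mat c p q * x q) fun x y => by
  funext p
  simp only [Pi.add_apply, mul_add, sum_add_distrib]

theorem mv_apply (c : ℕ) (x : V) (p : GolayPt) : mv c x p = ∑ q, mat c p q * x q := rfl

theorem spr_lt (c k : ℕ) : spr c k < 32 := by
  rw [spr, bif'_eq]; split_ifs; exacts [ap_lt _ _, by norm_num]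

theorem spr_eq (c i : ℕ) {j : ℕ} (hj : j < 24) : spr c (47 * i + 23 - j) = ap c (24 * i + j) := by
  have e1 : Nat.mod (47 * i + 23 - j) 47 = 23 - j := by show (47 * i + 23 - j) % 47 = _; omega
  have e2 : Nat.div (47 * i + 23 - j) 47 = i := by show (47 * i + 23 - j) / 47 = _; omega
  rw [spr, e1, e2, Nat.ble_eq.mpr (by omega : 23 - j ≤ 23), bif'_true]
  show ap c (24 * i + (23 - (23 - j))) = _
  rw [show 23 - (23 - j) = j by omega]

attribute [irreducible] spr raw maskL

theorem raw_spread (c : ℕ) {d : ℕ → ℕ} (hd : ∀ j < 24, d j ≤ 16) :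
    raw maskL (spread c) (pack 16 d 24) =
      ∑ i ∈ range 24, (∑ j ∈ range 24, d j * ap c (24 * i + j)) * 2 ^ (16 * i) :=
  (raw_eq hd fun j _ => spr_lt c j).trans (sum_congr rfl fun i _ => by
    rw [sum_congr rfl (g := fun j => d j * ap c (24 * i + j)) fun j hj => by
      rw [spr_eq c i (mem_range.1 hj)]])

def actT (M A R0 n : ℕ) : ℕ := Nat.sub (Nat.add (raw M A n) (Nat.mul 200 Z0))
  (Nat.add R0 (Nat.mul (Nat.mod n 65535) Z0))

def actA (M A R0 n : ℕ) : ℕ := Nat.shiftRight (actT M A R0 n) 3

def act (c n : ℕ) : ℕ := actA maskL (spread c) (raw maskL (spread c) Z0) n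

theorem actT_eq (c : ℕ) {x : V} (hx : Bd x) (h : Bd' (mv c x)) :
    actT maskL (spread c) (raw maskL (spread c) Z0) (enc x) =
      pack 16 (fun i => (mv c x (pt i) + 64).toNat) 24 := by
  have e1 := raw_spread c (d := dig x) fun j _ => dig_le hx j
  have e2 := raw_spread c (d := fun _ => 8) fun j _ => by norm_num
  rw [← Z0_pack] at e2
  have e3 : enc x % 65535 = ∑ j ∈ range 24, dig x j := mod_digits fun j _ => dig_le hx j
  have key : (pack 16 (fun i => (mv c x (pt i) + 64).toNat) 24 : ℤ) +
      (raw maskL (spread c) Z0 + (enc x % 65535 : ℕ) * Z0) =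
      raw maskL (spread c) (enc x) + 200 * Z0 := by
    rw [e3, e2, enc, e1, Z0_eq, OO_eq, pack_eq_sum]
    push_cast
    simp only [mul_sum, ← sum_add_distrib]
    refine sum_congr rfl fun i hi => ?_
    have := h (pt i)
    have a : mv c x (pt i) = ∑ j ∈ range 24, ((ap c (24 * i + j) : ℤ) - 8) * ((dig x j : ℤ) - 8) := by
      rw [mv_apply, ← sum_pt]
      exact sum_congr rfl fun j hj => by
        rw [mat, idx_pt (mem_range.1 hi), idx_pt (mem_range.1 hj), dig_cast hx]; ring
    have b : ∑ j ∈ range 24, ((ap c (24 * i + j) : ℤ) - 8) * ((dig x j : ℤ) - 8) =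
        ∑ j ∈ range 24, (dig x j : ℤ) * ap c (24 * i + j) - ∑ j ∈ range 24, 8 * (ap c (24 * i + j) : ℤ) -
          (∑ j ∈ range 24, (dig x j : ℤ)) * 8 + ∑ _j ∈ range 24, (64 : ℤ) := by
      simp only [sum_mul, ← sum_add_distrib, ← sum_sub_distrib]
      exact sum_congr rfl fun j _ => by ring
    rw [Int.toNat_of_nonneg (by omega), a, b, sum_const, card_range]
    ring
  show raw maskL (spread c) (enc x) + 200 * Z0 - (raw maskL (spread c) Z0 + enc x % 65535 * Z0) = _
  generalize enc x % 65535 = s at key ⊢
  have : ((s * Z0 : ℕ) : ℤ) = s * Z0 := Nat.cast_mul _ _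
  omega

def colc (c j : ℕ) : ℕ := pack 16 (fun i => ap c (Nat.add (Nat.mul 24 i) j)) 24

theorem vec_colc (c : ℕ) (p q : GolayPt) : vec (colc c (idx q)) p = mat c p q :=
  vec_pack (fun _ _ => (ap_lt _ _).trans (by norm_num)) p

def orthK (c : ℕ) : Bool := nall (fun j => force (colc c j) fun a => bif' (valid a)
  (force (rev a) fun r => nall (fun k => Nat.beq (dtK r (colc c k)) (bif' (Nat.beq j k) 128 64)) 24)
    false) 24

theorem orthK_sound {c : ℕ} (h : orthK c = true) (x : V) : sqNorm (mv c x) = 64 * sqNorm x := by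
  simp only [orthK, nall_iff, force_eq, bif_and, Nat.beq_eq] at h
  have k : ∀ q r, ∑ p, mat c p q * mat c p r = if q = r then 64 else 0 := fun q r => by
    obtain ⟨a1, a2⟩ := valid_sound (h _ (idx_lt q)).1
    obtain ⟨b1, b2⟩ := valid_sound (h _ (idx_lt r)).1
    have e := dtK_eq a1 b1
    rw [a2, b2, (h _ (idx_lt r)).2 _ (idx_lt q), dotInt, bif'_eq] at e
    simp only [vec_colc, Nat.beq_eq] at e
    by_cases a : q = r
    · subst a
      rw [if_pos rfl] at e ⊢
      omega
    · rw [if_neg fun e => a (idx_inj e).symm] at e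
      rw [if_neg a]
      omega
  simp only [sqNorm, mv_apply, sq, sum_mul_sum]
  rw [sum_comm, mul_sum]
  refine sum_congr rfl fun q _ => ?_
  rw [sum_comm, sum_congr rfl (g := fun r => x q * x r * if q = r then 64 else 0) fun r _ => by
    rw [← k, mul_sum]; exact sum_congr rfl fun p _ => by ring]
  simp [mul_comm]

theorem bd'_mv {c : ℕ} (h : orthK c = true) {x : V} (hx : sqNorm x ≤ 64) : Bd' (mv c x) := fun p => by
  have := sq_le_sqNorm (mv c x) p
  rw [orthK_sound h] at this
  constructor <;> nlinarith

def twoC (b : ℕ) : ℕ := pack 16 (fun i => bif' (bit b i) 10 8) 24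

def pairC (j : ℕ) : ℕ :=
  pack 16 (fun i => Nat.add (bif' (Nat.beq i j) 12 8) (bif' (Nat.beq i 23) 4 0)) 24

def yC : ℕ := pack 16 (fun i => bif' (Nat.beq i 23) 5 9) 24

def genL2 : List ℕ := yC :: (basL.map twoC ++ (List.range 24).map pairC)

def genLit : List ℕ := [3006217073160557815924628966641476788075299138647399335611338541041938778355501188923742093571357659375677800457,
  6012360752965542125503469811454960152463628246337217577806741116558566318238347685756423879107961370963534675978,
  4809906950585339512889239902479873228917604918324582836307343383383503180897428579190859228606367357148395601928,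
  6012360752965546397477541653259947610205882242652983826563304679718679849935171454676921337790723251468912558088,
  4809906950865307605661466423461203202694746049539002163147997315905115499032546637676944755636500631116151521288,
  6012342404976618476970632923304193260998820110267066662456143730525446792815493563746999818402634601285206671368,
  6012342405256586569677674293027642579298391273055171016703614235887790004938759103770963873077823336976862412808,
  6012360753245510218340880489002166659994115754262130978930653662412539715269190114279251066246805625327533424648,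
  4809888602596415864291219852394525290975110229406739685835506517951880186591927614749677423316393992096718520328,
  4809888602876383957063445378699028706909830676518707329407926528645736510883268920729575383871539597521025761288,
  4809906950865311877635537270634895404749052606430196491525747361213805268227097619322318325893936684920369315848,
  6012342405256586569677673298365992890592305622685241302991554776569933468126959689478318330991976259460700569608,
  6012360753245510218275694343128167617964933110548413145401927807366543217182775031461004928172733526144977469448,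
  7214796207356816817610789995782288141906474991175025221573692173418689437337679255022889879161434984153927385100,
  7214796207356816817610789995782288141906474991175025221573692173418689437337679255022889879161434984153927647240,
  7214796207356816817610789995782288141906474991175025221573692173418689437337679255022889879161434984171107254280,
  7214796207356816817610789995782288141906474991175025221573692173418689437337679255022889879161436110053834227720,
  7214796207356816817610789995782288141906474991175025221573692173418689437337679255022889879235221960448765591560,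
  7214796207356816817610789995782288141906474991175025221573692173418689437337679255022894714864713442670626209800,
  7214796207356816817610789995782288141906474991175025221573692173418689437337679255339802529218492334528103186440,
  7214796207356816817610789995782288141906474991175025221573692173418689437337700024210324018471949106139244265480,
  7214796207356816817610789995782288141906474991175025221573692173418689438698808722706643733014933413881000230920,
  7214796207356816817610789995782288141906474991175025221573692173418778640318473377515456022034525577599951306760,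
  7214796207356816817610789995782288141906474991175025221573692179264695986661290927837629210026567062777657557000,
  7214796207356816817610789995782288141906474991175025221574075297303905909552268841779677456457339668934473285640,
  7214796207356816817610789995782288141906474991175025246682099114965412492680836947853555543570856762010065436680,
  7214796207356816817610789995782288141906474991176670726131013379460844406520236605527872615027068564017275994120,
  7214796207356816817610789995782288141906475099014811890176251352086749785416201949571467569323724908568368381960,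
  7214796207356816817610789995782288141913542379434138758892025363421661111400989190610392354993921408959097864200,
  7214796207356816817610789995782288605074831940439806915857632208170320850417617917585146036991771015806445944840,
  7214796207356816817610789995812642343347502007908141813867809656334977044197868935042449448063605363610258767880,
  7214796207356816817610791985075233781053043612704017808857052575243292626728549016878797451799423034287429517320,
  7214796207356816817741160298267695251427655515233225423880986150613309357378392243781570282346288533349664817160,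
  7214796207356825361558933679422617721993299669383483632391781600029769225504110543901793001723635076002275131400,
  7214796207916753003155241048421648712048586060705436595882354557143686712578627222817930115506654357471829164040,
  7214832903334672658754975768916612975297527736214851914071671974840119628103696670779818999458284746164912259080,
  9619703812117222042969618126894569257939173921257144769177958128267671479055038301129717653507438136058628800520]

theorem genLit_eq : genLit = genL2 := by decide +kernel

theorem lat_le_gen {H : AddSubgroup V} (h : ∀ n ∈ genLit, vec n ∈ H) : leechLattice ≤ H := by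
  rw [genLit_eq] at h
  have e23 : ∀ p, idx p = 23 ↔ p = pt 23 := fun p =>
    ⟨fun e => by rw [← e, pt_idx], fun e => by rw [e, idx_pt (by norm_num)]⟩
  refine lat_le (fun b hb => ?_) (fun i => ?_) ?_
  · convert h _ (List.mem_cons_of_mem _ (List.mem_append_left _ (List.mem_map_of_mem hb))) using 1
    funext p
    rw [twoC, vec_pack fun i _ => by rw [bif'_eq]; split_ifs <;> norm_num, bif'_eq, two, bit_eq]
    simp only [mem_toF]
    split_ifs <;> rfl
  · convert h _ (List.mem_cons_of_mem _ (List.mem_append_right _
      (List.mem_map_of_mem (List.mem_range.2 (idx_lt i))))) using 1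
    funext p
    rw [pairC, vec_pack fun i _ => by rw [bif'_eq, bif'_eq]; split_ifs <;> decide, bif'_eq, bif'_eq]
    have : idx p = idx i ↔ p = i := ⟨idx_inj, fun e => by rw [e]⟩
    simp only [Pi.add_apply, Pi.single_apply, Nat.beq_eq, e23, this]
    split_ifs <;> rfl
  · convert h _ List.mem_cons_self using 1
    funext p
    rw [yC, vec_pack fun i _ => by rw [bif'_eq]; split_ifs <;> norm_num, bif'_eq, y0]
    simp only [Nat.beq_eq, e23]
    split_ifs <;> rfl

theorem gen_ok : lall (fun n => bif' (okV 32 n) true (okV 64 n)) genLit = true := by decide +kernel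

theorem gen_ok' {n : ℕ} (h : n ∈ genLit) :
    (lv n : V) = vec n ∧ sqNorm (lv n : V) ≤ 64 ∧ enc (lv n) = n := by
  have := lall_iff.1 gen_ok n h
  cases h1 : okV 32 n
  · rw [h1] at this
    exact ⟨okV_coe this, (okV_sound this).1.le, (okV_sound this).2.1⟩
  · exact ⟨okV_coe h1, (okV_sound h1).1.le.trans (by norm_num), (okV_sound h1).2.1⟩

theorem gen_ext {g h : Co0} (e : ∀ n ∈ genLit, g • lv n = h • lv n) : g = h := by
  have := lat_le_gen (H := ((hom g).eqLocus (hom h)).map leechLattice.subtype) fun n hn =>
    ⟨lv n, e n hn, (gen_ok' hn).1⟩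
  refine co_ext fun v => ?_
  obtain ⟨w, h1, h2⟩ := this v.2
  obtain rfl : w = v := Subtype.ext h2
  exact h1

def okC (c : ℕ) : Bool := bif' (orthK c) (force maskL fun M => force (spread c) fun A =>
  force (raw M A Z0) fun R0 => lall (fun n => force (actT M A R0 n) fun T =>
    force (Nat.shiftRight T 3) fun y => bif' (Nat.beq (Nat.mul 8 y) T) (bif' (valid y) (inL y) false)
      false) genLit) false

theorem okC_orth {c : ℕ} (h : okC c = true) : orthK c = true := by
  simp only [okC, bif_and] at h
  exact h.1

theorem okC_mem {c : ℕ} (h : okC c = true) (v : Λ) : ∃ y ∈ leechLattice, mv c v = (8 : ℤ) • y := by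
  have ho := okC_orth h
  simp only [okC, bif_and, force_eq, lall_iff, Nat.beq_eq] at h
  have := lat_le_gen (H := (leechLattice.map (zsmulAddGroupHom (8 : ℤ))).comap (mv c)) fun n hn => by
    obtain ⟨h1, h2, h3⟩ := h.2 n hn
    obtain ⟨a, b, d⟩ := gen_ok' hn
    rw [a] at b d
    have bd := bd'_mv ho b
    have e := actT_eq c (bd_of_norm b) bd
    rw [d] at e
    generalize Nat.shiftRight _ 3 = y at h1 h2 h3
    refine ⟨vec y, inL_sound h3, funext fun p => ?_⟩
    obtain ⟨k1, k2⟩ := valid_sound h2
    have e1 : Nat.mul 8 y = pack 16 (fun i => 8 * dig (vec y) i) 24 := by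
      show 8 * y = _
      rw [pack_eq_sum]
      simp only [mul_assoc, ← mul_sum]
      rw [← pack_eq_sum, ← enc, k2]
    have e2 := vec_pack (f := fun i => 8 * dig (vec y) i) (fun i _ => by
      have := dig_le k1 i; omega) p
    have := bd p
    rw [← e1, h1, e, vec_pack fun i _ => by have := bd (pt i); omega, pt_idx] at e2
    push_cast at e2
    rw [dig_cast k1, pt_idx] at e2
    show 8 * vec y p = _
    omega
  obtain ⟨y, h1, h2⟩ := this v.2
  exact ⟨y, h1, h2.symm⟩

theorem mv_div {c : ℕ} (h : okC c = true) (v : Λ) (p : GolayPt) : 8 * (mv c v p / 8) = mv c v p := by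
  obtain ⟨y, -, e⟩ := okC_mem h v
  rw [e]
  show 8 * (8 * y p / 8) = 8 * y p
  omega

def coH {c : ℕ} (h : okC c = true) : Λ →+ Λ := AddMonoidHom.mk' (fun v => ⟨fun p => mv c v p / 8, by
    obtain ⟨y, h1, e⟩ := okC_mem h v
    convert h1 using 1
    funext p
    rw [e]
    show 8 * y p / 8 = _
    omega⟩) fun v w => Subtype.ext (funext fun p => by
      have a := mv_div h v p
      have b := mv_div h w p
      show mv c ((v : V) + w) p / 8 = mv c v p / 8 + mv c w p / 8
      rw [map_add, Pi.add_apply]
      omega)

theorem coH_nm {c : ℕ} (h : okC c = true) (v : Λ) : sqNorm (coH h v : V) = sqNorm (v : V) := by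
  have := orthK_sound (okC_orth h) v
  have e : sqNorm (mv c v) = 64 * sqNorm (coH h v : V) := by
    rw [sqNorm, sqNorm, mul_sum]
    refine sum_congr rfl fun p _ => ?_
    rw [← mv_div h]
    show (8 * (mv c v p / 8)) ^ 2 = 64 * (mv c v p / 8) ^ 2
    ring
  omega

def co (c : ℕ) : Co0 := if h : okC c = true then ofHom (coH h) (coH_nm h) else 1

theorem co_apply {c : ℕ} (h : okC c = true) (v : Λ) (p : GolayPt) :
    8 * ((co c • v : Λ) : V) p = mv c v p := by
  rw [co, dif_pos h, ofHom_smul]
  exact mv_div h v p

theorem enc_co {c : ℕ} (h : okC c = true) {v : Λ} (hv : sqNorm (v : V) ≤ 64) :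
    enc (co c • v : Λ) = act c (enc v) := by
  have bd := bd_of_norm ((nm_smul (co c) v).trans_le hv)
  have e : actT maskL (spread c) (raw maskL (spread c) Z0) (enc v) = 2 ^ 3 * enc (co c • v : Λ) := by
    rw [actT_eq c (bd_of_norm hv) (bd'_mv (okC_orth h) hv), enc, pack_eq_sum, pack_eq_sum, mul_sum]
    refine sum_congr rfl fun i _ => ?_
    have := co_apply h v (pt i)
    have := dig_cast bd i
    rw [← mul_assoc]
    congr 1
    omega
  show _ = actT maskL (spread c) (raw maskL (spread c) Z0) (enc v) >>> 3
  rw [e, Nat.shiftRight_eq_div_pow, Nat.mul_div_cancel_left _ (by norm_num)]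

theorem co_smul {c : ℕ} (h : okC c = true) {v : Λ} (hv : sqNorm (v : V) ≤ 64) :
    co c • v = lv (act c (enc v)) := by
  rw [← enc_co h hv, lv_enc (bd_of_norm ((nm_smul (co c) v).trans_le hv))]

attribute [irreducible] enc OO Z0 rev dtK valid hiN inL lv okV spread actT actA act
  colc orthK twoC pairC yC genLit genL2 okC co

end

end Cfsg.Agent.Lee
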