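/-
The list of the minimal vectors and histograms of inner products.
-/
import Cfsg.Agent.Lee.Eng

set_option autoImplicit false

namespace Cfsg.Agent.Lee

open Cfsg Cfsg.Agent.Gol Finset MulAction
open scoped Pointwise symmDiff

noncomputable section

/-- weights with pseudo-random low bits -/
def ww (i : ℕ) : ℕ := Nat.add (Nat.shiftLeft 1 (Nat.add (Nat.mul 16 i) 64))
  (Nat.mod (Nat.pow 3 (Nat.add i 40)) 1125899906842597)

def EW (x : V) : ℤ := ∑ i ∈ range 24, x (pt i) * ww i

def OW : ℕ := sumTo ww 24

def lc (x : V) : ℕ := ∑ i ∈ range 24, dig x i * ww i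

def uns (n : ℕ) : ℕ := Nat.shiftRight n 64

theorem uns_eq (n : ℕ) : uns n = n / 2 ^ 64 := Nat.shiftRight_eq_div_pow _ _

theorem uns_lc {x : V} (h : Bd x) : uns (lc x) = enc x := by
  have e : lc x = enc x * 2 ^ 64 + ∑ i ∈ range 24, dig x i * (3 ^ (i + 40) % 1125899906842597) := by
    unfold enc
    rw [lc, pack_eq_sum, sum_mul, ← sum_add_distrib]
    refine sum_congr rfl fun i _ => ?_
    show dig x i * (1 <<< (16 * i + 64) + 3 ^ (i + 40) % 1125899906842597) = _
    rw [Nat.shiftLeft_eq, pow_add]
    ring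
  have := sum_le_card_nsmul (range 24) (fun i => dig x i * (3 ^ (i + 40) % 1125899906842597))
    (16 * 1125899906842597) fun i _ => Nat.mul_le_mul (dig_le h i) (Nat.mod_lt _ (by norm_num)).le
  rw [card_range, smul_eq_mul] at this
  rw [uns_eq, e, add_comm, Nat.add_mul_div_right _ _ (by norm_num),
    Nat.div_eq_of_lt (lt_of_le_of_lt this (by norm_num)), zero_add]

attribute [irreducible] ww

theorem OW_eq : (OW : ℤ) = ∑ i ∈ range 24, (ww i : ℤ) := by
  rw [OW, sumTo_eq]; push_cast; rfl

theorem EW_add (x y : V) : EW (x + y) = EW x + EW y := by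
  simp only [EW, Pi.add_apply, add_mul, sum_add_distrib]

theorem EW_sub (x y : V) : EW (x - y) = EW x - EW y := by
  simp only [EW, Pi.sub_apply, sub_mul, sum_sub_distrib]

theorem EW_smul (a : ℤ) (x : V) : EW (a • x) = a * EW x := by
  simp only [EW, Pi.smul_apply, smul_eq_mul, mul_sum, mul_assoc]

theorem EW_const (a : ℤ) : EW (fun _ => a) = a * OW := by
  simp only [EW, OW_eq, mul_sum]

theorem EW_single (p : GolayPt) (a : ℤ) : EW (Pi.single p a) = a * ww (idx p) := by
  rw [EW, sum_eq_single (idx p) (fun j hj hne => by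
    rw [Pi.single_eq_of_ne fun e => hne (by rw [← e, idx_pt (mem_range.1 hj)]), zero_mul])
    fun h => absurd (mem_range.2 (idx_lt p)) h, pt_idx, Pi.single_eq_same]

theorem lc_cast {x : V} (h : Bd x) : (lc x : ℤ) = EW x + 8 * OW := by
  rw [lc, EW, OW_eq, mul_sum, ← sum_add_distrib]
  push_cast
  exact sum_congr rfl fun i _ => by rw [dig_cast h]; ring

def sprd (n : ℕ) : ℕ := sumTo (fun i => Nat.mul (Nat.land (Nat.shiftRight n i) 1) (ww i)) 24

def ind (c : Finset GolayPt) : V := fun p => if p ∈ c then 1 else 0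

theorem EW_ind (n : ℕ) : EW (ind (toF n)) = sprd n := by
  rw [sprd, sumTo_eq, EW]
  push_cast
  refine sum_congr rfl fun i hi => ?_
  have h1 : n >>> i &&& 1 = if n.testBit i then 1 else 0 := by
    rw [Nat.testBit, Nat.and_comm, Nat.one_and_eq_mod_two]
    rcases Nat.mod_two_eq_zero_or_one (n >>> i) with h | h <;> simp [h]
  show _ = (((n >>> i &&& 1) * ww i : ℕ) : ℤ)
  rw [h1, ind]
  simp [pt_mem_toF (mem_range.1 hi)]

theorem EW_ind_nonneg (c : Finset GolayPt) : 0 ≤ EW (ind c) :=
  sum_nonneg fun i _ => mul_nonneg (by unfold ind; split_ifs <;> simp) (by positivity)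

def f4 (p : ℕ) : ℕ := Nat.mul 4 (ww p)

theorem f4_eq (p : ℕ) : f4 p = 4 * ww p := rfl

def ZW : ℕ := Nat.mul 8 OW

theorem ZW_eq : ZW = 8 * OW := rfl

def oddE (c b p : ℕ) : ℕ := bif' (bit c p) (Nat.add b (f4 p)) (Nat.sub b (f4 p))

def oddB (c : ℕ) : ℕ := Nat.sub (Nat.mul 9 OW) (Nat.mul 2 (sprd c))

def subsL' : List ℕ → ℕ → Bool → List ℕ
  | [], b, e => bif' e [b] []
  | p :: ps, b, e => subsL' ps b e ++ subsL' ps (b - f4 p) (!e)

def fourE (i j : ℕ) : List ℕ := [ZW + f4 i + f4 j, ZW + f4 i - f4 j, ZW - f4 i + f4 j, ZW - f4 i - f4 j]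

def minL : List ℕ :=
  ((List.range 4096).flatMap fun k => (List.range 24).map (oddE (cw k) (oddB (cw k)))) ++
  (octL.flatMap fun o => subsL' (lfilt (bit o) all24) (ZW + 2 * sprd o) true) ++
  ((List.range 24).flatMap fun i => (List.range i).flatMap (fourE i))

theorem mem_subs {ps : List ℕ} {b : ℕ} {e : Bool} {y : ℕ} {m : Finset GolayPt}
    (h1 : ∀ q ∈ m, idx q ∈ ps) (h2 : e = true ↔ m.card % 2 = 0) (h3 : (y : ℤ) = b - 4 * EW (ind m)) :
    y ∈ subsL' ps b e := by
  induction ps generalizing b e m with
  | nil =>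
    have : m = ∅ := eq_empty_of_forall_notMem fun q hq => by simpa using h1 q hq
    subst this
    have : EW (ind ∅) = 0 := by simp [EW, ind]
    rw [subsL', h2.2 rfl, show y = b by omega]
    simp
  | cons p ps ih =>
    rw [subsL', List.mem_append]
    by_cases h : ∃ q ∈ m, idx q = p
    · obtain ⟨q, hq, rfl⟩ := h
      have e1 : EW (ind m) = EW (ind (m.erase q)) + ww (idx q) := by
        have : ind m = ind (m.erase q) + Pi.single q 1 := by
          funext r
          simp only [ind, Pi.add_apply, Pi.single_apply, mem_erase]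
          by_cases a : r = q <;> simp [a, hq]
        rw [this, EW_add, EW_single, one_mul]
      refine Or.inr (ih (m := m.erase q) (fun r hr => ?_) ?_ ?_)
      · exact (List.mem_cons.1 (h1 r (mem_of_mem_erase hr))).resolve_left
          fun e => ne_of_mem_erase hr (idx_inj e)
      · have := card_erase_add_one hq
        cases e <;> simp at h2 ⊢ <;> omega
      · have := f4_eq (idx q)
        have := EW_ind_nonneg (m.erase q)
        omega
    · exact Or.inl (ih (fun q hq => (List.mem_cons.1 (h1 q hq)).resolve_left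
        fun e => h ⟨q, hq, e⟩) h2 h3)

theorem four_mem_minL {i j : GolayPt} (hij : idx j < idx i) {a b : ℤ} (ha : a = 4 ∨ a = -4)
    (hb : b = 4 ∨ b = -4) (bd : Bd (Pi.single i a + Pi.single j b)) :
    lc (Pi.single i a + Pi.single j b) ∈ minL := by
  refine List.mem_append_right _ (List.mem_flatMap.2 ⟨idx i, List.mem_range.2 (idx_lt i),
    List.mem_flatMap.2 ⟨idx j, List.mem_range.2 hij, ?_⟩⟩)
  have e := lc_cast bd
  rw [EW_add, EW_single, EW_single] at e
  have := f4_eq (idx i)
  have := f4_eq (idx j)
  have := ZW_eq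
  have : ww (idx i) ≤ OW := by
    rw [OW, sumTo_eq]
    exact single_le_sum (f := ww) (fun _ _ => Nat.zero_le _) (mem_range.2 (idx_lt i))
  simp only [fourE, List.mem_cons, List.not_mem_nil, or_false]
  rcases ha with rfl | rfl <;> rcases hb with rfl | rfl <;> omega

theorem lc_mem_minL {v : Λ} (hv : sqNorm (v : V) = 32) : lc v ∈ minL := by
  have bd := bd_of_norm (x := v) (by omega)
  have e := lc_cast bd
  rcases mem_lat.1 v.2 with h | h
  · have h4 := hi_le_sqNorm h.1
    by_cases h8 : (hi (v : V)).card < 8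
    · have e := h.2.2.eq_empty h8
      obtain ⟨i, j, hne, a, b, ha, hb, e'⟩ := shape_four (fun k => by
        have : k ∉ hi (v : V) := by simp [e]
        rw [mem_hi] at this
        have := h.1 k
        omega) hv
      rw [e'] at bd ⊢
      rcases lt_or_gt_of_ne (fun h => hne (idx_inj h)) with h | h
      · rw [add_comm] at bd ⊢
        exact four_mem_minL h hb ha bd
      · exact four_mem_minL h ha hb bd
    · obtain ⟨o, ho, eo⟩ := octads_iff.1 (mem_octads.2 ⟨h.2.2, by omega⟩)
      have sh := shape_two h.1 (by omega)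
      have e1 : (v : V) = (2 : ℤ) • ind (hi (v : V)) - (4 : ℤ) • ind (univ.filter fun i => (v : V) i < 0) := by
        funext i
        simp only [Pi.sub_apply, Pi.smul_apply, ind, mem_filter, mem_univ, true_and, smul_eq_mul]
        have := sh i
        by_cases a : i ∈ hi (v : V)
        · have := this.1 a
          rw [if_pos a]; split_ifs <;> omega
        · have := this.2 a
          rw [if_neg a]; split_ifs <;> omega
      refine List.mem_append_left _ (List.mem_append_right _ (List.mem_flatMap.2 ⟨o, ho,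
        mem_subs (m := univ.filter fun i => (v : V) i < 0)
        (fun q hq => mem_lfilt.2 ⟨idx_mem_all24 q, ?_⟩) (iff_of_true rfl ?_) ?_⟩))
      · rw [← pt_mem_iff (idx_lt q), pt_idx, eo]
        by_contra a
        have := (sh q).2 a
        have := (mem_filter.1 hq).2
        omega
      · have := h.2.1
        have e2 := congrArg (fun x : V => ∑ i, x i) e1
        simp only [Pi.sub_apply, Pi.smul_apply, ind, smul_eq_mul, sum_sub_distrib, ← mul_sum,
          sum_ind] at e2
        omega
      · have e2 := congrArg EW e1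
        rw [EW_sub, EW_smul, EW_smul, ← eo, EW_ind] at e2
        have := ZW_eq
        omega
  · obtain ⟨k, hk, ek⟩ := h.2.2.exists_cw
    obtain ⟨p, h1, h2⟩ := shape_odd h.1 hv
    refine List.mem_append_left _ (List.mem_append_left _ (List.mem_flatMap.2 ⟨k, List.mem_range.2 hk,
      List.mem_map.2 ⟨idx p, List.mem_range.2 (idx_lt p), ?_⟩⟩))
    have e1 : (v : V) = (fun _ => 1) - (2 : ℤ) • ind (hi (v : V)) +
        Pi.single p (if p ∈ hi (v : V) then 4 else -4) := by
      funext i
      simp only [Pi.sub_apply, Pi.add_apply, Pi.smul_apply, ind, smul_eq_mul, Pi.single_apply,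
        mem_hi]
      by_cases a : i = p
      · subst a
        rw [if_pos rfl]
        split_ifs <;> omega
      · have := h2 i a
        rw [if_neg a]
        split_ifs <;> omega
    have e2 := congrArg EW e1
    rw [EW_add, EW_sub, EW_smul, EW_const, EW_single, ← ek, EW_ind] at e2
    have e3 := lc_cast (x := (fun _ => 1) - (2 : ℤ) • ind (toF (cw k))) fun i => by
      simp only [Pi.sub_apply, Pi.smul_apply, ind, smul_eq_mul]
      split_ifs <;> simp
    rw [EW_sub, EW_smul, EW_const, EW_ind] at e3
    have := f4_eq (idx p)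
    have e4 : oddB (cw k) = 9 * OW - 2 * sprd (cw k) := rfl
    show bif' _ (oddB (cw k) + f4 (idx p)) (oddB (cw k) - f4 (idx p)) = _
    rw [bif'_eq]
    simp only [← pt_mem_iff (idx_lt p), pt_idx]
    split_ifs at * <;> omega

/-! ### sums over the list -/

/-- `a + f 0 + ⋯ + f (n - 1)` where `f i a` adds the `i`-th summand to `a` -/
def nfold (f : ℕ → ℕ → ℕ) (n : ℕ) : ℕ → ℕ :=
  Nat.rec (fun a => a) (fun i ih a => force (f i a) ih) n

theorem nfold_eq {f : ℕ → ℕ → ℕ} {g : ℕ → ℕ} (h : ∀ i a, f i a = a + g i) (n a : ℕ) :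
    nfold f n a = a + ((List.range n).map g).sum := by
  induction n generalizing a with
  | zero => simp [nfold]
  | succ n ih =>
    have e : nfold f (n + 1) a = force (f n a) (nfold f n) := rfl
    rw [e, force_eq, ih, h, List.range_succ, List.map_append, List.sum_append]
    simp only [List.map_cons, List.map_nil, List.sum_cons, List.sum_nil]
    omega

def lfold (f : ℕ → ℕ → ℕ) (l : List ℕ) : ℕ → ℕ :=
  List.rec (fun a => a) (fun i _ ih a => force (f i a) ih) l

theorem lfold_eq {f : ℕ → ℕ → ℕ} {g : ℕ → ℕ} (h : ∀ i a, f i a = a + g i) (l : List ℕ) (a : ℕ) :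
    lfold f l a = a + (l.map g).sum := by
  induction l generalizing a with
  | nil => simp [lfold]
  | cons n l ih =>
    have e : lfold f (n :: l) a = force (f n a) (lfold f l) := rfl
    rw [e, force_eq, ih, h, List.map_cons, List.sum_cons, add_assoc]

def subS (w : ℕ → ℕ) (ps : List ℕ) : ℕ → Bool → ℕ → ℕ :=
  List.rec (fun b e a => Bool.rec a (Nat.add a (w b)) e)
    (fun p _ ih b e a => force (ih b e a) fun a' => force (Nat.sub b (f4 p)) fun b' =>
      Bool.rec (ih b' true a') (ih b' false a') e) ps

theorem subS_eq (w : ℕ → ℕ) (ps : List ℕ) (b : ℕ) (e : Bool) (a : ℕ) :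
    subS w ps b e a = a + ((subsL' ps b e).map w).sum := by
  induction ps generalizing b e a with
  | nil => cases e <;> simp [subS, subsL']
  | cons p ps ih =>
    have e' : subS w (p :: ps) b e a = force (subS w ps b e a) fun a' => force (b - f4 p) fun b' =>
      Bool.rec (subS w ps b' true a') (subS w ps b' false a') e := rfl
    rw [e', force_eq, force_eq, subsL', List.map_append, List.sum_append]
    cases e <;> simp [ih, add_assoc]

def minS (w : ℕ → ℕ) : ℕ :=
  force (nfold (fun k a => force (cw k) fun c => force (oddB c) fun b =>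
    nfold (fun p a => force (oddE c b p) fun y => Nat.add a (w y)) 24 a) 4096 0) fun a =>
  force (lfold (fun o a => force (ZW + 2 * sprd o) fun b => subS w (lfilt (bit o) all24) b true a)
    octL a) fun a =>
  nfold (fun i a => nfold (fun j a => lfold (fun y a => force y fun y => Nat.add a (w y))
    (fourE i j) a) i a) 24 a

theorem sum_flatMap' {α : Type} (w : ℕ → ℕ) (l : List α) (f : α → List ℕ) :
    ((l.flatMap f).map w).sum = (l.map fun a => ((f a).map w).sum).sum := by
  induction l with
  | nil => simp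
  | cons a l ih => simp [List.flatMap_cons, ih]

theorem minS_eq (w : ℕ → ℕ) : minS w = (minL.map w).sum := by
  have k1 : ∀ l a, lfold (fun y a => force y fun y => Nat.add a (w y)) l a = a + (l.map w).sum :=
    lfold_eq fun y a => force_eq _ _
  have k2 : ∀ c b n a, nfold (fun p a => force (oddE c b p) fun y => Nat.add a (w y)) n a =
      a + ((List.range n).map fun p => w (oddE c b p)).sum :=
    fun c b => nfold_eq fun p a => force_eq _ _
  rw [minS, force_eq, force_eq, minL, List.map_append, List.map_append, List.sum_append,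
    List.sum_append, sum_flatMap', sum_flatMap', sum_flatMap',
    nfold_eq (g := fun i => (((List.range i).flatMap (fourE i)).map w).sum) fun i a => by
      rw [sum_flatMap']; exact nfold_eq (fun j a => k1 (fourE i j) a) _ _,
    lfold_eq fun o a => by rw [force_eq, subS_eq],
    nfold_eq (g := fun k => (((List.range 24).map (oddE (cw k) (oddB (cw k)))).map w).sum) fun k a => by
      rw [force_eq, force_eq, k2, List.map_map]; rfl, zero_add]

attribute [irreducible] OW uns sprd f4 ZW oddE oddB nfold lfold subS minS minL lc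

theorem minL_len : minL.length = 196560 := by
  have h : ∀ l : List ℕ, (l.map fun _ => 1).sum = l.length := by simp
  exact (h minL).symm.trans ((minS_eq _).symm.trans (by decide +kernel))

theorem enc_inj {v w : Λ} (hv : sqNorm (v : V) ≤ 64) (hw : sqNorm (w : V) ≤ 64)
    (e : enc v = enc w) : v = w := by
  rw [← lv_enc (bd_of_norm hv), e, lv_enc (bd_of_norm hw)]

theorem fin_min : {v : Λ | sqNorm (v : V) = 32}.Finite :=
  ((finite_norm_le 32).preimage Subtype.val_injective.injOn).subset fun _ hv => le_of_eq hv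

theorem sum_min (w : ℕ → ℕ) : minS w = ∑ v ∈ fin_min.toFinset, w (lc v) := by
  have inj : Set.InjOn (fun v : Λ => lc v) fin_min.toFinset := fun v hv w hw e => by
    have hv : sqNorm (v : V) ≤ 64 := by rw [show sqNorm (v : V) = 32 by simpa using hv]; norm_num
    have hw : sqNorm (w : V) ≤ 64 := by rw [show sqNorm (w : V) = 32 by simpa using hw]; norm_num
    refine enc_inj hv hw ?_
    rw [← uns_lc (bd_of_norm hv), ← uns_lc (bd_of_norm hw)]
    exact congrArg uns e
  have c1 : (fin_min.toFinset.image fun v : Λ => lc v).card = 196560 := by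
    rw [card_image_of_injOn inj, ← Set.ncard_eq_toFinset_card _ fin_min,
      ncard_lat fun x => sqNorm x = 32, count32]
  have c2 := minL_len
  have sub : (fin_min.toFinset.image fun v : Λ => lc v) ⊆ minL.toFinset := fun n hn => by
    obtain ⟨v, hv, rfl⟩ := mem_image.1 hn
    exact List.mem_toFinset.2 (lc_mem_minL (by simpa using hv))
  have c3 := card_le_card sub
  have c4 := List.toFinset_card_le minL
  have nd : minL.Nodup := by
    have : minL.dedup.length = minL.length := by rw [← List.card_toFinset]; omega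
    rw [← List.dedup_eq_self]
    exact (List.dedup_sublist _).eq_of_length this
  rw [minS_eq, ← List.sum_toFinset _ nd, ← eq_of_subset_of_card_le sub (by omega), sum_image inj]

theorem sum_salt {α : Type*} (s : Finset α) (f : α → ℕ) (h : s.card < 2 ^ 20) :
    (∑ v ∈ s, Nat.succ (Nat.shiftLeft 1048576 (Nat.mul 20 (f v)))) >>> 20 = ∑ v ∈ s, (2 ^ 20) ^ f v := by
  have : ∑ v ∈ s, Nat.succ (Nat.shiftLeft 1048576 (Nat.mul 20 (f v))) =
      s.card + (∑ v ∈ s, (2 ^ 20) ^ f v) * 2 ^ 20 := by
    rw [card_eq_sum_ones, sum_mul, ← sum_add_distrib]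
    refine sum_congr rfl fun v _ => ?_
    show 1048576 <<< (20 * f v) + 1 = _
    rw [Nat.shiftLeft_eq, pow_mul]
    ring
  rw [this, Nat.shiftRight_eq_div_pow, Nat.add_mul_div_right _ _ (by norm_num), Nat.div_eq_of_lt h,
    zero_add]

theorem card_min : fin_min.toFinset.card = 196560 := by
  rw [← Set.ncard_eq_toFinset_card _ fin_min, ncard_lat fun x => sqNorm x = 32, count32]

/-- histogram of the inner products with the vector of code `y` -/
def hist (y : ℕ) : ℕ := force (rev y) fun r => Nat.shiftRight
  (minS fun n => Nat.succ (Nat.shiftLeft 1048576 (Nat.mul 20 (Nat.div (dtK r (uns n)) 8)))) 20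

theorem ncard_dot {y k H : ℕ} (hy : okV k y = true) (hH : hist y = H) (j : ℕ) :
    {v : Λ | sqNorm (v : V) = 32 ∧ dotInt (lv y : V) (v : V) = 8 * j - 64}.ncard =
      H / (2 ^ 20) ^ j % 2 ^ 20 := by
  obtain ⟨h1, h2, h3⟩ := okV_sound hy
  have e : H = ∑ v ∈ fin_min.toFinset, (2 ^ 20) ^ (dtK (rev y) (uns (lc v)) / 8) := by
    rw [← hH, hist, force_eq, sum_min]
    exact sum_salt _ (fun v : Λ => dtK (rev y) (uns (lc v)) / 8) (by rw [card_min]; norm_num)
  rw [e, digit_sum _ _ _ _ (by
    rw [← Set.ncard_eq_toFinset_card _ fin_min, ncard_lat fun x => sqNorm x = 32, count32]; norm_num),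
    ← Set.ncard_coe_finset]
  congr 1
  ext v
  simp only [Set.mem_setOf_eq, coe_filter, Set.Finite.mem_toFinset]
  refine and_congr_right fun hv => ?_
  have := dtK_eq' (x := v) (y := lv y) (by omega) (by omega)
  rw [h2, ← uns_lc (bd_of_norm (by omega)), dot_comm] at this
  have := eight_dvd_dot (lv y).2 v.2
  omega

attribute [irreducible] hist

end

end Cfsg.Agent.Lee
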