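/-
Orbit enumeration on minimal vectors.
-/
import Cfsg.Agent.Lee.Min

set_option autoImplicit false

namespace Cfsg.Agent.Lee

open Cfsg Cfsg.Agent.Gol Finset MulAction
open scoped Pointwise symmDiff

noncomputable section

def slt (e : ℕ) : ℕ := Nat.add (Nat.shiftLeft e 64) (Nat.mod e 2305843009213693951)

theorem uns_slt (e : ℕ) : uns (slt e) = e := by
  have : slt e = e % 2305843009213693951 + e * 2 ^ 64 := by
    show e <<< 64 + e % _ = _
    rw [Nat.shiftLeft_eq, add_comm]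
  rw [uns_eq, this, Nat.add_mul_div_right _ _ (by norm_num),
    Nat.div_eq_of_lt ((Nat.mod_lt _ (by norm_num)).trans (by norm_num)), zero_add]

def actC (M A R0 n : ℕ) : ℕ := slt (actA M A R0 (uns n))

def prepK (k : List (ℕ → ℕ) → Bool) (M : ℕ) (cs : List ℕ) : List (ℕ → ℕ) → Bool :=
  List.rec k (fun c _ ih acc => force (spread c) fun A => force (raw M A Z0) fun R0 =>
    ih (actC M A R0 :: acc)) cs

theorem prepK_sound {k : List (ℕ → ℕ) → Bool} {cs : List ℕ} {acc : List (ℕ → ℕ)}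
    (h : prepK k maskL cs acc = true) :
    ∃ gens, k gens = true ∧ ∀ f ∈ gens, f ∈ acc ∨ ∃ c ∈ cs, ∀ n, f n = slt (act c (uns n)) := by
  induction cs generalizing acc with
  | nil => exact ⟨acc, h, fun f hf => Or.inl hf⟩
  | cons c cs ih =>
    have e : prepK k maskL (c :: cs) acc = force (spread c) fun A => force (raw maskL A Z0) fun R0 =>
      prepK k maskL cs (actC maskL A R0 :: acc) := rfl
    rw [e, force_eq, force_eq] at h
    obtain ⟨gens, h1, h2⟩ := ih h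
    refine ⟨gens, h1, fun f hf => ?_⟩
    rcases h2 f hf with h | ⟨d, hd, e⟩
    · rcases List.mem_cons.1 h with rfl | h
      · exact Or.inr ⟨c, List.mem_cons_self, fun n => by unfold act; rfl⟩
      · exact Or.inl h
    · exact Or.inr ⟨d, List.mem_cons_of_mem _ hd, e⟩

/-- the pointwise stabiliser of a list of vectors -/
def FV (F : List Λ) : Subgroup Co0 where
  carrier := {g | ∀ v ∈ F, g • v = v}
  one_mem' := fun v _ => one_smul _ v
  mul_mem' := fun {a b} ha hb v h => by rw [mul_smul, hb v h, ha v h]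
  inv_mem' := fun {a} ha v h => by rw [inv_smul_eq_iff, ha v h]

theorem mem_FV {F : List Λ} {g : Co0} : g ∈ FV F ↔ ∀ v ∈ F, g • v = v := Iff.rfl

def okW (n : ℕ) : Bool := bif' (okV 32 n) true (bif' (okV 48 n) true (okV 64 n))

theorem okW_sound {n : ℕ} (h : okW n = true) : sqNorm (lv n : V) ≤ 64 ∧ enc (lv n) = n := by
  have k : ∀ k, okV k n = true → sqNorm (lv n : V) ≤ 64 ∧ enc (lv n) = n := fun k h => by
    obtain ⟨a, b, c⟩ := okV_sound h
    exact ⟨by omega, b⟩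
  unfold okW at h
  cases h1 : okV 32 n
  · cases h2 : okV 48 n
    · rw [h1, h2] at h; exact k _ h
    · exact k _ h2
  · exact k _ h1

theorem co_lv {c n : ℕ} (h : okC c = true) (hn : okW n = true) : co c • lv n = lv (act c n) := by
  rw [co_smul h (okW_sound hn).1, (okW_sound hn).2]

def fixOk (F : List ℕ) (c : ℕ) : Bool :=
  bif' (okC c) (lall (fun n => bif' (okW n) (Nat.beq (act c n) n) false) F) false

theorem fixOk_sound {F : List ℕ} {c : ℕ} (h : fixOk F c = true) :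
    okC c = true ∧ co c ∈ FV (F.map lv) := by
  simp only [fixOk, bif_and, lall_iff, Nat.beq_eq] at h
  refine ⟨h.1, fun v hv => ?_⟩
  obtain ⟨n, hn, rfl⟩ := List.mem_map.1 hv
  rw [co_lv h.1 (h.2 n hn).1, (h.2 n hn).2]

def cd (y : Λ) : ℕ := slt (enc y)

theorem uns_cd (y : Λ) : uns (cd y) = enc y := uns_slt _

def orbs (F cs reps : List ℕ) (N : ℕ) (k : List ℕ → Bool) : Bool :=
  bif' (lall (fixOk F) cs) (bif' (lall (okV 32) reps) (force maskL fun M => prepK (fun gens =>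
    treeK (orbK gens (fun t => bif' (incr t.toL 0)
      (bif' (Nat.beq (lcnt (fun _ => true) t.toL) N) (k t.toL) false) false) 100000 (reps.map slt))
      (reps.map slt) .nil) M cs []) false) false

/-- `l` lists the codes of the members of `S` -/
structure Lst (S : Set Λ) (l : List ℕ) : Prop where
  nm : ∀ y ∈ S, sqNorm (y : V) = 32
  nd : l.Nodup
  mem : ∀ y ∈ S, cd y ∈ l
  ex : ∀ n ∈ l, ∃ y ∈ S, cd y = n

theorem cd_inj {v w : Λ} (hv : sqNorm (v : V) = 32) (hw : sqNorm (w : V) = 32) (e : cd v = cd w) :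
    v = w := enc_inj (by omega) (by omega) (by rw [← uns_cd, e, uns_cd])

theorem orbs_gen {F cs reps : List ℕ} {N : ℕ} {k : List ℕ → Bool} (h : orbs F cs reps N k = true)
    {K : Subgroup Co0} (hK : ∀ c ∈ cs, co c ∈ K)
    {S : Set Λ} (hS : S.ncard = N) (h32 : ∀ y ∈ S, sqNorm (y : V) = 32)
    (hc : ∀ r ∈ reps, ∀ g ∈ K, g • lv r ∈ S) :
    (∀ y ∈ S, ∃ r ∈ reps, ∃ g ∈ K, g • lv r = y) ∧ ∃ l, Lst S l ∧ k l = true := by
  simp only [orbs, bif_and, lall_iff, force_eq] at h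
  obtain ⟨h1, h2, h3⟩ := h
  obtain ⟨gens, h4, h5⟩ := prepK_sound h3
  let P : ℕ → Prop := fun n => ∃ r ∈ reps, ∃ g ∈ K, cd (g • lv r) = n
  have p0 : ∀ y ∈ reps.map slt, P y := fun y hy => by
    obtain ⟨r, hr, rfl⟩ := List.mem_map.1 hy
    exact ⟨r, hr, 1, one_mem _, by rw [one_smul, cd, (okV_sound (h2 r hr)).2.1]⟩
  obtain ⟨t, t1, t2⟩ := treeK_sound p0 (t := .nil) trivial h4
  obtain ⟨t', t3, t4⟩ := orbK_sound (P := P) (fun f hf x hx => by
    obtain ⟨c, hc', e⟩ := (h5 f hf).resolve_left (by simp)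
    obtain ⟨r, hr, g, hg, rfl⟩ := hx
    refine ⟨r, hr, co c * g, mul_mem (hK c hc') hg, ?_⟩
    rw [e, uns_cd, mul_smul, cd, enc_co (fixOk_sound (h1 c hc')).1
      (by rw [h32 _ (hc r hr g hg)]; norm_num)]) p0 t1 t2
  simp only [bif_and, Nat.beq_eq, lcnt_eq, List.countP_true] at t4
  obtain ⟨t4, t5, t6⟩ := t4
  have nd := incr_nodup t4
  have ex : ∀ n ∈ t'.toL, P n := fun n hn => Tr.all_iff.1 t3 n (Tr.mem_toL.1 hn)
  have fin : S.Finite := fin_min.subset h32
  have sub : t'.toL.toFinset ⊆ fin.toFinset.image cd := fun n hn => by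
    obtain ⟨r, hr, g, hg, rfl⟩ := ex n (List.mem_toFinset.1 hn)
    exact mem_image_of_mem _ (by simpa using hc r hr g hg)
  have eq := eq_of_subset_of_card_le sub (by
    rw [List.toFinset_card_of_nodup nd, t5, ← hS, Set.ncard_eq_toFinset_card _ fin]
    exact card_image_le)
  have mem : ∀ y ∈ S, cd y ∈ t'.toL := fun y hy =>
    List.mem_toFinset.1 (eq ▸ mem_image_of_mem _ (by simpa using hy))
  refine ⟨fun y hy => ?_, t'.toL, ⟨h32, nd, mem, fun n hn => ?_⟩, t6⟩
  · obtain ⟨r, hr, g, hg, e⟩ := ex _ (mem y hy)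
    exact ⟨r, hr, g, hg, cd_inj (h32 _ (hc r hr g hg)) (h32 y hy) e⟩
  · obtain ⟨r, hr, g, hg, e⟩ := ex n hn
    exact ⟨_, hc r hr g hg, e⟩

theorem orbs_fix {F cs reps : List ℕ} {N : ℕ} {k : List ℕ → Bool} (h : orbs F cs reps N k = true) :
    ∀ c ∈ cs, co c ∈ FV (F.map lv) := by
  simp only [orbs, bif_and, lall_iff] at h
  exact fun c hc => (fixOk_sound (h.1 c hc)).2

def histL (x : ℕ) (l : List ℕ) : ℕ := force (rev x) fun r => Nat.shiftRight
  (lfold (fun n a => Nat.add a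
    (Nat.succ (Nat.shiftLeft 1048576 (Nat.mul 20 (Nat.div (dtK r (uns n)) 8))))) l 0) 20

theorem Lst.ncard_dot {S : Set Λ} {l : List ℕ} (h : Lst S l) {x H : ℕ} (hx : okW x = true)
    (hH : histL x l = H) (j : ℕ) :
    {v : Λ | v ∈ S ∧ dotInt (lv x : V) (v : V) = 8 * j - 64}.ncard = H / (2 ^ 20) ^ j % 2 ^ 20 := by
  obtain ⟨h1, h2⟩ := okW_sound hx
  have fin : S.Finite := fin_min.subset h.nm
  have e0 : l.toFinset = fin.toFinset.image cd := by
    ext n
    simp only [List.mem_toFinset, mem_image, Set.Finite.mem_toFinset]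
    exact ⟨h.ex n, by rintro ⟨y, hy, rfl⟩; exact h.mem y hy⟩
  have hc : fin.toFinset.card < 2 ^ 20 :=
    (card_le_card (t := fin_min.toFinset) fun v hv => by
      simpa using h.nm v (by simpa using hv)).trans_lt (by rw [card_min]; norm_num)
  have e : H = ∑ v ∈ fin.toFinset, (2 ^ 20) ^ (dtK (rev x) (enc v) / 8) := by
    have k : lfold (fun n a => Nat.add a
        (Nat.succ (Nat.shiftLeft 1048576 (Nat.mul 20 (Nat.div (dtK (rev x) (uns n)) 8))))) l 0 =
        0 + (l.map fun n => Nat.succ (Nat.shiftLeft 1048576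
          (Nat.mul 20 (dtK (rev x) (uns n) / 8)))).sum := lfold_eq (fun _ _ => rfl) l 0
    rw [← hH, histL, force_eq, k, zero_add, ← List.sum_toFinset _ h.nd, e0, sum_image fun v hv w hw e =>
        cd_inj (h.nm v (by simpa using hv)) (h.nm w (by simpa using hw)) e]
    simp only [uns_cd]
    exact sum_salt _ (fun v : Λ => dtK (rev x) (enc v) / 8) hc
  rw [e, digit_sum _ _ _ _ hc,
    ← Set.ncard_coe_finset]
  congr 1
  ext v
  simp only [Set.mem_setOf_eq, coe_filter, Set.Finite.mem_toFinset]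
  refine and_congr_right fun hv => ?_
  have := dtK_eq' (x := v) (y := lv x) (by rw [h.nm v hv]; norm_num) h1
  rw [h2, dot_comm] at this
  have := eight_dvd_dot (lv x).2 v.2
  omega

/-- inner product of two coded vectors, plus 64 -/
def dtc (x y : ℕ) : ℕ := dtK (rev x) y

theorem dot_lv {x y : ℕ} (hx : okW x = true) (hy : okW y = true) :
    dotInt (lv x : V) (lv y : V) = (dtc x y : ℤ) - 64 := by
  have := dtK_eq' (okW_sound hy).1 (okW_sound hx).1
  rw [(okW_sound hx).2, (okW_sound hy).2, dot_comm] at this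
  rw [dtc, this]; ring

/-- minimal vectors with prescribed inner products -/
def XV (F : List (Λ × ℤ)) : Set Λ :=
  {y | sqNorm (y : V) = 32 ∧ ∀ p ∈ F, dotInt (p.1 : V) (y : V) = p.2}

theorem XV_smul {F : List (Λ × ℤ)} {g : Co0} (hg : ∀ p ∈ F, g • p.1 = p.1) {y : Λ} (hy : y ∈ XV F) :
    g • y ∈ XV F :=
  ⟨(nm_smul _ _).trans hy.1, fun p hp => by rw [← hg p hp, dt_smul, hy.2 p hp]⟩

theorem XV_cons (x : Λ) (d : ℤ) (F : List (Λ × ℤ)) :
    XV ((x, d) :: F) = {v | v ∈ XV F ∧ dotInt (x : V) (v : V) = d} := by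
  ext v
  simp only [XV, Set.mem_setOf_eq, List.forall_mem_cons]
  tauto

/-- coded constraints: the inner product is `d - 64` -/
def XC (F : List (ℕ × ℕ)) : Set Λ := XV (F.map fun p => (lv p.1, (p.2 : ℤ) - 64))

def inX (F : List (ℕ × ℕ)) (r : ℕ) : Bool :=
  bif' (okV 32 r) (lall (fun p => bif' (okW p.1) (Nat.beq (dtc p.1 r) p.2) false) F) false

theorem okW_of {r : ℕ} (h : okV 32 r = true) : okW r = true := by rw [okW, h]; rfl

theorem inX_sound {F : List (ℕ × ℕ)} {r : ℕ} (h : inX F r = true) : lv r ∈ XC F := by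
  simp only [inX, bif_and, lall_iff, Nat.beq_eq] at h
  refine ⟨(okV_sound h.1).1, fun p hp => ?_⟩
  obtain ⟨q, hq, rfl⟩ := List.mem_map.1 hp
  rw [dot_lv (h.2 q hq).1 (okW_of h.1), (h.2 q hq).2]

theorem XC_cons (x d : ℕ) (F : List (ℕ × ℕ)) :
    XC ((x, d) :: F) = {v | v ∈ XC F ∧ dotInt (lv x : V) (v : V) = (d : ℤ) - 64} := XV_cons _ _ _

def orbX (E : List ℕ) (F : List (ℕ × ℕ)) (cs reps : List ℕ) (N : ℕ) (k : List ℕ → Bool) : Bool :=
  bif' (lall (inX F) reps) (orbs (E ++ F.map Prod.fst) cs reps N k) false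

theorem XC_smul {E : List ℕ} {F : List (ℕ × ℕ)} {g : Co0} (hg : g ∈ FV ((E ++ F.map Prod.fst).map lv))
    {y : Λ} (hy : y ∈ XC F) : g • y ∈ XC F :=
  XV_smul (fun p hp => by
    obtain ⟨q, hq, rfl⟩ := List.mem_map.1 hp
    exact hg _ (List.mem_map_of_mem (List.mem_append_right _ (List.mem_map_of_mem hq)))) hy

theorem orbX_gen {E : List ℕ} {F : List (ℕ × ℕ)} {cs reps : List ℕ} {N : ℕ} {k : List ℕ → Bool}
    (h : orbX E F cs reps N k = true) (hS : (XC F).ncard = N) {K : Subgroup Co0}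
    (hK : ∀ c ∈ cs, co c ∈ K) (hK' : K ≤ FV ((E ++ F.map Prod.fst).map lv)) :
    (∀ y ∈ XC F, ∃ r ∈ reps, ∃ g ∈ K, g • lv r = y) ∧ ∃ l, Lst (XC F) l ∧ k l = true := by
  simp only [orbX, bif_and, lall_iff] at h
  exact orbs_gen h.2 hK hS (fun y hy => hy.1) fun r hr g hg => XC_smul (hK' hg) (inX_sound (h.1 r hr))

theorem orbX_fix {E : List ℕ} {F : List (ℕ × ℕ)} {cs reps : List ℕ} {N : ℕ} {k : List ℕ → Bool}
    (h : orbX E F cs reps N k = true) : ∀ c ∈ cs, co c ∈ FV ((E ++ F.map Prod.fst).map lv) := by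
  simp only [orbX, bif_and] at h
  exact orbs_fix h.2

theorem orbX_sound {E : List ℕ} {F : List (ℕ × ℕ)} {cs reps : List ℕ} {N : ℕ} {k : List ℕ → Bool}
    (h : orbX E F cs reps N k = true) (hS : (XC F).ncard = N) :
    (∀ y ∈ XC F, ∃ r ∈ reps, ∃ g ∈ FV ((E ++ F.map Prod.fst).map lv), g • lv r = y) ∧
      ∃ l, Lst (XC F) l ∧ k l = true :=
  orbX_gen h hS (orbX_fix h) le_rfl

/-- transitivity on a single orbit -/
theorem orbX_one {E : List ℕ} {F : List (ℕ × ℕ)} {cs : List ℕ} {r N : ℕ} {k : List ℕ → Bool}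
    (h : orbX E F cs [r] N k = true) (hS : (XC F).ncard = N) :
    ∀ y ∈ XC F, ∃ g ∈ FV ((E ++ F.map Prod.fst).map lv), g • lv r = y := fun y hy => by
  simpa using (orbX_sound h hS).1 y hy

/-- the representatives have different inner products with `x` -/
def keyOk (x : ℕ) (reps : List ℕ) : Bool := bif' (okW x) (lall (fun r => bif' (okW r)
  (lall (fun s => bif' (Nat.beq (dtc x r) (dtc x s)) (Nat.beq r s) true) reps) false) reps) false

theorem orbX_key {x : ℕ} {F : List (ℕ × ℕ)} {cs reps : List ℕ} {N : ℕ} {k : List ℕ → Bool}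
    (h : orbX [x] F cs reps N k = true) (hS : (XC F).ncard = N) (hk : keyOk x reps = true) :
    ∀ y ∈ XC F, ∀ y' ∈ XC F, dotInt (lv x : V) (y : V) = dotInt (lv x : V) (y' : V) →
      ∃ g ∈ FV ((x :: F.map Prod.fst).map lv), g • y = y' := by
  intro y hy y' hy' e
  obtain ⟨r, hr, g, hg, rfl⟩ := (orbX_sound h hS).1 y hy
  obtain ⟨s, hs, g', hg', rfl⟩ := (orbX_sound h hS).1 y' hy'
  simp only [keyOk, bif_and, lall_iff] at hk
  have e1 := dt_smul g (lv x) (lv r)
  have e2 := dt_smul g' (lv x) (lv s)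
  rw [hg _ (by simp)] at e1
  rw [hg' _ (by simp), ← e, e1, dot_lv hk.1 (hk.2 r hr).1, dot_lv hk.1 (hk.2 s hs).1] at e2
  have := (hk.2 r hr).2 s hs
  rw [Nat.beq_eq.mpr (by omega : dtc x r = dtc x s), bif'_true, Nat.beq_eq] at this
  subst this
  exact ⟨g' * g⁻¹, mul_mem hg' (inv_mem hg), tr2⟩

def hK (L : List (ℕ × ℕ)) (l : List ℕ) : Bool :=
  lall (fun p => bif' (okW p.1) (Nat.beq (histL p.1 l) p.2) false) L

theorem orbX_hist {E : List ℕ} {F : List (ℕ × ℕ)} {cs reps : List ℕ} {N : ℕ} {L : List (ℕ × ℕ)}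
    (h : orbX E F cs reps N (hK L) = true) (hS : (XC F).ncard = N) {x H : ℕ} (hx : (x, H) ∈ L)
    (j : ℕ) : (XC ((x, 8 * j) :: F)).ncard = H / (2 ^ 20) ^ j % 2 ^ 20 := by
  obtain ⟨l, h1, h2⟩ := (orbX_sound h hS).2
  simp only [hK, lall_iff, bif_and] at h2
  rw [XC_cons, ← h1.ncard_dot (h2 _ hx).1 (Nat.eq_of_beq_eq_true (h2 _ hx).2) j]
  push_cast
  rfl

theorem ncard_XC1 {y k H : ℕ} (hy : okV k y = true) (hH : hist y = H) (j : ℕ) :
    (XC [(y, 8 * j)]).ncard = H / (2 ^ 20) ^ j % 2 ^ 20 := by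
  rw [← ncard_dot hy hH j]
  congr 1
  ext v
  simp [XC, XV]

attribute [irreducible] slt actC prepK okW fixOk cd orbs histL dtc inX orbX keyOk hK

end

end Cfsg.Agent.Lee
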