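/-
The transformation formula for Gaussian sums over `ℤ ^ n`.
-/
import Mathlib

set_option autoImplicit false

namespace Cfsg.Agent.Lee

open Complex Finset
open scoped Real

/-- a real quadratic form at a complex vector -/
noncomputable def qf {n : ℕ} (A : Matrix (Fin n) (Fin n) ℝ) (x : Fin n → ℂ) : ℂ :=
  ∑ i, ∑ j, (A i j : ℂ) * x i * x j

def Coer {n : ℕ} (A : Matrix (Fin n) (Fin n) ℝ) : Prop :=
  ∃ ε > 0, ∀ x : Fin n → ℝ, ε * ∑ i, x i ^ 2 ≤ ∑ i, ∑ j, A i j * x i * x j

theorem summ_one {c : ℂ} (hc : 0 < c.re) (β γ : ℂ) :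
    Summable fun n : ℤ => ‖cexp (-c * n ^ 2 + β * n + γ)‖ := by
  have hπ : (π : ℂ) ≠ 0 := ofReal_ne_zero.2 Real.pi_ne_zero
  have := (summable_jacobiTheta₂_term_iff (β / (2 * π * I)) (I * c / π)).2 (by
    rw [div_ofReal_im]; simpa using div_pos hc Real.pi_pos)
  refine ((this.mul_right (cexp γ)).congr fun n => ?_).norm
  rw [jacobiTheta₂_term, ← Complex.exp_add]
  congr 1
  field_simp
  rw [I_sq]; ring

theorem summ_pi {n : ℕ} (g : Fin n → ℤ → ℝ) (h0 : ∀ i k, 0 ≤ g i k) (h : ∀ i, Summable (g i)) :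
    Summable fun x : Fin n → ℤ => ∏ i, g i (x i) := by
  induction n with
  | zero => exact Summable.of_finite
  | succ n ih =>
    rw [← (Fin.consEquiv fun _ => ℤ).summable_iff]
    refine ((h 0).mul_of_nonneg (ih (fun i => g i.succ) (fun _ => h0 _) fun _ => h _) (h0 0)
      fun x => prod_nonneg fun _ _ => h0 _ _).congr fun p => ?_
    simp [Fin.prod_univ_succ, Fin.consEquiv]

theorem qf_real {n : ℕ} (A : Matrix (Fin n) (Fin n) ℝ) (x : Fin n → ℤ) :
    qf A (fun i => x i) = ((∑ i, ∑ j, A i j * x i * x j : ℝ) : ℂ) := by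
  simp [qf]

theorem summ_qf {n : ℕ} {A : Matrix (Fin n) (Fin n) ℝ} (hA : Coer A) {t : ℂ} (ht : 0 < t.re)
    (β : Fin n → ℂ) (γ : ℂ) :
    Summable fun x : Fin n → ℤ => ‖cexp (-t * qf A (fun i => x i) + ∑ i, β i * x i + γ)‖ := by
  obtain ⟨ε, hε, h⟩ := hA
  refine Summable.of_nonneg_of_le (fun _ => norm_nonneg _) (fun x => ?_)
    ((summ_pi (fun i k => ‖cexp (-(t.re * ε : ℝ) * k ^ 2 + β i * k + 0)‖) (fun _ _ => norm_nonneg _)
      fun i => summ_one (by rw [ofReal_re]; positivity) _ _).mul_right ‖cexp γ‖)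
  simp only [norm_exp]
  rw [← Real.exp_sum, ← Real.exp_add, Real.exp_le_exp, qf_real]
  have := mul_le_mul_of_nonneg_left (h fun i => x i) ht.le
  simp only [add_re, re_sum, add_zero, sum_add_distrib, neg_mul, neg_re, re_mul_ofReal]
  have e : ∀ i, (((t.re * ε : ℝ) : ℂ) * (x i : ℂ) ^ 2).re = t.re * ε * (x i : ℝ) ^ 2 := fun i => by
    rw [← ofReal_intCast, ← ofReal_pow, ← ofReal_mul, ofReal_re]
  simp only [e, sum_neg_distrib, ← mul_sum]
  linarith

theorem qf_add {n : ℕ} (A : Matrix (Fin n) (Fin n) ℝ) (y w : Fin n → ℂ) :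
    qf A (fun i => y i + w i) = qf A y + ∑ i, (∑ j, ((A i j : ℂ) + A j i) * w j) * y i + qf A w := by
  simp only [qf, sum_mul, add_mul, mul_add, sum_add_distrib]
  rw [sum_comm (f := fun i j => (A j i : ℂ) * w j * y i)]
  have : ∑ i, ∑ j, (A i j : ℂ) * y i * w j = ∑ i, ∑ j, (A i j : ℂ) * w j * y i :=
    sum_congr rfl fun _ _ => sum_congr rfl fun _ _ => by ring
  rw [this]; ring

theorem summ_shift {n : ℕ} {A : Matrix (Fin n) (Fin n) ℝ} (hA : Coer A) {t : ℂ} (ht : 0 < t.re)
    (w : Fin n → ℂ) : Summable fun x : Fin n → ℤ => cexp (-t * qf A (fun i => x i + w i)) := by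
  refine (summ_qf hA ht (fun i => -t * ∑ j, ((A i j : ℂ) + A j i) * w j) (-t * qf A w)).of_norm.congr
    fun x => ?_
  rw [qf_add, mul_add, mul_add, mul_sum]
  simp only [mul_assoc]

theorem qf_cons {n : ℕ} {A : Matrix (Fin (n + 1)) (Fin (n + 1)) ℝ} (hA : A.IsSymm) (u : ℂ)
    (x : Fin n → ℂ) : qf A (Fin.cons u x) = A 0 0 * u ^ 2 + 2 * u * ∑ i, (A 0 i.succ : ℂ) * x i +
      qf (A.submatrix Fin.succ Fin.succ) x := by
  simp only [qf, Fin.sum_univ_succ, Fin.cons_zero, Fin.cons_succ, sum_add_distrib,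
    Matrix.submatrix_apply, hA.apply 0 (Fin.succ _), mul_sum]
  have : ∑ i, 2 * u * ((A 0 i.succ : ℂ) * x i) =
      ∑ i, (A 0 i.succ : ℂ) * u * x i + ∑ i, (A 0 i.succ : ℂ) * x i * u := by
    rw [← sum_add_distrib]; exact sum_congr rfl fun _ _ => by ring
  rw [this]; ring

/-- the Schur complement -/
noncomputable def schur {n : ℕ} (A : Matrix (Fin (n + 1)) (Fin (n + 1)) ℝ) :
    Matrix (Fin n) (Fin n) ℝ :=
  Matrix.of fun i j => A i.succ j.succ - A 0 i.succ * A 0 j.succ / A 0 0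

theorem qf_schur {n : ℕ} (A : Matrix (Fin (n + 1)) (Fin (n + 1)) ℝ) (x : Fin n → ℂ) :
    qf (schur A) x = qf (A.submatrix Fin.succ Fin.succ) x -
      (∑ i, (A 0 i.succ : ℂ) * x i) ^ 2 / A 0 0 := by
  simp only [qf, schur, Matrix.of_apply, Matrix.submatrix_apply, sq, sum_mul_sum, sum_div,
    ← sum_sub_distrib]
  refine sum_congr rfl fun _ _ => sum_congr rfl fun _ _ => ?_
  push_cast; ring

theorem coer_iff {n : ℕ} {A : Matrix (Fin n) (Fin n) ℝ} : Coer A ↔
    ∃ ε > 0, ∀ x : Fin n → ℝ, ε * ∑ i, x i ^ 2 ≤ (qf A fun i => x i).re := by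
  have : ∀ x : Fin n → ℝ, (qf A fun i => x i).re = ∑ i, ∑ j, A i j * x i * x j := fun x => by
    rw [show (qf A fun i => x i) = ((∑ i, ∑ j, A i j * x i * x j : ℝ) : ℂ) by simp [qf], ofReal_re]
  simp only [Coer, this]

theorem Coer.pos {n : ℕ} {A : Matrix (Fin (n + 1)) (Fin (n + 1)) ℝ} (h : Coer A) : 0 < A 0 0 := by
  obtain ⟨ε, hε, h⟩ := h
  have := h (Fin.cons 1 0)
  simp [Fin.sum_univ_succ] at this
  linarith

theorem Coer.sub {n : ℕ} {A : Matrix (Fin (n + 1)) (Fin (n + 1)) ℝ} (h : Coer A) :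
    Coer (A.submatrix Fin.succ Fin.succ) := by
  obtain ⟨ε, hε, h⟩ := h
  exact ⟨ε, hε, fun x => by simpa [Fin.sum_univ_succ] using h (Fin.cons 0 x)⟩

theorem Coer.schur {n : ℕ} {A : Matrix (Fin (n + 1)) (Fin (n + 1)) ℝ} (hs : A.IsSymm) (h : Coer A) :
    Coer (schur A) := by
  have ha : (A 0 0 : ℂ) ≠ 0 := ofReal_ne_zero.2 h.pos.ne'
  obtain ⟨ε, hε, h⟩ := coer_iff.1 h
  refine coer_iff.2 ⟨ε, hε, fun x => ?_⟩
  have := h (Fin.cons (-(∑ i, A 0 i.succ * x i) / A 0 0) x)
  rw [show (fun i => ((Fin.cons (-(∑ i, A 0 i.succ * x i) / A 0 0) x : Fin (n + 1) → ℝ) i : ℂ)) =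
    Fin.cons (-(∑ i, (A 0 i.succ : ℂ) * x i) / A 0 0) fun i => (x i : ℂ) from
      funext fun i => by cases i using Fin.cases <;> simp, qf_cons hs] at this
  rw [qf_schur]
  refine le_trans ?_ (this.trans (le_of_eq (congrArg re ?_)))
  · rw [Fin.sum_univ_succ]
    simp only [Fin.cons_zero, Fin.cons_succ]
    nlinarith [sq_nonneg (-(∑ i, A 0 i.succ * x i) / A 0 0)]
  · field_simp; ring

theorem cpow_mul_half {t : ℂ} (ht : t ≠ 0) {a : ℝ} (ha : 0 < a) :
    (t * a) ^ (1 / 2 : ℂ) = t ^ (1 / 2 : ℂ) * (a : ℂ) ^ (1 / 2 : ℂ) := by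
  have h : (a : ℂ) ≠ 0 := ofReal_ne_zero.2 ha.ne'
  rw [cpow_def_of_ne_zero (mul_ne_zero ht h), cpow_def_of_ne_zero ht, cpow_def_of_ne_zero h,
    log_mul_ofReal a ha t ht, ← Complex.exp_add, ofReal_log ha.le]
  congr 1; ring

theorem poisson {n : ℕ} (A C : Matrix (Fin n) (Fin n) ℝ) (hA : A.IsSymm) (hC : C.IsSymm)
    (cA : Coer A) (cC : Coer C) (hAC : A * C = 1) : ∃ c : ℂ, ∀ t : ℂ, 0 < t.re → ∀ b : Fin n → ℂ,
    ∑' x : Fin n → ℤ, cexp (-π * t * qf A (fun i => x i) + 2 * π * ∑ i, b i * x i) =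
      c / (t ^ (1 / 2 : ℂ)) ^ n *
        ∑' y : Fin n → ℤ, cexp (-π / t * qf C (fun i => y i + I * b i)) := by
  induction n with
  | zero => exact ⟨1, fun t _ b => by simp [qf]⟩
  | succ n ih =>
    have ha0 := cA.pos
    have ha : (A 0 0 : ℂ) ≠ 0 := ofReal_ne_zero.2 ha0.ne'
    have r0 : ∀ j : Fin n, C 0 j.succ = -(∑ k : Fin n, A 0 k.succ * C k.succ j.succ) / A 0 0 := fun j => by
      have := congrFun (congrFun hAC 0) j.succ
      rw [Matrix.mul_apply, Fin.sum_univ_succ, Matrix.one_apply_ne (Fin.succ_ne_zero j).symm] at this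
      field_simp; linarith
    have r1 : C 0 0 = (1 - ∑ k : Fin n, A 0 k.succ * C 0 k.succ) / A 0 0 := by
      have := congrFun (congrFun hAC 0) 0
      rw [Matrix.mul_apply, Fin.sum_univ_succ, Matrix.one_apply_eq] at this
      simp only [hC.apply 0 (Fin.succ _)] at this
      field_simp; linarith
    obtain ⟨c, hc⟩ := ih (schur A) (C.submatrix Fin.succ Fin.succ)
      (Matrix.IsSymm.ext fun i j => by simp [schur, hA.apply i.succ j.succ, mul_comm])
      (hC.submatrix _) (cA.schur hA) cC.sub (by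
        ext i j
        have := congrFun (congrFun hAC i.succ) j.succ
        rw [Matrix.mul_apply, Fin.sum_univ_succ, r0, hA.apply 0 i.succ] at this
        rw [Matrix.mul_apply, show (1 : Matrix (Fin n) (Fin n) ℝ) i j =
          (1 : Matrix (Fin (n + 1)) (Fin (n + 1)) ℝ) i.succ j.succ by simp [Matrix.one_apply], ← this]
        simp only [schur, Matrix.of_apply, Matrix.submatrix_apply, sub_mul, sum_sub_distrib,
          neg_div, mul_neg, sum_div, mul_sum]
        rw [sub_eq_neg_add]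
        congr 2
        exact sum_congr rfl fun _ _ => by ring)
    refine ⟨c / (A 0 0 : ℂ) ^ (1 / 2 : ℂ), fun t ht b => ?_⟩
    have ht0 : t ≠ 0 := fun e => by simp [e] at ht
    have hπ : 0 < (π * t).re := by rw [re_ofReal_mul]; exact mul_pos Real.pi_pos ht
    have hπ' : 0 < (π / t).re := by
      rw [div_eq_mul_inv, re_ofReal_mul, inv_re]
      exact mul_pos Real.pi_pos (div_pos ht (normSq_pos.2 ht0))
    have hta : 0 < (t * A 0 0).re := by rw [re_mul_ofReal]; exact mul_pos ht ha0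
    have cc : ∀ (u : ℤ) (x : Fin n → ℤ), (fun i => (((Fin.consEquiv fun _ => ℤ) (u, x) i : ℤ) : ℂ)) =
        Fin.cons (u : ℂ) fun i => (x i : ℂ) := fun u x =>
      funext fun i => by cases i using Fin.cases <;> simp [Fin.consEquiv]
    -- the mixed family
    let F : ℤ → (Fin n → ℤ) → ℂ := fun y x => cexp (-π * t * qf (schur A) (fun i => x i) +
      2 * π * ∑ i, (b i.succ + I * (y + I * b 0) * A 0 i.succ / A 0 0) * x i) *
      cexp (-π / (t * A 0 0) * (y + I * b 0) ^ 2)
    have sF : Summable (Function.uncurry F) := by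
      have h1 := summ_one (c := π / (t * A 0 0)) (by
        rw [div_eq_mul_inv, re_ofReal_mul, inv_re]
        exact mul_pos Real.pi_pos (div_pos hta (normSq_pos.2 (mul_ne_zero ht0 ha))))
        (-π / (t * A 0 0) * (2 * I * b 0)) (-π / (t * A 0 0) * (I * b 0) ^ 2)
      have h2 := summ_qf (cA.schur hA) hπ
        (fun i => 2 * π * (b i.succ - b 0 * A 0 i.succ / A 0 0)) 0
      refine Summable.of_norm ((h1.mul_of_nonneg h2 (fun _ => norm_nonneg _)
        fun _ => norm_nonneg _).congr fun p => ?_)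
      obtain ⟨y, x⟩ := p
      simp only [F, Function.uncurry_apply_pair, norm_mul]
      rw [mul_comm]
      congr 1
      · rw [← mul_one ‖_‖, ← norm_exp_ofReal_mul_I (2 * π * ∑ i, y * A 0 i.succ / A 0 0 * x i),
          ← norm_mul, ← Complex.exp_add]
        congr 2
        push_cast
        simp only [mul_sum, sum_mul, add_assoc, zero_add, ← sum_add_distrib]
        congr 1
        · ring
        · refine sum_congr rfl fun i _ => ?_
          linear_combination (-2 * π * b 0 * A 0 i.succ / A 0 0 * x i) * I_sq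
      · congr 2; ring
    have s1 : Summable fun x : Fin (n + 1) → ℤ =>
        cexp (-π * t * qf A (fun i => x i) + 2 * π * ∑ i, b i * x i) :=
      (summ_qf cA hπ (fun i => 2 * π * b i) 0).of_norm.congr fun x => by
        simp only [mul_sum, add_zero, mul_assoc, neg_mul]
    have s2 : Summable fun y : Fin (n + 1) → ℤ => cexp (-π / t * qf C (fun i => y i + I * b i)) :=
      (summ_shift cC hπ' fun i => I * b i).congr fun x => by rw [neg_div]
    rw [← (Fin.consEquiv fun _ => ℤ).tsum_eq, ← (Fin.consEquiv fun _ => ℤ).tsum_eq]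
    rw [← (Fin.consEquiv fun _ => ℤ).summable_iff] at s1 s2
    simp only [Function.comp_def] at s1 s2
    rw [s2.tsum_prod, ← (Equiv.prodComm _ _).tsum_eq]
    simp only [Equiv.prodComm_apply]
    rw [s1.prod_symm.tsum_prod]
    have e1 : ∀ x : Fin n → ℤ, ∑' u : ℤ, cexp (-π * t * qf A (Fin.cons (u : ℂ) fun i => (x i : ℂ)) +
        2 * π * ∑ i, b i * (Fin.cons (u : ℂ) (fun i => (x i : ℂ)) : Fin (n + 1) → ℂ) i) =
        1 / (t * A 0 0) ^ (1 / 2 : ℂ) * ∑' y : ℤ, F y x := fun x => by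
      have := congrArg (· * cexp (-π * t * qf (A.submatrix Fin.succ Fin.succ) (fun i => x i) +
        2 * π * ∑ i, b i.succ * x i))
        (tsum_exp_neg_quadratic hta (b 0 - t * ∑ i, (A 0 i.succ : ℂ) * x i))
      simp only [mul_assoc (1 / _ : ℂ), ← tsum_mul_right, ← Complex.exp_add] at this
      refine (tsum_congr fun u => congrArg cexp ?_).trans
        (this.trans (congrArg _ (tsum_congr fun y => ?_)))
      · rw [qf_cons hA, Fin.sum_univ_succ]
        simp only [Fin.cons_zero, Fin.cons_succ]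
        ring
      · simp only [F, ← Complex.exp_add]
        congr 1
        rw [qf_schur]
        have : ∑ i, (b i.succ + I * (y + I * b 0) * A 0 i.succ / A 0 0) * x i =
            ∑ i, b i.succ * x i + I * (y + I * b 0) / A 0 0 * ∑ i, (A 0 i.succ : ℂ) * x i := by
          rw [mul_sum, ← sum_add_distrib]
          exact sum_congr rfl fun _ _ => by ring
        rw [this]
        generalize ∑ i, (A 0 i.succ : ℂ) * x i = ρ
        field_simp
        linear_combination (-t ^ 2 * ρ ^ 2) * I_sq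
    have e2 : ∀ y : ℤ, ∑' x, F y x = c / (t ^ (1 / 2 : ℂ)) ^ n * ∑' z : Fin n → ℤ,
        cexp (-π / t * qf C (Fin.cons (y + I * b 0) fun i => z i + I * b i.succ)) := fun y => by
      simp only [F]
      rw [tsum_mul_right, hc t ht, mul_assoc, ← tsum_mul_right]
      congr 2
      funext z
      rw [← Complex.exp_add, qf_cons hC]
      congr 1
      generalize (y : ℂ) + I * b 0 = u
      rw [show (fun i => (z i : ℂ) + I * (b i.succ + I * u * A 0 i.succ / A 0 0)) =
        fun i => ((z i : ℂ) + I * b i.succ) + -(u / A 0 0 * A 0 i.succ) from funext fun i => by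
          linear_combination (u * A 0 i.succ / A 0 0) * I_sq, qf_add]
      generalize (fun i => (z i : ℂ) + I * b i.succ) = w
      have a1 : ∀ i : Fin n, ∑ j, (((C.submatrix Fin.succ Fin.succ i j : ℝ) : ℂ) +
          C.submatrix Fin.succ Fin.succ j i) * -(u / A 0 0 * A 0 j.succ) = 2 * u * C 0 i.succ :=
        fun i => by
          rw [r0]
          push_cast
          simp only [Matrix.submatrix_apply, hC.apply i.succ (Fin.succ _), neg_div, sum_div,
            mul_neg, mul_sum, sum_neg_distrib]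
          congr 1
          exact sum_congr rfl fun j _ => by ring
      have a2 : qf (C.submatrix Fin.succ Fin.succ) (fun i => -(u / A 0 0 * A 0 i.succ)) =
          C 0 0 * u ^ 2 - u ^ 2 / A 0 0 := by
        rw [r1]
        simp only [r0]
        push_cast
        simp only [qf, Matrix.submatrix_apply, neg_div, mul_neg, neg_mul, neg_neg, sum_neg_distrib, sub_neg_eq_add,
          add_div, add_mul, sum_div, mul_sum, sum_mul]
        rw [sum_comm, show 1 / (A 0 0 : ℂ) * u ^ 2 = u ^ 2 / A 0 0 by ring, add_sub_cancel_left]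
        exact sum_congr rfl fun i _ => sum_congr rfl fun j _ => by ring
      simp only [a1, a2, mul_sum, mul_assoc]
      field_simp
      ring
    simp only [Prod.swap_prod_mk]
    have e3 : ∀ (y : ℤ) (z : Fin n → ℤ), (fun i => (((Fin.consEquiv fun _ => ℤ) (y, z) i : ℤ) : ℂ) +
        I * b i) = Fin.cons (y + I * b 0) fun i => (z i : ℂ) + I * b i.succ := fun u x =>
      funext fun i => by cases i using Fin.cases <;> simp [Fin.consEquiv]
    simp only [e3]
    simp only [cc, fun u x i => congrFun (cc u x) i, e1]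
    rw [tsum_mul_left, sF.tsum_comm]
    simp only [e2]
    rw [tsum_mul_left, cpow_mul_half ht0 ha0, ← mul_assoc, pow_succ]
    congr 1
    ring

end Cfsg.Agent.Lee
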