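/-
The theta series of an even unimodular lattice of rank 24.
-/
import Cfsg.Agent.Lee.Pois

set_option autoImplicit false

namespace Cfsg.Agent.Lee

open Complex Finset Matrix
open scoped Real MatrixGroups ModularForm Manifold

theorem coer_of_pos {n : ℕ} {A : Matrix (Fin (n + 1)) (Fin (n + 1)) ℝ}
    (h : ∀ x : Fin (n + 1) → ℝ, x ≠ 0 → 0 < ∑ i, ∑ j, A i j * x i * x j) : Coer A := by
  obtain ⟨z, hz, hm⟩ := (isCompact_sphere (0 : Fin (n + 1) → ℝ) 1).exists_isMinOn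
    (f := fun x => ∑ i, ∑ j, A i j * x i * x j) (NormedSpace.sphere_nonempty.2 zero_le_one)
    (by fun_prop)
  have h0 := h z (fun e => by simp [e] at hz)
  refine ⟨_, div_pos h0 (by positivity : (0 : ℝ) < n + 1), fun x => ?_⟩
  by_cases hx : x = 0
  · simp [hx]
  have hn : 0 < ‖x‖ := norm_pos_iff.2 hx
  have h1 := hm (a := ‖x‖⁻¹ • x) (by simp [norm_smul, hn.ne'])
  have h2 : ∑ i, ∑ j, A i j * (‖x‖⁻¹ • x) i * (‖x‖⁻¹ • x) j =
      (∑ i, ∑ j, A i j * x i * x j) / ‖x‖ ^ 2 := by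
    simp only [sum_div, Pi.smul_apply, smul_eq_mul]
    exact sum_congr rfl fun _ _ => sum_congr rfl fun _ _ => by field_simp
  have h3 : ∑ i, x i ^ 2 ≤ (n + 1) * ‖x‖ ^ 2 := by
    have := sum_le_card_nsmul univ (fun i => x i ^ 2) (‖x‖ ^ 2) fun i _ => by
      rw [← sq_abs]; exact pow_le_pow_left₀ (abs_nonneg _) (norm_le_pi_norm x i) 2
    simpa using this
  simp only [Set.mem_ofPred_eq] at h1
  rw [h2, le_div_iff₀ (by positivity)] at h1
  rw [div_mul_eq_mul_div, div_le_iff₀ (by positivity)]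
  nlinarith

theorem dot_eq {n : ℕ} {R : Type*} [CommRing R] (A : Matrix (Fin n) (Fin n) R) (x : Fin n → R) :
    x ⬝ᵥ A *ᵥ x = ∑ i, ∑ j, A i j * x i * x j := by
  simp only [dotProduct, mulVec, mul_sum]
  exact sum_congr rfl fun _ _ => sum_congr rfl fun _ _ => by ring

theorem coer_int {n : ℕ} {B : Matrix (Fin (n + 1)) (Fin (n + 1)) ℤ} (hs : B.IsSymm)
    (hpos : ∀ x : Fin (n + 1) → ℤ, x ≠ 0 → 0 < x ⬝ᵥ B *ᵥ x) (hd : B.det ≠ 0) :
    Coer (B.map (Int.cast : ℤ → ℝ)) := by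
  have h0 : ∀ x : Fin (n + 1) → ℝ, 0 ≤ ∑ i, ∑ j, (B i j : ℝ) * x i * x j := fun x => by
    refine (DenseRange.piMap (f := fun _ => ((↑) : ℚ → ℝ)) fun _ => Rat.denseRange_cast).induction_on
      x (isClosed_le continuous_const (by fun_prop)) fun q => ?_
    obtain ⟨d, hd⟩ := IsLocalization.exist_integer_multiples_of_finite (nonZeroDivisors ℤ) q
    choose z hz using hd
    have h1 : (0 : ℝ) ≤ (z ⬝ᵥ B *ᵥ z : ℤ) := by
      by_cases e : z = 0
      · simp [e]
      · exact_mod_cast (hpos z e).le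
    have h2 : ∀ i, (z i : ℝ) = (d : ℤ) * (q i : ℝ) := fun i => by
      have := congrArg ((↑) : ℚ → ℝ) (hz i)
      simpa using this
    have h3 : (0 : ℝ) < ((d : ℤ) : ℝ) ^ 2 := by
      have := nonZeroDivisors.coe_ne_zero d
      positivity
    rw [dot_eq] at h1
    push_cast at h1
    refine nonneg_of_mul_nonneg_right (le_of_le_of_eq h1 ?_) h3
    simp only [h2, mul_sum, Pi.map_apply]
    exact sum_congr rfl fun _ _ => sum_congr rfl fun _ _ => by ring
  have h1 : (B.map (Int.cast : ℤ → ℝ)).PosSemidef := by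
    refine Matrix.PosSemidef.of_dotProduct_mulVec_nonneg (by simpa using hs.map _) fun x => ?_
    rw [star_trivial, dot_eq]; exact h0 x
  have h2 := h1.posDef_iff_det_ne_zero.2 (by
    rw [show B.map (Int.cast : ℤ → ℝ) = (Int.castRingHom ℝ).mapMatrix B from rfl, ← RingHom.map_det]
    simpa using hd)
  refine coer_of_pos fun x hx => ?_
  have := h2.dotProduct_mulVec_pos hx
  rwa [star_trivial, dot_eq] at this

theorem qf_int {n : ℕ} (B : Matrix (Fin n) (Fin n) ℤ) (x : Fin n → ℤ) :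
    qf (B.map (Int.cast : ℤ → ℝ)) (fun i => x i) = (x ⬝ᵥ B *ᵥ x : ℤ) := by
  simp [qf, dot_eq]

/-- the Gaussian sum -/
noncomputable def gs {n : ℕ} (B : Matrix (Fin n) (Fin n) ℤ) (t : ℂ) : ℂ :=
  ∑' x : Fin n → ℤ, cexp (-π * t * (x ⬝ᵥ B *ᵥ x : ℤ))

theorem summ_gs {n : ℕ} {B : Matrix (Fin n) (Fin n) ℤ} (h : Coer (B.map (Int.cast : ℤ → ℝ)))
    {t : ℂ} (ht : 0 < t.re) : Summable fun x : Fin n → ℤ => ‖cexp (-π * t * (x ⬝ᵥ B *ᵥ x : ℤ))‖ := by
  have := summ_qf h (t := π * t) (by rw [re_ofReal_mul]; exact mul_pos Real.pi_pos ht) 0 0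
  simpa only [qf_int, Pi.zero_apply, zero_mul, sum_const_zero, add_zero, neg_mul] using this

theorem gs_inv {B : Matrix (Fin 24) (Fin 24) ℤ} (hs : B.IsSymm)
    (hpos : ∀ x : Fin 24 → ℤ, x ≠ 0 → 0 < x ⬝ᵥ B *ᵥ x) (hd : B.det = 1) {t : ℂ} (ht : 0 < t.re) :
    gs B t⁻¹ = t ^ 12 * gs B t := by
  have h1 : B * B.adjugate = 1 := by rw [mul_adjugate, hd, one_smul]
  have h2 : B.adjugate * B = 1 := by rw [adjugate_mul, hd, one_smul]
  have hs' : B.adjugate.IsSymm := by rw [IsSymm, adjugate_transpose, hs.eq]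
  let e : (Fin 24 → ℤ) ≃ (Fin 24 → ℤ) := ⟨fun x => B *ᵥ x, fun x => B.adjugate *ᵥ x,
    fun x => by simp [h2], fun x => by simp [h1]⟩
  have he : ∀ x, e x ⬝ᵥ B.adjugate *ᵥ e x = x ⬝ᵥ B *ᵥ x := fun x => by
    show (B *ᵥ x) ⬝ᵥ B.adjugate *ᵥ (B *ᵥ x) = _
    rw [mulVec_mulVec, h2, one_mulVec, dotProduct_comm]
  have c1 := coer_int hs hpos (by simp [hd])
  have c2 := coer_int hs' (fun y hy => by
    obtain ⟨x, rfl⟩ := e.surjective y
    rw [he]; exact hpos x fun h => hy (by simp [h, e])) (by simp [det_adjugate, hd])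
  obtain ⟨c, hc⟩ := poisson _ _ (hs.map _) (hs'.map _) c1 c2 (by
    refine (Matrix.map_mul (f := Int.castRingHom ℝ)).symm.trans ?_
    rw [h1]; simp)
  have h3 : ∀ t : ℂ, 0 < t.re → gs B t = c / t ^ 12 * gs B t⁻¹ := fun t ht => by
    have := hc t ht 0
    simp only [Pi.zero_apply, zero_mul, mul_zero, sum_const_zero, add_zero, qf_int] at this
    rw [← e.tsum_eq (f := fun y => cexp (-π / t * (y ⬝ᵥ B.adjugate *ᵥ y : ℤ))),
      show (t ^ (1 / 2 : ℂ)) ^ 24 = t ^ 12 by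
        rw [show (24 : ℕ) = 2 * 12 from rfl, pow_mul, one_div, show (2 : ℂ) = (2 : ℕ) from rfl,
          cpow_nat_inv_pow _ two_ne_zero]] at this
    simpa only [he, gs, div_eq_mul_inv] using this
  have h4 : gs B 1 ≠ 0 := fun h => by
    have s := (summ_gs c1 (t := 1) (by simp)).of_norm
    have := (hasSum_re s.hasSum).summable.tsum_pos (fun x => ?_) 0 (by simp)
    · rw [← re_tsum s] at this
      exact this.ne' (congrArg re h)
    · rw [mul_one, ← ofReal_intCast, ← ofReal_neg, ← ofReal_mul, exp_ofReal_re]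
      exact (Real.exp_pos _).le
  have h5 := h3 1 (by simp)
  rw [inv_one, one_pow, div_one] at h5
  have h6 : c = 1 := mul_right_cancel₀ h4 (h5.symm.trans (one_mul _).symm)
  have ht0 : t ≠ 0 := fun e => by simp [e] at ht
  rw [h3 t ht, h6]
  field_simp

theorem gs_hasSum {B : Matrix (Fin 24) (Fin 24) ℤ} (h : Coer (B.map (Int.cast : ℤ → ℝ)))
    (hpos : ∀ x : Fin 24 → ℤ, x ≠ 0 → 0 < x ⬝ᵥ B *ᵥ x)
    (heven : ∀ x : Fin 24 → ℤ, (2 : ℤ) ∣ x ⬝ᵥ B *ᵥ x) (τ : UpperHalfPlane) :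
    HasSum (fun m : ℕ => (({x : Fin 24 → ℤ | x ⬝ᵥ B *ᵥ x = 2 * m}.ncard : ℕ) : ℂ) •
      Function.Periodic.qParam 1 τ ^ m) (gs B (-I * τ)) := by
  have s := summ_gs h (t := -I * τ) (by simpa using τ.im_pos)
  let f : (Fin 24 → ℤ) → ℕ := fun x => (x ⬝ᵥ B *ᵥ x / 2).toNat
  have hf : ∀ x m, f x = m ↔ x ⬝ᵥ B *ᵥ x = 2 * m := fun x m => by
    have : 0 ≤ x ⬝ᵥ B *ᵥ x := by
      by_cases e : x = 0
      · simp [e]
      · exact (hpos x e).le
    have := heven x
    simp only [f]; omega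
  have ht : ∀ (m : ℕ) (x : Fin 24 → ℤ), x ⬝ᵥ B *ᵥ x = 2 * m →
      cexp (-π * (-I * τ) * (x ⬝ᵥ B *ᵥ x : ℤ)) = Function.Periodic.qParam 1 τ ^ m := fun m x e => by
    rw [e, Function.Periodic.qParam, ← Complex.exp_nat_mul]
    congr 1; push_cast; ring
  refine ((Equiv.sigmaFiberEquiv f).hasSum_iff.2 s.of_norm.hasSum).sigma fun m => ?_
  have hfin : {x : Fin 24 → ℤ | x ⬝ᵥ B *ᵥ x = 2 * m}.Finite := by
    have := s.tendsto_cofinite_zero.eventually (gt_mem_nhds (a := ‖Function.Periodic.qParam 1 τ ^ m‖)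
      (norm_pos_iff.2 (pow_ne_zero _ (Function.Periodic.qParam_ne_zero _))))
    refine (Filter.eventually_cofinite.1 this).subset fun x hx => ?_
    rw [Set.mem_ofPred_eq, ht m x hx]; exact lt_irrefl _
  have e1 : {x | f x = m} = {x : Fin 24 → ℤ | x ⬝ᵥ B *ᵥ x = 2 * m} := Set.ext fun x => hf x m
  haveI : Finite {x // f x = m} := (e1 ▸ hfin).to_subtype
  haveI := Fintype.ofFinite {x // f x = m}
  convert hasSum_fintype _ using 1
  refine Eq.trans ?_ (sum_congr rfl fun (x : {x // f x = m}) _ => ht m x ((hf _ _).1 x.2)).symm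
  rw [sum_const, ← e1, card_univ, ← Nat.card_eq_fintype_card, Nat.cast_smul_eq_nsmul]
  rfl

/-- the theta series as a modular form -/
noncomputable def theta {B : Matrix (Fin 24) (Fin 24) ℤ} (hs : B.IsSymm)
    (hpos : ∀ x : Fin 24 → ℤ, x ≠ 0 → 0 < x ⬝ᵥ B *ᵥ x)
    (heven : ∀ x : Fin 24 → ℤ, (2 : ℤ) ∣ x ⬝ᵥ B *ᵥ x) (hd : B.det = 1) : ModularForm 𝒮ℒ 12 :=
  have c1 := coer_int hs hpos (by simp [hd])
  have hS : (fun τ : UpperHalfPlane => gs B (-I * τ)) ∣[(12 : ℤ)] ModularGroup.S =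
      fun τ : UpperHalfPlane => gs B (-I * τ) := by
    ext z
    have := gs_inv hs hpos hd (t := -I * z) (by simpa using z.im_pos)
    have hz := z.ne_zero
    rw [ModularForm.SL_slash_apply, UpperHalfPlane.modular_S_smul]
    simp only [UpperHalfPlane.coe_mk]
    rw [show -I * (-(z : ℂ))⁻¹ = (-I * z)⁻¹ by field_simp; simp, this, mul_pow,
      show (-I) ^ 12 = (I ^ 4) ^ 3 by ring, I_pow_four]
    simp [ModularGroup.denom_S]
    field_simp
  have hT : (fun τ : UpperHalfPlane => gs B (-I * τ)) ∣[(12 : ℤ)] ModularGroup.T =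
      fun τ : UpperHalfPlane => gs B (-I * τ) := by
    ext z
    rw [ModularForm.SL_slash_apply, UpperHalfPlane.modular_T_smul,
      ← (gs_hasSum c1 hpos heven _).tsum_eq, ← (gs_hasSum c1 hpos heven _).tsum_eq,
      ModularGroup.denom_apply]
    simp [ModularGroup.T, Function.Periodic.qParam, mul_add, Complex.exp_add]
  { toFun := fun τ => gs B (-I * τ)
    slash_action_eq' := fun A hA => by
      obtain ⟨A, rfl⟩ := hA
      exact SlashInvariantForm.slash_action_generators_SL2Z hS hT A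
    holo' := by
      rw [UpperHalfPlane.mdifferentiable_iff]
      refine DifferentiableOn.congr (f := fun z => gs B (-I * z)) (fun z hz => ?_) fun z hz => by
        simp [UpperHalfPlane.ofComplex_apply_of_im_pos hz]
      have hz' : 0 < z.im := hz
      refine ((differentiableOn_tsum_of_summable_norm (U := {w | z.im / 2 < w.im})
        (summ_gs c1 (t := (z.im / 2 : ℝ)) (by rw [ofReal_re]; linarith))
        (fun x => by fun_prop) (isOpen_lt continuous_const continuous_im)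
        fun x w hw => ?_).differentiableAt ((isOpen_lt continuous_const continuous_im).mem_nhds
          (by show z.im / 2 < z.im; linarith))).differentiableWithinAt
      have : (0 : ℝ) ≤ (x ⬝ᵥ B *ᵥ x : ℤ) := by
        by_cases e : x = 0
        · simp [e]
        · exact_mod_cast (hpos x e).le
      rw [norm_exp, norm_exp, Real.exp_le_exp, ← ofReal_intCast, re_mul_ofReal, re_mul_ofReal,
        ← ofReal_neg, re_ofReal_mul, re_ofReal_mul, ofReal_re]
      refine mul_le_mul_of_nonneg_right ?_ this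
      have : z.im / 2 < w.im := hw
      simp only [neg_mul, neg_re, mul_re, I_re, I_im]
      nlinarith [Real.pi_pos]
    bdd_at_cusps' := fun hc => by
      rw [OnePoint.isBoundedAt_iff_forall_SL2Z hc]
      intro γ _
      rw [SlashInvariantForm.slash_action_generators_SL2Z hS hT]
      exact UpperHalfPlane.isBoundedAtImInfty_of_hasSum_qExpansion one_pos
        (gs_hasSum c1 hpos heven) }

theorem theta_coeff {B : Matrix (Fin 24) (Fin 24) ℤ} (hs : B.IsSymm)
    (hpos : ∀ x : Fin 24 → ℤ, x ≠ 0 → 0 < x ⬝ᵥ B *ᵥ x)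
    (heven : ∀ x : Fin 24 → ℤ, (2 : ℤ) ∣ x ⬝ᵥ B *ᵥ x) (hd : B.det = 1) (m : ℕ) :
    (UpperHalfPlane.qExpansion 1 (theta hs hpos heven hd)).coeff m =
      ({x : Fin 24 → ℤ | x ⬝ᵥ B *ᵥ x = 2 * m}.ncard : ℕ) :=
  (ModularFormClass.qExpansion_coeff_unique one_pos one_mem_strictPeriods_SL
    (f := theta hs hpos heven hd) (gs_hasSum (coer_int hs hpos (by simp [hd])) hpos heven) m).symm

end Cfsg.Agent.Lee
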